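import Cfsg.Agent.Lib.Helper26.LeechDot2
import Cfsg.Agent.Lib.Conway.Trans4

/-! The number of lattice vectors with given sum of squares and inner product against `(α, β^23)` as a
kernel-computable number; invariance of such counts under `Co0`. -/

set_option autoImplicit false

namespace Cfsg.Agent.Lib.Helper26.LeechDot

open Cfsg Cfsg.Agent.Lib.Golay Cfsg.Agent.Lib.Golay.LeechCount Cfsg.Agent.Lib.Helper93.Leech
open Cfsg.Agent.Lib.Conway

/-- the sum over the classes of code words -/
def clsum (F : ℕ → Bool → ℕ) : ℕ :=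
  F 0 false + 253 * F 8 true + 506 * F 8 false + 1288 * F 12 true + 1288 * F 12 false +
    506 * F 16 true + 253 * F 16 false + F 24 true

/-- the total count: `a r`, `b r` are the generating numbers of the values `≡ r mod 4` at the special
coordinate and at the other coordinates -/
def totalD (a0 a1 a2 a3 b0 b1 b2 b3 k : ℕ) : ℕ :=
  clsum (cntD a2 a0 b2 b0 k) + clsum (cntD a3 a1 b3 b1 k)

theorem ncard_SD_eq (α β : ℤ) (hZ : 2 * Zc α β < 400) (N' : ℕ) (hN : N' ≤ 35) (d : ℤ)
    (hd0 : 0 ≤ d + Zc α β) (hd1 : d + Zc α β < 400)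
    (hsum : ∀ m : ℤ, m = 0 ∨ m = 1 → ∀ (c : Finset GolayPt), ∀ x ∈ box K5 m c,
      dotInt (zv α β) x = d → (∑ i, x i) % 8 = (4 * m) % 8) :
    (SD α β N' d).ncard =
      totalD (gz α 0) (gz α 1) (gz α 2) (gz α 3) (gz β 0) (gz β 1) (gz β 2) (gz β 3)
        (400 * N' + (d + Zc α β).toNat) := by
  rw [ncard_SD α β N' hN, Finset.sum_insert (by decide), Finset.sum_singleton]
  have h : ∀ m : ℤ, m = 0 ∨ m = 1 → ∑ n ∈ Finset.range 4096,
      ((fib K5 N' m (cwSet n)).filter (fun x => dotInt (zv α β) x = d)).card =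
        clsum (cntD (gz α (m + 2)) (gz α m) (gz β (m + 2)) (gz β m)
          (400 * N' + (d + Zc α β).toNat)) := by
    intro m hm
    have h1 : ∀ n ∈ Finset.range 4096,
        ((fib K5 N' m (cwSet n)).filter (fun x => dotInt (zv α β) x = d)).card =
          cntD (gz α (m + 2)) (gz α m) (gz β (m + 2)) (gz β m) (400 * N' + (d + Zc α β).toNat)
            (popcount (encode n)) ((encode n).testBit 23) := by
      intro n _
      rw [card_fib_dot α β hZ N' d m (cwSet n) hd0 hd1 (hsum m hm (cwSet n)), card_box_filter_dot,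
        card_cwSet, none_mem_cwSet]
    rw [Finset.sum_congr rfl h1, sum_by_class]
    rfl
  rw [h 0 (Or.inl rfl), h 1 (Or.inr rfl)]
  have e0 : (0 : ℤ) + 2 = 2 := by norm_num
  have e1 : (1 : ℤ) + 2 = 3 := by norm_num
  rw [e0, e1]
  rfl

/-! ### invariance under `Co0` -/

theorem sqNorm_add (x y : Vec) : sqNorm (x + y) = sqNorm x + 2 * dotInt x y + sqNorm y := by
  unfold sqNorm dotInt
  rw [Finset.mul_sum, ← Finset.sum_add_distrib, ← Finset.sum_add_distrib]
  apply Finset.sum_congr rfl
  intro i _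
  simp only [Pi.add_apply]
  ring

theorem co0_dot (g : Co0) (x y : leechLattice) :
    dotInt ((g • x : leechLattice) : Vec) ((g • y : leechLattice) : Vec) = dotInt (x : Vec) (y : Vec) := by
  have h1 := sqNorm_add ((g • x : leechLattice) : Vec) ((g • y : leechLattice) : Vec)
  have h2 := sqNorm_add (x : Vec) (y : Vec)
  have h3 : ((g • x : leechLattice) : Vec) + ((g • y : leechLattice) : Vec) =
      ((g • (x + y) : leechLattice) : Vec) := by
    rw [co0_add]; rfl
  have h4 : (x : Vec) + (y : Vec) = ((x + y : leechLattice) : Vec) := rfl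
  rw [h3, co0_norm, co0_norm, co0_norm] at h1
  rw [h4] at h2
  omega

/-- the census of the vectors of a given sum of squares by their inner product with `v` depends only
on the orbit of `v` under `Co0` -/
theorem ncard_dot_congr (g : Co0) (v0 : leechLattice) (N d : ℤ) :
    {w : Vec | w ∈ leechLattice ∧ sqNorm w = N ∧ dotInt ((g • v0 : leechLattice) : Vec) w = d}.ncard =
      {w : Vec | w ∈ leechLattice ∧ sqNorm w = N ∧ dotInt (v0 : Vec) w = d}.ncard := by
  symm
  apply Set.ncard_congr (fun w hw => ((g • (⟨w, hw.1⟩ : leechLattice) : leechLattice) : Vec))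
  · rintro w ⟨h1, h2, h3⟩
    refine ⟨(g • (⟨w, h1⟩ : leechLattice)).2, ?_, ?_⟩
    · rw [co0_norm]; exact h2
    · rw [co0_dot]; exact h3
  · intro w w' hw hw' h
    have : g • (⟨w, hw.1⟩ : leechLattice) = g • (⟨w', hw'.1⟩ : leechLattice) := Subtype.ext h
    have := smul_left_cancel g this
    exact congrArg Subtype.val this
  · rintro w ⟨h1, h2, h3⟩
    refine ⟨((g⁻¹ • (⟨w, h1⟩ : leechLattice) : leechLattice) : Vec),
      ⟨(g⁻¹ • (⟨w, h1⟩ : leechLattice)).2, ?_, ?_⟩, ?_⟩
    · rw [co0_norm]; exact h2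
    · have := co0_dot g⁻¹ (g • v0) ⟨w, h1⟩
      rw [inv_smul_smul] at this
      rw [this]; exact h3
    · show ((g • (⟨_, _⟩ : leechLattice) : leechLattice) : Vec) = w
      have : (⟨((g⁻¹ • (⟨w, h1⟩ : leechLattice) : leechLattice) : Vec),
          (g⁻¹ • (⟨w, h1⟩ : leechLattice)).2⟩ : leechLattice) = g⁻¹ • (⟨w, h1⟩ : leechLattice) := rfl
      rw [this, smul_inv_smul]

end Cfsg.Agent.Lib.Helper26.LeechDot
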