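import Cfsg.Agent.Lib.Helper26.Rigid

set_option autoImplicit false

namespace Cfsg.Agent.Lib.Helper26

open Cfsg
open scoped Pointwise

/-- the propagation steps showing that fixing `∞, 0, 1, 2, 3, 4, 5` forces the identity. -/
def rigidSteps7 : List (ℕ × ℕ) :=
  [(5279, 8391797), (5279, 8421811), (5279, 5279), (10558, 42232), (8660134, 8660134),
   (10558, 133817), (10558, 10558), (262637, 262637), (36294, 36294), (18147, 69395),
   (18147, 18147), (69395, 69395), (133817, 133817), (525274, 525274), (1050548, 1050548),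
   (2101096, 2101096), (4196943, 4196943)]

theorem rigid7_check : runSteps 8388671 rigidSteps7 = 16777215 := by decide +kernel

/-- an element of `M24` fixing the seven base points is the identity. -/
theorem fixK7_trivial {g : Equiv.Perm GolayPt} (hg : g ∈ fixK [5, 4, 3, 2, 1, 0, 23]) : g = 1 :=
  rigid_cert 8388671 rigidSteps7 rigid7_check hg.1 (fixesMask_of_fixK hg 8388671 (by decide +kernel))

/-- level statement from a certificate, for the listed points. -/
theorem level_cert' (k : ℕ) (l : List ℕ) (b : ℕ) (hb : b < 24) (pts : List ℕ)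
    (ws : List (List ℕ))
    (hfix : (sgs.drop k).all (fun d => d.fixesAll l) = true)
    (hcheck : checkPaths (sgs.drop k) (2 ^ b) (pts.map (2 ^ ·)) ws = true) :
    ∀ p : GolayPt, idx p ∈ pts → ∃ h ∈ fixK l, h (pt b) = p := by
  intro p hmem
  obtain ⟨g, hg, hgs⟩ := orbit_cert (sgs.drop k) (sgs_ok k) (fixK l) (sgs_mem_fixK k l hfix)
    (2 ^ b) (pts.map (2 ^ ·)) ws hcheck (2 ^ idx p) (List.mem_map.mpr ⟨idx p, hmem, rfl⟩)
  refine ⟨g, hg, ?_⟩
  rw [dec_two_pow b hb, dec_two_pow _ (idx_lt p), Finset.smul_finset_singleton, pt_idx,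
    Finset.singleton_inj] at hgs
  exact hgs

/-- the stabiliser of `pt b` in `fixK l` has the cardinality of `fixK (b :: l)`. -/
noncomputable def stabEquiv (l : List ℕ) (b : ℕ) :
    MulAction.stabilizer (fixK l) (pt b) ≃ fixK (b :: l) where
  toFun x := ⟨x.1.1, ⟨x.1.2.1, fun j hj => by
    rcases List.mem_cons.mp hj with rfl | hj
    · exact x.2
    · exact x.1.2.2 j hj⟩⟩
  invFun y := ⟨⟨y.1, ⟨y.2.1, fun j hj => y.2.2 j (List.mem_cons_of_mem _ hj)⟩⟩,
    y.2.2 b List.mem_cons_self⟩
  left_inv _ := rfl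
  right_inv _ := rfl

theorem card_fixK_cons (l : List ℕ) (b : ℕ) (S : ℕ)
    (h1 : ∀ p ∈ dec S, ∃ h ∈ fixK l, h (pt b) = p)
    (h2 : ∀ h ∈ fixK l, h (pt b) ∈ dec S) :
    Nat.card (fixK l) = pc 24 S * Nat.card (fixK (b :: l)) := by
  have horb : MulAction.orbit (fixK l) (pt b) = (dec S : Set GolayPt) := by
    ext p
    constructor
    · rintro ⟨h, rfl⟩
      exact h2 h.1 h.2
    · intro hp
      obtain ⟨h, hh, rfl⟩ := h1 p hp
      exact ⟨⟨h, hh⟩, rfl⟩
  have hidx : (MulAction.stabilizer (fixK l) (pt b)).index = pc 24 S := by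
    rw [MulAction.index_stabilizer, horb, Set.ncard_coe_finset, card_dec]
  rw [← Subgroup.card_mul_index (MulAction.stabilizer (fixK l) (pt b)), hidx,
    Nat.card_congr (stabEquiv l b), mul_comm]

theorem mem_dec_compl_iff (l : List ℕ) (S : ℕ) (hl : ∀ j ∈ l, j < 24)
    (hS : (List.range 24).all (fun i => S.testBit i == !l.contains i) = true) (p : GolayPt) :
    p ∈ dec S ↔ ∀ j ∈ l, p ≠ pt j := by
  have := List.all_eq_true.mp hS (idx p) (List.mem_range.mpr (idx_lt p))
  rw [beq_iff_eq] at this
  rw [mem_dec, this]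
  simp only [Bool.not_eq_true', List.contains_eq_mem, decide_eq_false_iff_not]
  constructor
  · intro h j hj hpj
    apply h
    rw [hpj, idx_pt j (hl j hj)]
    exact hj
  · intro h hmem
    exact h _ hmem (pt_idx p).symm

theorem card_fixK_cons_compl (l : List ℕ) (b : ℕ) (S : ℕ) (hl : ∀ j ∈ l, j < 24) (hb : b < 24)
    (hbl : b ∉ l)
    (hS : (List.range 24).all (fun i => S.testBit i == !l.contains i) = true)
    (hlevel : ∀ p : GolayPt, (∀ j ∈ l, p ≠ pt j) → ∃ h ∈ fixK l, h (pt b) = p) :
    Nat.card (fixK l) = pc 24 S * Nat.card (fixK (b :: l)) := by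
  apply card_fixK_cons
  · intro p hp
    exact hlevel p ((mem_dec_compl_iff l S hl hS p).mp hp)
  · intro h hh
    rw [mem_dec_compl_iff l S hl hS]
    intro j hj hpj
    rw [← hh.2 j hj] at hpj
    have := h.injective hpj
    have h2 : b = j := by
      rw [← idx_pt b hb, ← idx_pt j (hl j hj), this]
    exact hbl (h2 ▸ hj)

theorem card0 : Nat.card (fixK []) = 24 * Nat.card (fixK [23]) :=
  card_fixK_cons_compl [] 23 16777215 (by decide) (by norm_num) (by decide) (by decide +kernel) level0

theorem card1 : Nat.card (fixK [23]) = 23 * Nat.card (fixK [0, 23]) :=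
  card_fixK_cons_compl [23] 0 8388607 (by decide) (by norm_num) (by decide) (by decide +kernel) level1

theorem card2 : Nat.card (fixK [0, 23]) = 22 * Nat.card (fixK [1, 0, 23]) :=
  card_fixK_cons_compl [0, 23] 1 8388606 (by decide) (by norm_num) (by decide) (by decide +kernel)
    level2

theorem card3 : Nat.card (fixK [1, 0, 23]) = 21 * Nat.card (fixK [2, 1, 0, 23]) :=
  card_fixK_cons_compl [1, 0, 23] 2 8388604 (by decide) (by norm_num) (by decide)
    (by decide +kernel) level3

theorem card4 : Nat.card (fixK [2, 1, 0, 23]) = 20 * Nat.card (fixK [3, 2, 1, 0, 23]) :=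
  card_fixK_cons_compl [2, 1, 0, 23] 3 8388600 (by decide) (by norm_num) (by decide)
    (by decide +kernel) level4

/-- the octad through `∞, 0, 1, 2, 3`. -/
abbrev octB : ℕ := 8536111

theorem octB_mem : octB ∈ octL := by decide +kernel

theorem fixK5_preserves {h : Equiv.Perm GolayPt} {l : List ℕ} (hh : h ∈ fixK l)
    (hl : (List.range 24).all (fun i => !Nat.testBit 8388623 i || l.contains i) = true) :
    h • dec octB = dec octB :=
  preserves_octad hh.1 (fixesMask_of_fixK hh 8388623 hl) octB_mem (by decide +kernel)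

theorem mem_octB_iff {h : Equiv.Perm GolayPt} (hp : h • dec octB = dec octB) (p : GolayPt) :
    h p ∈ dec octB ↔ p ∈ dec octB := by
  conv_lhs => rw [← hp]
  exact Finset.smul_mem_smul_finset_iff h

theorem card5 : Nat.card (fixK [3, 2, 1, 0, 23]) = 16 * Nat.card (fixK [4, 3, 2, 1, 0, 23]) := by
  have := card_fixK_cons [3, 2, 1, 0, 23] 4 8241104 ?_ ?_
  · rw [this]
    congr 1
  · intro p hp
    apply level_cert' 6 [3, 2, 1, 0, 23] 4 (by norm_num) lvlPts5 lvlWords5 (by decide +kernel)
      (by decide +kernel) p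
    rw [mem_dec] at hp
    have : ∀ i, i < 24 → Nat.testBit 8241104 i = true → i ∈ lvlPts5 := by decide +kernel
    exact this _ (idx_lt p) hp
  · intro h hh
    have hpres := fixK5_preserves hh (by decide +kernel)
    have hnot : h (pt 4) ∉ dec octB := by
      rw [mem_octB_iff hpres, mem_dec, idx_pt 4 (by norm_num)]
      decide
    rw [mem_dec] at hnot ⊢
    have key : ∀ i, i < 24 → ¬ Nat.testBit octB i = true → Nat.testBit 8241104 i = true := by
      decide +kernel
    exact key _ (idx_lt _) hnot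

theorem card6 : Nat.card (fixK [4, 3, 2, 1, 0, 23]) = 3 * Nat.card (fixK [5, 4, 3, 2, 1, 0, 23]) := by
  have := card_fixK_cons [4, 3, 2, 1, 0, 23] 5 147488 ?_ ?_
  · rw [this]
    congr 1
  · intro p hp
    apply level_cert' 8 [4, 3, 2, 1, 0, 23] 5 (by norm_num) lvlPts6 lvlWords6 (by decide +kernel)
      (by decide +kernel) p
    rw [mem_dec] at hp
    have : ∀ i, i < 24 → Nat.testBit 147488 i = true → i ∈ lvlPts6 := by decide +kernel
    exact this _ (idx_lt p) hp
  · intro h hh
    have hpres := fixK5_preserves hh (by decide +kernel)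
    have hin : h (pt 5) ∈ dec octB := by
      rw [mem_octB_iff hpres, mem_dec, idx_pt 5 (by norm_num)]
      decide
    have hne : ∀ j ∈ [3, 2, 1, 0, 23], h (pt 5) ≠ pt j := by
      intro j hj hpj
      rw [← hh.2 j (List.mem_cons_of_mem _ hj)] at hpj
      have h5 := h.injective hpj
      have hj24 : j < 24 := by
        simp only [List.mem_cons, List.not_mem_nil, or_false] at hj
        omega
      have : (5 : ℕ) = j := by rw [← idx_pt 5 (by norm_num), ← idx_pt j hj24, h5]
      subst this
      simp at hj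
    rw [mem_dec] at hin ⊢
    have key : ∀ i, i < 24 → Nat.testBit octB i = true → i ∉ [3, 2, 1, 0, 23] →
        Nat.testBit 147488 i = true := by decide +kernel
    apply key _ (idx_lt _) hin
    intro hmem
    exact hne _ hmem (pt_idx _).symm

theorem card7 : Nat.card (fixK [5, 4, 3, 2, 1, 0, 23]) = 1 := by
  rw [Nat.card_eq_one_iff_unique]
  refine ⟨⟨fun a b => ?_⟩, ⟨1⟩⟩
  apply Subtype.ext
  rw [fixK7_trivial a.2, fixK7_trivial b.2]

theorem fixK_nil : fixK [] = M24 := by
  ext g
  simp [mem_fixK]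

/-- **The order of `M24`.** -/
theorem card_M24 : Nat.card M24 = 244823040 := by
  rw [← fixK_nil, card0, card1, card2, card3, card4, card5, card6, card7]

end Cfsg.Agent.Lib.Helper26
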