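import Mathlib
import Cfsg.Prelude.Def_SporadicCombinatorics

set_option autoImplicit false

namespace Cfsg.Agent.Lib.Helper26

open Cfsg
open scoped Pointwise

theorem smul_mem_supports_iff {g : Equiv.Perm GolayPt} (hg : g ∈ M24) (b : Finset GolayPt) :
    g • b ∈ supports (golayCode : Set (GolayPt → ZMod 2)) ↔
      b ∈ supports (golayCode : Set (GolayPt → ZMod 2)) := by
  have h : g • supports (golayCode : Set (GolayPt → ZMod 2)) =
      supports (golayCode : Set (GolayPt → ZMod 2)) := MulAction.mem_stabilizer_iff.mp hg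
  conv_lhs => rw [← h]
  exact Set.smul_mem_smul_set_iff

theorem smul_mem_wordsOfWeight_iff {g : Equiv.Perm GolayPt} (hg : g ∈ M24) (n : ℕ)
    (b : Finset GolayPt) :
    g • b ∈ wordsOfWeight (golayCode : Set (GolayPt → ZMod 2)) n ↔
      b ∈ wordsOfWeight (golayCode : Set (GolayPt → ZMod 2)) n := by
  simp only [wordsOfWeight, Set.mem_setOf_eq, smul_mem_supports_iff hg, Finset.card_smul_finset]

theorem smul_mem_octads_iff {g : Equiv.Perm GolayPt} (hg : g ∈ M24) (b : Finset GolayPt) :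
    g • b ∈ octads ↔ b ∈ octads := smul_mem_wordsOfWeight_iff hg 8 b

theorem smul_mem_dodecads_iff {g : Equiv.Perm GolayPt} (hg : g ∈ M24) (b : Finset GolayPt) :
    g • b ∈ dodecads ↔ b ∈ dodecads := smul_mem_wordsOfWeight_iff hg 12 b

theorem smul_finset_union' (g : Equiv.Perm GolayPt) (a b : Finset GolayPt) :
    g • (a ∪ b) = g • a ∪ g • b := Finset.smul_finset_union

theorem smul_mem_sextets {g : Equiv.Perm GolayPt} (hg : g ∈ M24) {S : Finset (Finset GolayPt)}
    (hS : S ∈ sextets) : g • S ∈ sextets := by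
  obtain ⟨h6, h4, hu⟩ := hS
  refine ⟨by rw [Finset.card_smul_finset]; exact h6, ?_, ?_⟩
  · intro t ht
    obtain ⟨t', ht', rfl⟩ := Finset.mem_smul_finset.mp ht
    rw [Finset.card_smul_finset]
    exact h4 t' ht'
  · intro t ht u hu' htu
    obtain ⟨t', ht', rfl⟩ := Finset.mem_smul_finset.mp ht
    obtain ⟨u', hu'', rfl⟩ := Finset.mem_smul_finset.mp hu'
    rw [← Finset.smul_finset_union, smul_mem_octads_iff hg]
    exact hu t' ht' u' hu'' (fun h => htu (by rw [h]))

theorem smul_mem_sextets_iff {g : Equiv.Perm GolayPt} (hg : g ∈ M24) (S : Finset (Finset GolayPt)) :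
    g • S ∈ sextets ↔ S ∈ sextets := by
  refine ⟨fun h => ?_, smul_mem_sextets hg⟩
  have := smul_mem_sextets (M24.inv_mem hg) h
  rwa [inv_smul_smul] at this

theorem smul_mem_trios {g : Equiv.Perm GolayPt} (hg : g ∈ M24) {T : Finset (Finset GolayPt)}
    (hT : T ∈ trios) : g • T ∈ trios := by
  obtain ⟨h3, ho, hd⟩ := hT
  refine ⟨by rw [Finset.card_smul_finset]; exact h3, ?_, ?_⟩
  · intro t ht
    obtain ⟨t', ht', rfl⟩ := Finset.mem_smul_finset.mp ht
    rw [smul_mem_octads_iff hg]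
    exact ho t' ht'
  · intro t ht u hu' htu
    obtain ⟨t', ht', rfl⟩ := Finset.mem_smul_finset.mp ht
    obtain ⟨u', hu'', rfl⟩ := Finset.mem_smul_finset.mp hu'
    have hdis := hd t' ht' u' hu'' (fun h => htu (by rw [h]))
    rw [Finset.disjoint_iff_inter_eq_empty] at hdis ⊢
    rw [← Finset.smul_finset_inter, hdis, Finset.smul_finset_empty]

theorem smul_mem_trios_iff {g : Equiv.Perm GolayPt} (hg : g ∈ M24) (T : Finset (Finset GolayPt)) :
    g • T ∈ trios ↔ T ∈ trios := by
  refine ⟨fun h => ?_, smul_mem_trios hg⟩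
  have := smul_mem_trios (M24.inv_mem hg) h
  rwa [inv_smul_smul] at this

end Cfsg.Agent.Lib.Helper26
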