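import Cfsg.Agent.Lib.Helper26.Enc

set_option autoImplicit false

namespace Cfsg.Agent.Lib.Helper26

open Cfsg
open scoped Pointwise

/-- a permutation of the 24 points given by its table of images and the table of the inverse. -/
structure PermData where
  tbl : List ℕ
  inv : List ℕ

namespace PermData

/-- the two tables are inverse bijections of `{0,…,23}`. -/
def ok (d : PermData) : Bool :=
  d.tbl.length == 24 && d.inv.length == 24 &&
  (List.range 24).all (fun i =>
    decide (d.tbl.getD i 0 < 24) && decide (d.inv.getD i 0 < 24) &&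
    (d.inv.getD (d.tbl.getD i 0) 0 == i) && (d.tbl.getD (d.inv.getD i 0) 0 == i))

theorem ok_spec {d : PermData} (h : d.ok = true) :
    d.tbl.length = 24 ∧ d.inv.length = 24 ∧ ∀ i, i < 24 →
      d.tbl.getD i 0 < 24 ∧ d.inv.getD i 0 < 24 ∧
      d.inv.getD (d.tbl.getD i 0) 0 = i ∧ d.tbl.getD (d.inv.getD i 0) 0 = i := by
  simp only [ok, Bool.and_eq_true, beq_iff_eq, List.all_eq_true, List.mem_range,
    decide_eq_true_eq] at h
  obtain ⟨⟨h1, h2⟩, h3⟩ := h
  refine ⟨h1, h2, fun i hi => ?_⟩
  obtain ⟨⟨⟨a, b⟩, c⟩, e⟩ := h3 i hi
  exact ⟨a, b, c, e⟩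

/-- forward function. -/
def fn (d : PermData) (p : GolayPt) : GolayPt := pt (d.tbl.getD (idx p) 0)

/-- backward function. -/
def ifn (d : PermData) (p : GolayPt) : GolayPt := pt (d.inv.getD (idx p) 0)

/-- the permutation of a table (the identity when the tables are not consistent). -/
def toPerm (d : PermData) : Equiv.Perm GolayPt :=
  if h : d.ok = true then
    { toFun := d.fn
      invFun := d.ifn
      left_inv := fun p => by
        obtain ⟨-, -, h3⟩ := ok_spec h
        obtain ⟨a, -, c, -⟩ := h3 (idx p) (idx_lt p)
        simp only [fn, ifn]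
        rw [idx_pt _ a, c, pt_idx]
      right_inv := fun p => by
        obtain ⟨-, -, h3⟩ := ok_spec h
        obtain ⟨-, b, -, e⟩ := h3 (idx p) (idx_lt p)
        simp only [fn, ifn]
        rw [idx_pt _ b, e, pt_idx] }
  else 1

theorem toPerm_apply {d : PermData} (h : d.ok = true) (p : GolayPt) :
    d.toPerm p = pt (d.tbl.getD (idx p) 0) := by
  simp [toPerm, h, fn]

theorem toPerm_symm_apply {d : PermData} (h : d.ok = true) (p : GolayPt) :
    d.toPerm.symm p = pt (d.inv.getD (idx p) 0) := by
  simp [toPerm, h, ifn]

/-- action on bit masks. -/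
def applyMask (d : PermData) (m : ℕ) : ℕ := ofBitsL (d.inv.map (fun j => m.testBit j))

theorem applyMask_lt {d : PermData} (h : d.ok = true) (m : ℕ) : d.applyMask m < 2 ^ 24 := by
  have := ofBitsL_lt (d.inv.map (fun j => m.testBit j))
  rw [List.length_map, (ok_spec h).2.1] at this
  exact this

theorem testBit_applyMask {d : PermData} (h : d.ok = true) (m i : ℕ) (hi : i < 24) :
    (d.applyMask m).testBit i = m.testBit (d.inv.getD i 0) := by
  have hl : d.inv.length = 24 := (ok_spec h).2.1
  rw [applyMask, testBit_ofBitsL]
  rw [List.getD_eq_getElem _ _ (by simpa [hl] using hi), List.getD_eq_getElem _ _ (by simpa [hl] using hi)]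
  simp

theorem smul_dec {d : PermData} (h : d.ok = true) (m : ℕ) :
    d.toPerm • dec m = dec (d.applyMask m) := by
  ext p
  rw [← Finset.inv_smul_mem_iff, mem_dec, mem_dec, testBit_applyMask h _ _ (idx_lt p)]
  have : d.toPerm⁻¹ • p = d.toPerm.symm p := rfl
  rw [this, toPerm_symm_apply h]
  obtain ⟨-, -, h3⟩ := ok_spec h
  rw [idx_pt _ (h3 (idx p) (idx_lt p)).2.1]

end PermData

/-- the permutation of a word in a list of generators (indices out of range are skipped). -/
def wordPerm (gens : List PermData) : List ℕ → Equiv.Perm GolayPt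
  | [] => 1
  | k :: w =>
    match gens[k]? with
    | some d => d.toPerm * wordPerm gens w
    | none => wordPerm gens w

/-- action of a word on bit masks. -/
def applyWord (gens : List PermData) : List ℕ → ℕ → ℕ
  | [], m => m
  | k :: w, m =>
    match gens[k]? with
    | some d => d.applyMask (applyWord gens w m)
    | none => applyWord gens w m

theorem wordPerm_smul_dec (gens : List PermData) (hok : ∀ d ∈ gens, d.ok = true) (w : List ℕ)
    (m : ℕ) : wordPerm gens w • dec m = dec (applyWord gens w m) := by
  induction w with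
  | nil => simp [wordPerm, applyWord]
  | cons k w ih =>
    simp only [wordPerm, applyWord]
    cases hk : gens[k]? with
    | none => simpa using ih
    | some d =>
      simp only
      rw [mul_smul, ih, PermData.smul_dec (hok d (List.mem_of_getElem? hk))]

theorem wordPerm_mem (gens : List PermData) (K : Subgroup (Equiv.Perm GolayPt))
    (hK : ∀ d ∈ gens, d.toPerm ∈ K) (w : List ℕ) : wordPerm gens w ∈ K := by
  induction w with
  | nil => exact K.one_mem
  | cons k w ih =>
    simp only [wordPerm]
    cases hk : gens[k]? with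
    | none => simpa using ih
    | some d => exact K.mul_mem (hK d (List.mem_of_getElem? hk)) ih

/-- check that each target mask is reached from the start mask by the corresponding word. -/
def checkPaths (gens : List PermData) (m₀ : ℕ) : List ℕ → List (List ℕ) → Bool
  | [], _ => true
  | _ :: _, [] => false
  | m :: ms, w :: ws => (applyWord gens w m₀ == m) && checkPaths gens m₀ ms ws

theorem checkPaths_spec (gens : List PermData) (m₀ : ℕ) (ms : List ℕ) (ws : List (List ℕ))
    (h : checkPaths gens m₀ ms ws = true) : ∀ m ∈ ms, ∃ w, applyWord gens w m₀ = m := by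
  induction ms generalizing ws with
  | nil => simp
  | cons m ms ih =>
    cases ws with
    | nil => simp [checkPaths] at h
    | cons w ws =>
      simp only [checkPaths, Bool.and_eq_true, beq_iff_eq] at h
      intro x hx
      rcases List.mem_cons.mp hx with rfl | hx
      · exact ⟨w, h.1⟩
      · exact ih ws h.2 x hx

/-- orbit certificate: every target set is the image of the start set under an element of `K`. -/
theorem orbit_cert (gens : List PermData) (hok : ∀ d ∈ gens, d.ok = true)
    (K : Subgroup (Equiv.Perm GolayPt)) (hK : ∀ d ∈ gens, d.toPerm ∈ K)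
    (m₀ : ℕ) (ms : List ℕ) (ws : List (List ℕ)) (h : checkPaths gens m₀ ms ws = true) :
    ∀ m ∈ ms, ∃ g ∈ K, g • dec m₀ = dec m := by
  intro m hm
  obtain ⟨w, hw⟩ := checkPaths_spec gens m₀ ms ws h m hm
  exact ⟨wordPerm gens w, wordPerm_mem gens K hK w, by rw [wordPerm_smul_dec gens hok, hw]⟩

end Cfsg.Agent.Lib.Helper26
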