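import Cfsg.Agent.Lib.Golay.Code
import Cfsg.Agent.Lib.Helper26.Perm
import Cfsg.Agent.Lib.Helper26.M24Inv

set_option autoImplicit false

namespace Cfsg.Agent.Lib.Helper26

open Cfsg
open scoped Pointwise

theorem golay_idx_val (p : GolayPt) : ((Golay.idx p : Fin 24) : ℕ) = idx p := by
  cases p <;> rfl

theorem mem_support₂' {α : Type*} [Fintype α] (w : α → ZMod 2) (a : α) :
    a ∈ support₂ w ↔ w a ≠ 0 := by
  simp [support₂]

theorem support₂_inj {α : Type*} [Fintype α] :
    Function.Injective (support₂ : (α → ZMod 2) → Finset α) := by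
  intro v w h
  funext a
  have hv : a ∈ support₂ v ↔ a ∈ support₂ w := by rw [h]
  simp only [support₂, Finset.mem_filter, Finset.mem_univ, true_and] at hv
  have key : ∀ z : ZMod 2, z = 0 ∨ z = 1 := by decide
  rcases key (v a) with h1 | h1 <;> rcases key (w a) with h2 | h2 <;> simp_all

theorem support₂_ofMask (m : ℕ) : support₂ (Golay.ofMask m) = dec m := by
  ext p
  rw [mem_support₂', mem_dec, Golay.ofMask, golay_idx_val]
  by_cases h : m.testBit (idx p) = true <;> simp [h]

theorem dec_mem_supports_iff (m : ℕ) (hm : m < 2 ^ 24) :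
    dec m ∈ supports (golayCode : Set (GolayPt → ZMod 2)) ↔ Golay.encode (m % 4096) = m := by
  rw [← Golay.ofMask_mem_golayCode_iff m hm]
  constructor
  · rintro ⟨w, hw, hsupp⟩
    have : w = Golay.ofMask m := support₂_inj (by rw [hsupp, support₂_ofMask])
    rw [← this]
    exact hw
  · intro h
    exact ⟨_, h, support₂_ofMask m⟩

theorem mem_supports_iff (b : Finset GolayPt) :
    b ∈ supports (golayCode : Set (GolayPt → ZMod 2)) ↔
      ∃ k, k < 4096 ∧ b = dec (Golay.encode k) := by
  constructor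
  · rintro ⟨w, hw, rfl⟩
    obtain ⟨k, hk, rfl⟩ := (Golay.mem_golayCode_iff w).mp hw
    exact ⟨k, hk, support₂_ofMask _⟩
  · rintro ⟨k, _, rfl⟩
    exact ⟨_, Golay.ofMask_encode_mem k, support₂_ofMask _⟩

/-- codewords of weight `n` as masks. -/
theorem mem_wordsOfWeight_iff (n : ℕ) (b : Finset GolayPt) :
    b ∈ wordsOfWeight (golayCode : Set (GolayPt → ZMod 2)) n ↔
      ∃ k, k < 4096 ∧ pc 24 (Golay.encode k) = n ∧ b = dec (Golay.encode k) := by
  constructor
  · rintro ⟨hb, hc⟩
    obtain ⟨k, hk, rfl⟩ := (mem_supports_iff b).mp hb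
    exact ⟨k, hk, by rw [← card_dec]; exact hc, rfl⟩
  · rintro ⟨k, hk, hpc, rfl⟩
    exact ⟨(mem_supports_iff _).mpr ⟨k, hk, rfl⟩, by rw [card_dec]; exact hpc⟩

/-! ### membership of table permutations in `M24` -/

theorem support₂_comp_symm' {α : Type*} [Fintype α] [DecidableEq α] (σ : Equiv.Perm α)
    (w : α → ZMod 2) : support₂ (w ∘ σ.symm) = σ • support₂ w := by
  ext p
  simp only [support₂, Finset.mem_filter, Finset.mem_univ, true_and, Function.comp_apply,
    Finset.mem_smul_finset, Equiv.Perm.smul_def]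
  constructor
  · intro h
    exact ⟨σ.symm p, h, by simp⟩
  · rintro ⟨q, hq, rfl⟩
    simpa using hq

theorem mem_M24_of_supports (σ : Equiv.Perm GolayPt)
    (h : ∀ b ∈ supports (golayCode : Set (GolayPt → ZMod 2)),
      σ • b ∈ supports (golayCode : Set (GolayPt → ZMod 2))) : σ ∈ M24 := by
  unfold M24 setSystemAut
  rw [MulAction.mem_stabilizer_set_iff_smul_set_subset (Set.toFinite _)]
  rintro b ⟨a, ha, rfl⟩
  exact h a ha

theorem mem_M24_of_qr (σ : Equiv.Perm GolayPt)
    (h : ∀ t : ZMod 23, σ • support₂ (qrWord t) ∈ supports (golayCode : Set (GolayPt → ZMod 2))) :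
    σ ∈ M24 := by
  apply mem_M24_of_supports
  rintro b ⟨w, hw, rfl⟩
  rw [← support₂_comp_symm']
  refine ⟨w ∘ σ.symm, ?_, rfl⟩
  have hle : golayCode ≤ golayCode.comap (LinearMap.funLeft (ZMod 2) (ZMod 2) σ.symm) := by
    unfold golayCode
    rw [Submodule.span_le]
    rintro v (⟨t, rfl⟩ | rfl)
    · show qrWord t ∘ σ.symm ∈ Submodule.span (ZMod 2) (Set.range qrWord ∪ {1})
      obtain ⟨w', hw', hs⟩ := h t
      have : w' = qrWord t ∘ σ.symm := support₂_inj (by rw [hs, support₂_comp_symm'])
      rw [← this]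
      exact hw'
    · show (1 : GolayPt → ZMod 2) ∘ σ.symm ∈ Submodule.span (ZMod 2) (Set.range qrWord ∪ {1})
      have : (1 : GolayPt → ZMod 2) ∘ σ.symm = 1 := by ext; simp
      rw [this]
      exact Submodule.subset_span (Or.inr rfl)
  exact hle hw

/-- the check that a table permutation preserves the code. -/
def PermData.inM24 (d : PermData) : Bool :=
  d.ok && Golay.qrMasks.all (fun q => Golay.encode (d.applyMask q % 4096) == d.applyMask q)

theorem PermData.toPerm_mem_M24 {d : PermData} (h : d.inM24 = true) : d.toPerm ∈ M24 := by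
  simp only [PermData.inM24, Bool.and_eq_true, List.all_eq_true, beq_iff_eq] at h
  obtain ⟨hok, hq⟩ := h
  apply mem_M24_of_qr
  intro t
  rw [Golay.qrWord_eq, support₂_ofMask, PermData.smul_dec hok,
    dec_mem_supports_iff _ (PermData.applyMask_lt hok _)]
  exact hq _ ((Golay.mem_qrMasks_iff _).mpr ⟨t, rfl⟩)

theorem PermData.ok_of_inM24 {d : PermData} (h : d.inM24 = true) : d.ok = true := by
  simp only [PermData.inM24, Bool.and_eq_true] at h
  exact h.1

end Cfsg.Agent.Lib.Helper26
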