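import Cfsg.Agent.Lib.Helper26.CoTab

/-! Sets of lattice vectors given by explicit lists. -/

set_option autoImplicit false

namespace Cfsg.Agent.Lib.Helper26.CoTab

open Cfsg Cfsg.Agent.Lib.Helper93.Leech Cfsg.Agent.Lib.Helper93.Golay
open Cfsg.Agent.Lib.Golay.LeechBasis Cfsg.Agent.Lib.Conway

theorem vecOfList_getD (l : List ℤ) (i : ℕ) (hi : i < 24) : vecOfList l (ptOf ⟨i, hi⟩) = l.getD i 0 := by
  unfold vecOfList
  rw [ptIdx_ptOf]

theorem vecOfList_injOn {l l' : List ℤ} (hl : l.length = 24) (hl' : l'.length = 24)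
    (h : vecOfList l = vecOfList l') : l = l' := by
  apply List.ext_getElem (by rw [hl, hl'])
  intro i h1 h2
  have hi : i < 24 := by omega
  have := congrFun h (ptOf ⟨i, hi⟩)
  rw [vecOfList_getD, vecOfList_getD, List.getD_eq_getElem _ _ h1, List.getD_eq_getElem _ _ h2] at this
  exact this

/-- the set of the vectors of a list -/
def listSet (L : List (List ℤ)) : Set Vec := {w | ∃ l ∈ L, vecOfList l = w}

theorem listSet_eq (L : List (List ℤ)) : listSet L = ↑((L.map vecOfList).toFinset) := by
  ext w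
  simp [listSet]

theorem ncard_listSet (L : List (List ℤ)) (hlen : ∀ l ∈ L, l.length = 24) (hnd : L.Nodup) :
    (listSet L).ncard = L.length := by
  rw [listSet_eq, Set.ncard_coe_finset, List.toFinset_card_of_nodup, List.length_map]
  exact List.Nodup.map_on (fun a ha b hb hab => vecOfList_injOn (hlen a ha) (hlen b hb) hab) hnd

theorem eq_listSet (S : Set Vec) (L : List (List ℤ)) (hsub : ∀ l ∈ L, vecOfList l ∈ S)
    (hcard : S.ncard = L.length) (hlen : ∀ l ∈ L, l.length = 24) (hnd : L.Nodup)
    (hpos : L.length ≠ 0) : S = listSet L := by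
  symm
  apply Set.eq_of_subset_of_ncard_le
  · rintro w ⟨l, hl, rfl⟩
    exact hsub l hl
  · rw [ncard_listSet L hlen hnd, hcard]
  · apply Set.finite_of_ncard_ne_zero
    rw [hcard]; exact hpos

/-- the lattice vectors whose coordinate vector is in a list -/
theorem ncard_subtype_listSet (L : List (List ℤ)) (hmem : ∀ l ∈ L, vecOfList l ∈ leechLattice)
    (hlen : ∀ l ∈ L, l.length = 24) (hnd : L.Nodup) :
    {x : leechLattice | (x : Vec) ∈ listSet L}.ncard = L.length := by
  rw [← ncard_listSet L hlen hnd, ← Set.ncard_image_of_injective _ Subtype.val_injective]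
  congr 1
  ext w
  constructor
  · rintro ⟨x, hx, rfl⟩; exact hx
  · rintro ⟨l, hl, rfl⟩
    exact ⟨⟨vecOfList l, hmem l hl⟩, ⟨l, hl, rfl⟩, rfl⟩

theorem sqNorm_vecOfList (x : List ℤ) (hx : x.length = 24) : sqNorm (vecOfList x) = dotL x x := by
  rw [sqNorm_eq_dotInt, dotInt_vecOfList x x hx]

/-! ### compact encodings -/

/-- decoding of a vector with coordinates in `[-8, 7]` from base-16 digits -/
def decV (n : ℕ) : List ℤ := (List.range 24).map (fun i => ((n >>> (4 * i) % 16 : ℕ) : ℤ) - 8)

/-- decoding of a vector with coordinates in `[-16, 15]` from base-32 digits -/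
def decW (n : ℕ) : List ℤ := (List.range 24).map (fun i => ((n >>> (5 * i) % 32 : ℕ) : ℤ) - 16)

theorem decV_length (n : ℕ) : (decV n).length = 24 := by simp [decV]

theorem decW_length (n : ℕ) : (decW n).length = 24 := by simp [decW]

/-- encoding inverse to `decV` -/
def encV (l : List ℤ) : ℕ := l.foldr (fun v acc => (v + 8).toNat + 16 * acc) 0

theorem nodup_of_chain (L : List ℕ) (hs : L.IsChain (· < ·)) : L.Nodup := by
  have h : L.Pairwise (· < ·) := List.isChain_iff_pairwise.mp hs
  exact h.imp (fun hab => Nat.ne_of_lt hab)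

theorem nodup_map_decV (L : List ℕ) (hnd : L.Nodup) (hr : ∀ c ∈ L, encV (decV c) = c) :
    (L.map decV).Nodup := by
  apply List.Nodup.map_on _ hnd
  intro a ha b hb hab
  rw [← hr a ha, ← hr b hb, hab]

/-- decoding of the data of an automorphism -/
def mkGen (a b : List ℕ) : GenData := ⟨a.map decW, b.map decW⟩

end Cfsg.Agent.Lib.Helper26.CoTab
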