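import Cfsg.Agent.S0391
import Cfsg.Agent.S0392
import Cfsg.Agent.S0398
import Cfsg.Agent.S1574
import Cfsg.Agent.S1575
import Cfsg.Agent.S1576
import Cfsg.Agent.Lib.Helper26.CoList

/-! The stabiliser of a pair `{v, -v}` of minimal vectors of the Leech lattice is a maximal subgroup of
the automorphism group: a subgroup containing it is determined by the set of absolute values of the
scalar products of `v` with the vectors of its orbit of `v`, and three explicit pairs of minimal vectors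
show that this set is `{32}` or `{32, 16, 8, 0}`. -/

set_option autoImplicit false

namespace Cfsg.Agent.Lib.Helper26.Co1

open Cfsg Cfsg.Agent.Lib.Conway Cfsg.Agent.Lib.Helper93.Leech Cfsg.Agent.Lib.Helper93.Golay
open Cfsg.Agent.Lib.Golay.LeechBasis Cfsg.Agent.Lib.Helper26.CoTab
open Cfsg.Agent.S0398 (central_cases negCo0_mem_center negCo0_ne_one)

/-! ### scalar products of minimal vectors -/

theorem sqNorm_add2 (x y : Vec) : sqNorm (x + y) = sqNorm x + 2 * dotInt x y + sqNorm y := by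
  unfold sqNorm dotInt
  rw [Finset.mul_sum, ← Finset.sum_add_distrib, ← Finset.sum_add_distrib]
  apply Finset.sum_congr rfl
  intro i _
  simp only [Pi.add_apply]
  ring

theorem sqNorm_sub2 (x y : Vec) : sqNorm (x - y) = sqNorm x - 2 * dotInt x y + sqNorm y := by
  unfold sqNorm dotInt
  rw [Finset.mul_sum, ← Finset.sum_sub_distrib, ← Finset.sum_add_distrib]
  apply Finset.sum_congr rfl
  intro i _
  simp only [Pi.sub_apply]
  ring

theorem dot_self (x : Vec) : dotInt x x = sqNorm x := by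
  unfold dotInt sqNorm
  exact Finset.sum_congr rfl fun p _ => (sq _).symm

theorem dot_neg_right (v x : leechLattice) :
    dotInt (v : Vec) ((-x : leechLattice) : Vec) = -dotInt (v : Vec) (x : Vec) := by
  have e : ((-x : leechLattice) : Vec) = -(x : Vec) := rfl
  rw [e]
  simp [dotInt, Finset.sum_neg_distrib]

theorem dvd_dot (x y : leechLattice) : (8 : ℤ) ∣ dotInt (x : Vec) (y : Vec) := by
  have h1 := Cfsg.Agent.S0392.result _ (x + y).2
  have h2 := Cfsg.Agent.S0392.result _ x.2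
  have h3 := Cfsg.Agent.S0392.result _ y.2
  have e : ((x + y : leechLattice) : Vec) = (x : Vec) + (y : Vec) := rfl
  rw [e, sqNorm_add2] at h1
  omega

/-- the minimal vectors -/
def X : Set leechLattice := {x | sqNorm (x : Vec) = 32}

theorem smul_mem_X (g : Co0) {x : leechLattice} (hx : x ∈ X) : g • x ∈ X := by
  show sqNorm ((g • x : leechLattice) : Vec) = 32
  rw [co0_norm]; exact hx

theorem neg_mem_X {x : leechLattice} (hx : x ∈ X) : -x ∈ X := by
  show sqNorm ((-x : leechLattice) : Vec) = 32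
  have e : ((-x : leechLattice) : Vec) = -(x : Vec) := rfl
  rw [e]
  have : sqNorm (-(x : Vec)) = sqNorm (x : Vec) := by simp [sqNorm]
  rw [this]; exact hx

theorem dot_cases (x y : leechLattice) (hx : x ∈ X) (hy : y ∈ X) :
    y = x ∨ y = -x ∨ dotInt (x : Vec) (y : Vec) = 16 ∨ dotInt (x : Vec) (y : Vec) = -16 ∨
      dotInt (x : Vec) (y : Vec) = 8 ∨ dotInt (x : Vec) (y : Vec) = -8 ∨
      dotInt (x : Vec) (y : Vec) = 0 := by
  have h8 := dvd_dot x y
  by_cases h1 : x - y = 0
  · left; exact (sub_eq_zero.mp h1).symm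
  by_cases h2 : x + y = 0
  · right; left; exact (neg_eq_of_add_eq_zero_right h2).symm
  right; right
  have n1 := Cfsg.Agent.S0391.result _ (x - y).2 (fun h => h1 (Subtype.ext h))
  have n2 := Cfsg.Agent.S0391.result _ (x + y).2 (fun h => h2 (Subtype.ext h))
  have e1 : ((x - y : leechLattice) : Vec) = (x : Vec) - (y : Vec) := rfl
  have e2 : ((x + y : leechLattice) : Vec) = (x : Vec) + (y : Vec) := rfl
  have hx' : sqNorm (x : Vec) = 32 := hx
  have hy' : sqNorm (y : Vec) = 32 := hy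
  rw [e1, sqNorm_sub2, hx', hy'] at n1
  rw [e2, sqNorm_add2, hx', hy'] at n2
  omega

theorem dot_self_X {x : leechLattice} (hx : x ∈ X) : dotInt (x : Vec) (x : Vec) = 32 := by
  rw [dot_self]; exact hx

theorem dot_neg_self_X {x : leechLattice} (hx : x ∈ X) :
    dotInt (x : Vec) ((-x : leechLattice) : Vec) = -32 := by
  rw [dot_neg_right, dot_self_X hx]

/-- the absolute value of the scalar product -/
def kap (v x : leechLattice) : ℕ := (dotInt (v : Vec) (x : Vec)).natAbs

theorem kap_smul (g : Co0) (v x : leechLattice) : kap (g • v) (g • x) = kap v x := by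
  unfold kap; rw [co0_dot]

theorem kap_neg (v x : leechLattice) : kap v (-x) = kap v x := by
  unfold kap; rw [dot_neg_right, Int.natAbs_neg]

/-- minimal vectors having the same scalar product with `v` are conjugate, up to sign, under the
stabiliser of `v` -/
theorem exists_stab_eq (v x y : leechLattice) (hv : v ∈ X) (hx : x ∈ X) (hy : y ∈ X)
    (hd : dotInt (v : Vec) (x : Vec) = dotInt (v : Vec) (y : Vec)) :
    ∃ h : Co0, h • v = v ∧ (h • x = y ∨ h • x = -y) := by
  have hnx := neg_mem_X hx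
  have hny := neg_mem_X hy
  rcases dot_cases v x hv hx with rfl | rfl | h | h | h | h | h
  · -- `x = v`
    refine ⟨1, one_smul _ _, Or.inl ?_⟩
    rw [one_smul]
    rw [dot_self_X hv] at hd
    rcases dot_cases x y hv hy with e | e | e | e | e | e | e
    · exact e.symm
    · rw [e, dot_neg_self_X hv] at hd; omega
    all_goals omega
  · -- `x = -v`
    refine ⟨1, one_smul _ _, Or.inl ?_⟩
    rw [one_smul]
    rw [dot_neg_self_X hv] at hd
    rcases dot_cases v y hv hy with e | e | e | e | e | e | e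
    · rw [e, dot_self_X hv] at hd; omega
    · exact e.symm
    all_goals omega
  · -- scalar product 16
    obtain ⟨g, h1, h2⟩ := Cfsg.Agent.S1574.result v (-x) (-y) hv hnx hny
      (by rw [dot_neg_right, h]) (by rw [dot_neg_right, ← hd, h])
    exact ⟨g, h1, Or.inl (by rw [co0_neg] at h2; exact neg_injective h2)⟩
  · obtain ⟨g, h1, h2⟩ := Cfsg.Agent.S1574.result v x y hv hx hy h (by rw [← hd, h])
    exact ⟨g, h1, Or.inl h2⟩
  · obtain ⟨g, h1, h2⟩ := Cfsg.Agent.S1575.result v (-x) (-y) hv hnx hny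
      (by rw [dot_neg_right, h]) (by rw [dot_neg_right, ← hd, h])
    exact ⟨g, h1, Or.inl (by rw [co0_neg] at h2; exact neg_injective h2)⟩
  · obtain ⟨g, h1, h2⟩ := Cfsg.Agent.S1575.result v x y hv hx hy h (by rw [← hd, h])
    exact ⟨g, h1, Or.inl h2⟩
  · exact Cfsg.Agent.S1576.result v x y hv hx hy h (by rw [← hd, h])

theorem exists_stab (v x y : leechLattice) (hv : v ∈ X) (hx : x ∈ X) (hy : y ∈ X)
    (hk : kap v x = kap v y) : ∃ h : Co0, h • v = v ∧ (h • x = y ∨ h • x = -y) := by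
  unfold kap at hk
  rcases Int.natAbs_eq_natAbs_iff.mp hk with h | h
  · exact exists_stab_eq v x y hv hx hy h
  · obtain ⟨g, h1, h2⟩ := exists_stab_eq v x (-y) hv hx (neg_mem_X hy) (by rw [dot_neg_right, h])
    refine ⟨g, h1, ?_⟩
    rcases h2 with h2 | h2
    · exact Or.inr h2
    · left; rw [h2, neg_neg]

/-! ### the stabiliser of a pair -/

/-- the stabiliser of the pair `{v, -v}` -/
def S (v : leechLattice) : Subgroup Co0 where
  carrier := {g | g • v = v ∨ g • v = -v}
  one_mem' := Or.inl (one_smul _ _)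
  mul_mem' := by
    rintro a b (ha | ha) (hb | hb)
    · left; rw [mul_smul, hb, ha]
    · right; rw [mul_smul, hb, co0_neg, ha]
    · right; rw [mul_smul, hb, ha]
    · left; rw [mul_smul, hb, co0_neg, ha, neg_neg]
  inv_mem' := by
    rintro a (ha | ha)
    · left; rw [inv_smul_eq_iff, ha]
    · right; rw [inv_smul_eq_iff, co0_neg, ha, neg_neg]

theorem mem_S {v : leechLattice} {g : Co0} : g ∈ S v ↔ g • v = v ∨ g • v = -v := Iff.rfl

theorem negCo0_mem_S (v : leechLattice) : negCo0 ∈ S v := Or.inr (negCo0_smul v)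

/-! ### explicit vectors -/

def v0L : List ℤ := [4, 4, 0, 0, 0, 0, 0, 0, 0, 0, 0, 0, 0, 0, 0, 0, 0, 0, 0, 0, 0, 0, 0, 0]
def x1L : List ℤ := [4, 0, 4, 0, 0, 0, 0, 0, 0, 0, 0, 0, 0, 0, 0, 0, 0, 0, 0, 0, 0, 0, 0, 0]
def y1L : List ℤ := [2, 2, 0, 0, 0, 2, 2, 2, 0, 2, 2, 0, 0, 0, 2, 0, 0, 0, 0, 0, 0, 0, 0, 0]
def x2L : List ℤ := [2, 0, 0, 0, 0, 2, 0, 2, 2, 0, 2, 2, 2, 2, 0, 0, 0, 0, 0, 0, 0, 0, 0, 0]
def y2L : List ℤ := [0, 2, 2, 0, 0, 0, 2, 0, 0, 2, 0, 0, 0, 0, 2, 2, 0, 2, 0, 2, 0, 0, 0, 0]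
def x3L : List ℤ := [0, 0, 4, 4, 0, 0, 0, 0, 0, 0, 0, 0, 0, 0, 0, 0, 0, 0, 0, 0, 0, 0, 0, 0]
def y3L : List ℤ := [0, 0, 4, 0, 4, 0, 0, 0, 0, 0, 0, 0, 0, 0, 0, 0, 0, 0, 0, 0, 0, 0, 0, 0]
def w4L : List ℤ := [-4, 0, -4, 0, 0, 0, 0, 0, 0, 0, 0, 0, 0, 0, 0, 0, 0, 0, 0, 0, 0, 0, 0, 0]
def u4L : List ℤ := [4, 0, 0, 4, 0, 0, 0, 0, 0, 0, 0, 0, 0, 0, 0, 0, 0, 0, 0, 0, 0, 0, 0, 0]

/-- the list of the explicit vectors -/
def allL : List (List ℤ) := [v0L, x1L, y1L, x2L, y2L, x3L, y3L, w4L, u4L]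

set_option maxRecDepth 100000 in
theorem allL_props : ∀ l ∈ allL, l.length = 24 ∧ LeechCond (vecOfList l) 0 ∧ dotL l l = 32 := by
  decide +kernel

/-- the minimal vector with a given list of coordinates -/
def mk (l : List ℤ) (hl : l ∈ allL) : leechLattice := ⟨vecOfList l, mem_of_leechCond (allL_props l hl).2.1⟩

theorem mk_mem_X (l : List ℤ) (hl : l ∈ allL) : mk l hl ∈ X := by
  show sqNorm (vecOfList l) = 32
  rw [sqNorm_vecOfList l (allL_props l hl).1, (allL_props l hl).2.2]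

theorem dot_mk (l l' : List ℤ) (hl : l ∈ allL) (hl' : l' ∈ allL) :
    dotInt ((mk l hl : leechLattice) : Vec) ((mk l' hl' : leechLattice) : Vec) = dotL l l' :=
  dotInt_vecOfList l l' (allL_props l hl).1

theorem kap_mk (l l' : List ℤ) (hl : l ∈ allL) (hl' : l' ∈ allL) :
    kap (mk l hl) (mk l' hl') = (dotL l l').natAbs := by
  unfold kap; rw [dot_mk]

def V0 : leechLattice := mk v0L (by decide)
def X1 : leechLattice := mk x1L (by decide)
def Y1 : leechLattice := mk y1L (by decide)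
def X2 : leechLattice := mk x2L (by decide)
def Y2 : leechLattice := mk y2L (by decide)
def X3 : leechLattice := mk x3L (by decide)
def Y3 : leechLattice := mk y3L (by decide)
def W4 : leechLattice := mk w4L (by decide)
def U4 : leechLattice := mk u4L (by decide)

theorem V0_mem : V0 ∈ X := mk_mem_X _ _

/-! ### maximality -/

section
variable (M : Subgroup Co0) (hM : S V0 ≤ M)

/-- the values of `kap` on the orbit of `V0` -/
def T (k : ℕ) : Prop := ∃ m ∈ M, kap V0 (m • V0) = k

include hM in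
theorem T_fill {k : ℕ} (hk : T M k) (y : leechLattice) (hy : y ∈ X) (hky : kap V0 y = k) :
    ∃ m ∈ M, m • V0 = y := by
  obtain ⟨m, hm, hkm⟩ := hk
  obtain ⟨h, h1, h2⟩ := exists_stab V0 (m • V0) y V0_mem (smul_mem_X m V0_mem) hy (by rw [hkm, hky])
  have hh : h ∈ M := hM (Or.inl h1)
  rcases h2 with h2 | h2
  · exact ⟨h * m, M.mul_mem hh hm, by rw [mul_smul, h2]⟩
  · refine ⟨negCo0 * (h * m), M.mul_mem (hM (negCo0_mem_S V0)) (M.mul_mem hh hm), ?_⟩
    rw [mul_smul, mul_smul, h2, negCo0_smul, neg_neg]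

theorem T_block {m m' : Co0} (hm : m ∈ M) (hm' : m' ∈ M) : T M (kap (m • V0) (m' • V0)) := by
  refine ⟨m⁻¹ * m', M.mul_mem (M.inv_mem hm) hm', ?_⟩
  rw [← kap_smul m V0 ((m⁻¹ * m') • V0), ← mul_smul, mul_inv_cancel_left]

include hM in
theorem T_step {k k' : ℕ} (hk : T M k) (x y : leechLattice) (hx : x ∈ X) (hy : y ∈ X)
    (hkx : kap V0 x = k) (hky : kap V0 y = k) (hxy : kap x y = k') : T M k' := by
  obtain ⟨m, hm, rfl⟩ := T_fill M hM hk x hx hkx
  obtain ⟨m', hm', rfl⟩ := T_fill M hM hk y hy hky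
  rw [← hxy]
  exact T_block M hm hm'

set_option maxRecDepth 100000 in
theorem kap_values : (dotL v0L x1L).natAbs = 16 ∧ (dotL v0L y1L).natAbs = 16 ∧
    (dotL x1L y1L).natAbs = 8 ∧ (dotL v0L x2L).natAbs = 8 ∧ (dotL v0L y2L).natAbs = 8 ∧
    (dotL x2L y2L).natAbs = 0 ∧ (dotL v0L x3L).natAbs = 0 ∧ (dotL v0L y3L).natAbs = 0 ∧
    (dotL x3L y3L).natAbs = 16 := by decide +kernel

include hM in
theorem T_16_8 (h : T M 16) : T M 8 :=
  T_step M hM h X1 Y1 (mk_mem_X _ _) (mk_mem_X _ _) (by unfold V0 X1; rw [kap_mk, kap_values.1])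
    (by unfold V0 Y1; rw [kap_mk, kap_values.2.1]) (by unfold X1 Y1; rw [kap_mk, kap_values.2.2.1])

include hM in
theorem T_8_0 (h : T M 8) : T M 0 :=
  T_step M hM h X2 Y2 (mk_mem_X _ _) (mk_mem_X _ _) (by unfold V0 X2; rw [kap_mk, kap_values.2.2.2.1])
    (by unfold V0 Y2; rw [kap_mk, kap_values.2.2.2.2.1])
    (by unfold X2 Y2; rw [kap_mk, kap_values.2.2.2.2.2.1])

include hM in
theorem T_0_16 (h : T M 0) : T M 16 :=
  T_step M hM h X3 Y3 (mk_mem_X _ _) (mk_mem_X _ _)
    (by unfold V0 X3; rw [kap_mk, kap_values.2.2.2.2.2.2.1])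
    (by unfold V0 Y3; rw [kap_mk, kap_values.2.2.2.2.2.2.2.1])
    (by unfold X3 Y3; rw [kap_mk, kap_values.2.2.2.2.2.2.2.2])

/-- the values of `kap` at a vector other than `±V0` -/
theorem kap_cases (y : leechLattice) (hy : y ∈ X) :
    y = V0 ∨ y = -V0 ∨ kap V0 y = 16 ∨ kap V0 y = 8 ∨ kap V0 y = 0 := by
  unfold kap
  rcases dot_cases V0 y V0_mem hy with e | e | e | e | e | e | e
  · exact Or.inl e
  · exact Or.inr (Or.inl e)
  all_goals rw [e]
  · right; right; left; rfl
  · right; right; left; rfl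
  · right; right; right; left; rfl
  · right; right; right; left; rfl
  · right; right; right; right; rfl

include hM in
/-- the stabiliser of the pair `{V0, -V0}` is a maximal subgroup -/
theorem S_max : M = S V0 ∨ M = ⊤ := by
  by_cases hT : T M 16 ∨ T M 8 ∨ T M 0
  · right
    have h16 : T M 16 := by
      rcases hT with h | h | h
      · exact h
      · exact T_0_16 M hM (T_8_0 M hM h)
      · exact T_0_16 M hM h
    have h8 := T_16_8 M hM h16
    have h0 := T_8_0 M hM h8
    rw [eq_top_iff]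
    intro g _
    have key : ∀ k, T M k → kap V0 (g • V0) = k → g ∈ M := by
      intro k hk hkg
      obtain ⟨m, hm, hmg⟩ := T_fill M hM hk (g • V0) (smul_mem_X g V0_mem) hkg
      have : m⁻¹ * g ∈ M := hM (Or.inl (by rw [mul_smul, ← hmg, inv_smul_smul]))
      have := M.mul_mem hm this
      rwa [mul_inv_cancel_left] at this
    rcases kap_cases (g • V0) (smul_mem_X g V0_mem) with e | e | e | e | e
    · exact hM (Or.inl e)
    · exact hM (Or.inr e)
    · exact key 16 h16 e
    · exact key 8 h8 e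
    · exact key 0 h0 e
  · left
    apply le_antisymm _ hM
    intro m hm
    rcases kap_cases (m • V0) (smul_mem_X m V0_mem) with e | e | e | e | e
    · exact Or.inl e
    · exact Or.inr e
    · exact absurd (Or.inl ⟨m, hm, e⟩) hT
    · exact absurd (Or.inr (Or.inl ⟨m, hm, e⟩)) hT
    · exact absurd (Or.inr (Or.inr ⟨m, hm, e⟩)) hT

end

end Cfsg.Agent.Lib.Helper26.Co1
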