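import Mathlib

/-! A normal subgroup acting semiregularly at a point: the stabiliser of the point acts on it by conjugation
as on the orbit, so two elements of distinct odd prime orders cannot be carried to points in the same
suborbit (up to a central involution). -/

set_option autoImplicit false

namespace Cfsg.Agent.Lib.Helper26.RegNormal

variable {G Ω : Type*} [Group G] [MulAction G Ω]

/-- elements of a semiregular normal subgroup carried to the same point are equal -/
theorem eq_of_smul_eq (x0 : Ω) (N : Subgroup G) (hreg : ∀ n ∈ N, n • x0 = x0 → n = 1)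
    {a b : G} (ha : a ∈ N) (hb : b ∈ N) (h : a • x0 = b • x0) : a = b := by
  have h1 : (b⁻¹ * a) • x0 = x0 := by rw [mul_smul, h, inv_smul_smul]
  have h2 := hreg _ (N.mul_mem (N.inv_mem hb) ha) h1
  have : b * (b⁻¹ * a) = b * 1 := by rw [h2]
  rwa [mul_inv_cancel_left, mul_one] at this

/-- two elements of distinct odd prime orders of a semiregular normal subgroup `N` containing a central
involution `z` are not carried to points `x`, `y` with `h • x = y` or `h • x = z • y` for `h` in the point
stabiliser -/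
theorem orders_ne (x0 : Ω) (N : Subgroup G) [hN : N.Normal]
    (hreg : ∀ n ∈ N, n • x0 = x0 → n = 1) (z : G) (hzN : z ∈ N) (hz2 : z * z = 1)
    (hzc : ∀ g : G, z * g = g * z) (p q : ℕ) (hp : p.Prime) (hq : q.Prime) (hp2 : p ≠ 2) (hq2 : q ≠ 2)
    (hpq : p ≠ q) (a b : G) (ha : a ∈ N) (hb : b ∈ N) (hap : orderOf a = p) (hbq : orderOf b = q)
    (h : G) (hh : h • x0 = x0) (hab : h • (a • x0) = b • x0 ∨ h • (a • x0) = z • (b • x0)) : False := by
  have hm : h * a * h⁻¹ ∈ N := hN.conj_mem a ha h
  have hmx : (h * a * h⁻¹) • x0 = h • (a • x0) := by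
    have : h⁻¹ • x0 = x0 := by rw [inv_smul_eq_iff, hh]
    rw [mul_smul, mul_smul, this]
  have hord : orderOf (h * a * h⁻¹) = p := by
    rw [← hap, ← MulAut.conj_apply]
    exact (MulAut.conj h).orderOf_eq a
  rcases hab with hab | hab
  · have e := eq_of_smul_eq x0 N hreg hm hb (by rw [hmx, hab])
    rw [e, hbq] at hord
    exact hpq hord.symm
  · have e := eq_of_smul_eq x0 N hreg hm (N.mul_mem hzN hb) (by rw [hmx, hab, mul_smul])
    rw [e] at hord
    -- `(z * b) ^ p = 1`
    have h1 : (z * b) ^ p = 1 := by rw [← hord]; exact pow_orderOf_eq_one _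
    have hcomm : Commute z b := hzc b
    rw [hcomm.mul_pow] at h1
    have hodd : Odd p := hp.odd_of_ne_two hp2
    obtain ⟨k, hk⟩ := hodd
    have hzp : z ^ p = z := by
      rw [hk, pow_succ, pow_mul, pow_two, hz2, one_pow, one_mul]
    rw [hzp] at h1
    -- `b ^ p = z⁻¹`, so `b ^ (2 * p) = 1`
    have h2 : b ^ p = z := by
      have : z * b ^ p = z * z := by rw [h1, hz2]
      exact mul_left_cancel this
    have h3 : b ^ (2 * p) = 1 := by
      rw [mul_comm, pow_mul, h2, pow_two, hz2]
    have h4 : q ∣ 2 * p := by rw [← hbq]; exact orderOf_dvd_of_pow_eq_one h3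
    rcases (Nat.Prime.dvd_mul hq).mp h4 with h5 | h5
    · exact hq2 ((Nat.prime_dvd_prime_iff_eq hq Nat.prime_two).mp h5)
    · exact hpq ((Nat.prime_dvd_prime_iff_eq hq hp).mp h5).symm

end Cfsg.Agent.Lib.Helper26.RegNormal
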