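import Cfsg.Agent.Lib.Helper26.Co1Max
import Cfsg.Agent.Lib.Helper26.RegNormal
import Cfsg.Agent.S0394
import Cfsg.Agent.S0397
import Cfsg.Agent.S0400

/-! The automorphism group of the Leech lattice modulo its centre is simple of order
`4157776806543360000`, given that the stabiliser of the minimal vector `V0 = (4, 4, 0^22)` is simple. -/

set_option autoImplicit false

namespace Cfsg.Agent.Lib.Helper26.Co1

open Cfsg Cfsg.Agent.Lib.Conway Cfsg.Agent.Lib.Helper93.Leech Cfsg.Agent.Lib.Helper93.Golay
open Cfsg.Agent.Lib.Golay.LeechBasis Cfsg.Agent.Lib.Helper26.CoTab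
open Cfsg.Agent.S0398 (central_cases negCo0_mem_center negCo0_ne_one)
open MulAction

/-- the number of minimal vectors -/
theorem ncard_X : X.ncard = 196560 := by
  rw [← Cfsg.Agent.S0394.result, ← Set.ncard_image_of_injective X Subtype.val_injective]
  congr 1
  ext w
  constructor
  · rintro ⟨x, hx, rfl⟩
    exact ⟨x.2, hx⟩
  · rintro ⟨h0, h1⟩
    exact ⟨⟨w, h0⟩, h1, rfl⟩

theorem finite_Co0 : Finite Co0 :=
  Nat.finite_of_card_ne_zero (by rw [Cfsg.Agent.S0397.result]; norm_num)

theorem negCo0_sq : negCo0 * negCo0 = 1 := by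
  apply co0_ext
  intro v
  rw [co0_mul_smul, negCo0_smul, negCo0_smul, neg_neg, co0_one_smul]

theorem negCo0_comm (g : Co0) : negCo0 * g = g * negCo0 :=
  (Subgroup.mem_center_iff.mp negCo0_mem_center g).symm

set_option maxRecDepth 100000 in
theorem wu_values : dotL w4L v0L = -16 ∧ dotL w4L u4L = -16 ∧ u4L ≠ v0L ∧
    dotL v0L u4L ≠ -32 := by decide +kernel

theorem W4_mem : W4 ∈ X := mk_mem_X _ _
theorem U4_mem : U4 ∈ X := mk_mem_X _ _

theorem dot_W4_V0 : dotInt (W4 : Vec) (V0 : Vec) = -16 := by
  unfold W4 V0; rw [dot_mk]; exact wu_values.1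

theorem dot_W4_U4 : dotInt (W4 : Vec) (U4 : Vec) = -16 := by
  unfold W4 U4; rw [dot_mk]; exact wu_values.2.1

set_option maxRecDepth 100000 in
theorem dot_V0_U4 : dotInt (V0 : Vec) (U4 : Vec) = 16 := by
  unfold V0 U4; rw [dot_mk]; decide +kernel

/-- the fifth explicit pair: `U4` is not `±V0` -/
theorem U4_ne : U4 ≠ V0 ∧ U4 ≠ -V0 := by
  constructor
  · intro h
    have h1 : dotInt (V0 : Vec) (U4 : Vec) = dotInt (V0 : Vec) (V0 : Vec) := by rw [h]
    rw [dot_self_X V0_mem, dot_V0_U4] at h1
    omega
  · intro h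
    have h1 : dotInt (V0 : Vec) (U4 : Vec) = dotInt (V0 : Vec) ((-V0 : leechLattice) : Vec) := by
      rw [h]
    rw [dot_neg_self_X V0_mem, dot_V0_U4] at h1
    omega

section
variable (hH : IsSimpleGroup (stabilizer Co0 V0)) (N : Subgroup Co0) [hN : N.Normal]
  (hZ : negCo0 ∈ N)

omit hN in
include hZ in
theorem S_le_sup : S V0 ≤ N ⊔ stabilizer Co0 V0 := by
  intro g hg
  rcases hg with hg | hg
  · exact (le_sup_right : stabilizer Co0 V0 ≤ _) (mem_stabilizer_iff.mpr hg)
  · have h1 : negCo0 * g ∈ stabilizer Co0 V0 := by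
      rw [mem_stabilizer_iff, mul_smul, hg, negCo0_smul, neg_neg]
    have h2 : negCo0⁻¹ ∈ N ⊔ stabilizer Co0 V0 :=
      (le_sup_left : N ≤ _) (N.inv_mem hZ)
    have := (N ⊔ stabilizer Co0 V0).mul_mem h2 ((le_sup_right : stabilizer Co0 V0 ≤ _) h1)
    rwa [inv_mul_cancel_left] at this

omit hN in
include hZ in
/-- a normal subgroup meeting the stabiliser of `V0` trivially and contained in the stabiliser of the
pair is central -/
theorem le_center_of_bot (hK : N.subgroupOf (stabilizer Co0 V0) = ⊥) (hNS : N ≤ S V0) :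
    N ≤ Subgroup.center Co0 := by
  have hreg : ∀ n ∈ N, n • V0 = V0 → n = 1 := by
    intro n hn hfix
    have : (⟨n, mem_stabilizer_iff.mpr hfix⟩ : stabilizer Co0 V0) ∈
        N.subgroupOf (stabilizer Co0 V0) := Subgroup.mem_subgroupOf.mpr hn
    rw [hK, Subgroup.mem_bot] at this
    exact congrArg Subtype.val this
  intro n hn
  rcases hNS hn with h | h
  · rw [hreg n hn h]; exact Subgroup.one_mem _
  · have h1 : negCo0 * n = 1 := hreg _ (N.mul_mem hZ hn) (by rw [mul_smul, h, negCo0_smul, neg_neg])
    have : n = negCo0 := by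
      have := congrArg (fun t => negCo0 * t) h1
      simp only [← mul_assoc, negCo0_sq, one_mul, mul_one] at this
      exact this
    rw [this]; exact negCo0_mem_center

include hN in
/-- a normal subgroup containing the stabiliser of `V0` is not contained in the stabiliser of the pair -/
theorem not_le_S_of_top (hK : N.subgroupOf (stabilizer Co0 V0) = ⊤) : ¬ N ≤ S V0 := by
  intro hNS
  have hHN : stabilizer Co0 V0 ≤ N := by
    intro h hh
    have : (⟨h, hh⟩ : stabilizer Co0 V0) ∈ N.subgroupOf (stabilizer Co0 V0) := by rw [hK]; trivial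
    exact Subgroup.mem_subgroupOf.mp this
  -- the stabiliser of `W4` is contained in `N`
  obtain ⟨g0, hg0⟩ := trans4 V0 W4 V0_mem W4_mem
  have hW : ∀ k : Co0, k • W4 = W4 → k ∈ N := by
    intro k hk
    have h1 : g0⁻¹ * k * g0 ∈ stabilizer Co0 V0 := by
      rw [mem_stabilizer_iff, mul_smul, mul_smul, hg0, hk, ← hg0, inv_smul_smul]
    have h2 := hN.conj_mem _ (hHN h1) g0
    have e : g0 * (g0⁻¹ * k * g0) * g0⁻¹ = k := by group
    rwa [e] at h2
  obtain ⟨g, hg1, hg2⟩ := Cfsg.Agent.S1574.result W4 V0 U4 W4_mem V0_mem U4_mem dot_W4_V0 dot_W4_U4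
  rcases hNS (hW g hg1) with h | h
  · exact U4_ne.1 (by rw [← hg2, h])
  · exact U4_ne.2 (by rw [← hg2, h])

include hH hZ in
/-- the main dichotomy for normal subgroups containing the centre -/
theorem normal_cases : N ≤ Subgroup.center Co0 ∨ N = ⊤ := by
  have hKn : (N.subgroupOf (stabilizer Co0 V0)).Normal := inferInstance
  rcases S_max (N ⊔ stabilizer Co0 V0) (S_le_sup N hZ) with hM | hM
  · -- `N` is contained in the stabiliser of the pair
    have hNS : N ≤ S V0 := by rw [← hM]; exact le_sup_left
    rcases hH.eq_bot_or_eq_top_of_normal _ hKn with hK | hK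
    · exact Or.inl (le_center_of_bot N hZ hK hNS)
    · exact absurd hNS (not_le_S_of_top N hK)
  · rcases hH.eq_bot_or_eq_top_of_normal _ hKn with hK | hK
    · -- the regular case
      exfalso
      have : Finite Co0 := finite_Co0
      have hreg : ∀ n ∈ N, n • V0 = V0 → n = 1 := by
        intro n hn hfix
        have : (⟨n, mem_stabilizer_iff.mpr hfix⟩ : stabilizer Co0 V0) ∈
            N.subgroupOf (stabilizer Co0 V0) := Subgroup.mem_subgroupOf.mpr hn
        rw [hK, Subgroup.mem_bot] at this
        exact congrArg Subtype.val this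
      -- transitivity of `N`
      have htr : ∀ y ∈ X, ∃ n ∈ N, n • V0 = y := by
        intro y hy
        obtain ⟨g, hg⟩ := trans4 V0 y V0_mem hy
        have hgM : g ∈ ((N ⊔ stabilizer Co0 V0 : Subgroup Co0) : Set Co0) := by rw [hM]; trivial
        rw [Subgroup.normal_mul] at hgM
        obtain ⟨n, hn, h, hh, rfl⟩ := Set.mem_mul.mp hgM
        refine ⟨n, hn, ?_⟩
        rw [← hg, mul_smul, mem_stabilizer_iff.mp hh]
      -- the order of `N` is divisible by 196560
      have hdvd : 196560 ∣ Nat.card N := by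
        have h1 := Subgroup.card_eq_card_quotient_mul_card_subgroup (stabilizer N V0)
        rw [← Nat.card_congr (orbitEquivQuotientStabilizer N V0)] at h1
        have h2 : orbit N V0 = X := by
          ext y
          constructor
          · rintro ⟨n, rfl⟩
            exact smul_mem_X (n : Co0) V0_mem
          · intro hy
            obtain ⟨n, hn, hny⟩ := htr y hy
            exact ⟨⟨n, hn⟩, hny⟩
        rw [h1, Nat.card_coe_set_eq, h2, ncard_X]
        exact Dvd.intro _ rfl
      -- elements of odd prime orders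
      have hel : ∀ p ∈ ({3, 5, 7, 13} : Finset ℕ), ∃ n ∈ N, orderOf n = p ∧ p.Prime ∧ p ≠ 2 := by
        intro p hp
        have hpp : p.Prime ∧ p ≠ 2 ∧ p ∣ 196560 := by
          simp only [Finset.mem_insert, Finset.mem_singleton] at hp
          rcases hp with rfl | rfl | rfl | rfl <;> norm_num
        have : Fact p.Prime := ⟨hpp.1⟩
        obtain ⟨x, hx⟩ := exists_prime_orderOf_dvd_card' (G := N) p (hpp.2.2.trans hdvd)
        exact ⟨x, x.2, by rw [← hx, Subgroup.orderOf_coe], hpp.1, hpp.2.1⟩
      choose! el hel using hel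
      -- the classes of the images of `V0`
      have hcls : ∀ p ∈ ({3, 5, 7, 13} : Finset ℕ), kap V0 (el p • V0) ∈ ({16, 8, 0} : Finset ℕ) := by
        intro p hp
        obtain ⟨hn, hord, hpp, hp2⟩ := hel p hp
        simp only [Finset.mem_insert, Finset.mem_singleton]
        rcases kap_cases (el p • V0) (smul_mem_X _ V0_mem) with e | e | e | e | e
        · exfalso
          have := hreg _ hn e
          rw [this, orderOf_one] at hord
          exact hpp.ne_one hord.symm
        · exfalso
          have h1 : negCo0 * el p = 1 :=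
            hreg _ (N.mul_mem hZ hn) (by rw [mul_smul, e, negCo0_smul, neg_neg])
          have h2 : el p = negCo0 := by
            have := congrArg (fun t => negCo0 * t) h1
            simp only [← mul_assoc, negCo0_sq, one_mul, mul_one] at this
            exact this
          have h3 : orderOf (el p) ∣ 2 := orderOf_dvd_of_pow_eq_one (by rw [h2, pow_two, negCo0_sq])
          rw [hord] at h3
          exact hp2 ((Nat.prime_dvd_prime_iff_eq hpp Nat.prime_two).mp h3)
        · exact Or.inl e
        · exact Or.inr (Or.inl e)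
        · exact Or.inr (Or.inr e)
      obtain ⟨p, hp, q, hq, hpq, hkpq⟩ := Finset.exists_ne_map_eq_of_card_lt_of_maps_to
        (by decide : ({16, 8, 0} : Finset ℕ).card < ({3, 5, 7, 13} : Finset ℕ).card) hcls
      obtain ⟨hnp, hordp, hpp, hp2⟩ := hel p hp
      obtain ⟨hnq, hordq, hqp, hq2⟩ := hel q hq
      obtain ⟨h, hh1, hh2⟩ := exists_stab V0 (el p • V0) (el q • V0) V0_mem
        (smul_mem_X _ V0_mem) (smul_mem_X _ V0_mem) hkpq
      refine Cfsg.Agent.Lib.Helper26.RegNormal.orders_ne V0 N hreg negCo0 hZ negCo0_sq negCo0_comm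
        p q hpp hqp hp2 hq2 hpq (el p) (el q) hnp hnq hordp hordq h hh1 ?_
      rcases hh2 with hh2 | hh2
      · exact Or.inl hh2
      · right; rw [hh2, negCo0_smul]
    · -- `N` contains the stabiliser
      right
      have hHN : stabilizer Co0 V0 ≤ N := by
        intro h hh
        have : (⟨h, hh⟩ : stabilizer Co0 V0) ∈ N.subgroupOf (stabilizer Co0 V0) := by
          rw [hK]; trivial
        exact Subgroup.mem_subgroupOf.mp this
      rw [← hM]
      exact (sup_eq_left.mpr hHN).symm

end

/-- the order of the quotient -/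
theorem card_quot : Nat.card (Co0 ⧸ Subgroup.center Co0) = 4157776806543360000 := by
  have h := Subgroup.card_eq_card_quotient_mul_card_subgroup (Subgroup.center Co0)
  rw [Cfsg.Agent.S0397.result, Cfsg.Agent.S0398.result] at h
  omega

/-- simplicity of the quotient -/
theorem simple_quot (hH : IsSimpleGroup (stabilizer Co0 V0)) :
    IsSimpleGroup (Co0 ⧸ Subgroup.center Co0) := by
  have hfin : Finite (Co0 ⧸ Subgroup.center Co0) :=
    Nat.finite_of_card_ne_zero (by rw [card_quot]; norm_num)
  have hnt : Nontrivial (Co0 ⧸ Subgroup.center Co0) := by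
    rw [← Finite.one_lt_card_iff_nontrivial, card_quot]; norm_num
  refine ⟨fun Nb hNb => ?_⟩
  have hNn : (Nb.comap (QuotientGroup.mk' (Subgroup.center Co0))).Normal := inferInstance
  have hZ : negCo0 ∈ Nb.comap (QuotientGroup.mk' (Subgroup.center Co0)) := by
    rw [Subgroup.mem_comap]
    have : (QuotientGroup.mk' (Subgroup.center Co0)) negCo0 = 1 :=
      (QuotientGroup.eq_one_iff _).mpr negCo0_mem_center
    rw [this]; exact Nb.one_mem
  rcases normal_cases hH (Nb.comap (QuotientGroup.mk' (Subgroup.center Co0))) hZ with h | h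
  · left
    rw [eq_bot_iff]
    intro q hq
    obtain ⟨g, rfl⟩ := QuotientGroup.mk_surjective q
    have hg : g ∈ Nb.comap (QuotientGroup.mk' (Subgroup.center Co0)) := hq
    exact (QuotientGroup.eq_one_iff g).mpr (h hg)
  · right
    rw [eq_top_iff]
    intro q _
    obtain ⟨g, rfl⟩ := QuotientGroup.mk_surjective q
    have hg : g ∈ Nb.comap (QuotientGroup.mk' (Subgroup.center Co0)) := by rw [h]; trivial
    exact hg

end Cfsg.Agent.Lib.Helper26.Co1
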