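import Cfsg.Agent.Lib.Helper26.CoList

/-! A set of lattice vectors contained in an explicit list and invariant under a subgroup is one orbit,
as soon as an orbit tree of the right length is given. -/

set_option autoImplicit false

namespace Cfsg.Agent.Lib.Helper26.CoTab

open Cfsg Cfsg.Agent.Lib.Helper93.Leech Cfsg.Agent.Lib.Helper93.Golay
open Cfsg.Agent.Lib.Golay.LeechBasis Cfsg.Agent.Lib.Conway

theorem tree_orbit (H : Subgroup Co0) (gens : List (List (List ℤ))) (pts : List (List ℤ))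
    (es : List (ℕ × ℕ))
    (hg : ∀ Tt ∈ gens, ∃ g ∈ H, ∀ (x : List ℤ) (_ : x.length = 24) (hm : vecOfList x ∈ leechLattice),
      ((g • (⟨vecOfList x, hm⟩ : leechLattice) : leechLattice) : Vec) = vecOfList (applyC Tt x))
    (hlen : ∀ l ∈ pts, l.length = 24) (hes : es.length + 1 = pts.length)
    (hroot : vecOfList (pts.getD 0 []) ∈ leechLattice)
    (hok : edgesOK gens pts 1 es = true) (hnd : pts.Nodup)
    (S : Set leechLattice) (hS : ∀ g ∈ H, ∀ x ∈ S, g • x ∈ S)
    (hrS : (⟨vecOfList (pts.getD 0 []), hroot⟩ : leechLattice) ∈ S)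
    (F : List (List ℤ)) (hF : ∀ x : leechLattice, x ∈ S → (x : Vec) ∈ listSet F)
    (hFlen : ∀ l ∈ F, l.length = 24) (hFnd : F.Nodup) (hcard : F.length ≤ pts.length) :
    ∀ x ∈ S, ∃ g ∈ H, g • (⟨vecOfList (pts.getD 0 []), hroot⟩ : leechLattice) = x := by
  have hreach := tree_reach H gens pts es hg hlen hes hroot hok
  have hsub : listSet pts ⊆ listSet F := by
    rintro w ⟨l, hl, rfl⟩
    obtain ⟨i, hi, rfl⟩ := List.mem_iff_getElem.mp hl
    obtain ⟨hm, g, hgH, hgr⟩ := hreach i hi
    have h := hF _ (hS g hgH _ hrS)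
    rw [hgr] at h
    have e : vecOfList (pts.getD i []) = vecOfList pts[i] := by
      rw [List.getD_eq_getElem _ _ hi]
    rw [← e]; exact h
  have heq : listSet pts = listSet F := by
    have hfin : (listSet F).Finite := by rw [listSet_eq]; exact Finset.finite_toSet _
    apply Set.eq_of_subset_of_ncard_le hsub _ hfin
    rw [ncard_listSet pts hlen hnd, ncard_listSet F hFlen hFnd]; exact hcard
  intro x hx
  have hx' := hF x hx
  rw [← heq] at hx'
  obtain ⟨l, hl, hlx⟩ := hx'
  obtain ⟨i, hi, rfl⟩ := List.mem_iff_getElem.mp hl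
  obtain ⟨hm, g, hgH, hgr⟩ := hreach i hi
  refine ⟨g, hgH, ?_⟩
  rw [hgr]
  apply Subtype.ext
  rw [← hlx]
  show vecOfList (pts.getD i []) = vecOfList pts[i]
  rw [List.getD_eq_getElem _ _ hi]

end Cfsg.Agent.Lib.Helper26.CoTab
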