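import Cfsg.Agent.Lib.Conway.Table
import Cfsg.Agent.Lib.Conway.Trans4

/-! Explicit elements of `Co0` from tables given by columns, a fast list evaluator for them, and
kernel-checkable orbit trees on explicit lists of vectors. -/

set_option autoImplicit false

namespace Cfsg.Agent.Lib.Helper26.CoTab

open Cfsg Cfsg.Agent.Lib.Helper93.Leech Cfsg.Agent.Lib.Helper93.Golay
open Cfsg.Agent.Lib.Golay.LeechBasis Cfsg.Agent.Lib.Conway

/-! ### list arithmetic -/

/-- dot product of two lists -/
def dotL : List ℤ → List ℤ → ℤ
  | a :: as, b :: bs => a * b + dotL as bs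
  | _, _ => 0

theorem dotL_nil_right (x : List ℤ) : dotL x [] = 0 := by
  cases x <;> rfl

theorem dotL_eq (x y : List ℤ) :
    dotL x y = ∑ i ∈ Finset.range x.length, x.getD i 0 * y.getD i 0 := by
  induction x generalizing y with
  | nil => simp [dotL]
  | cons a as ih =>
    cases y with
    | nil => simp [dotL]
    | cons b bs =>
      rw [dotL, ih bs, List.length_cons, Finset.sum_range_succ']
      simp only [List.getD_cons_succ, List.getD_cons_zero]
      ring

theorem sum_golayPt (F : ℕ → ℤ) : ∑ p : GolayPt, F (ptIdx p).val = ∑ i ∈ Finset.range 24, F i := by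
  rw [← Fin.sum_univ_eq_sum_range]
  exact Equiv.sum_comp ptEquiv (fun i : Fin 24 => F i.val)

theorem dotInt_vecOfList (x y : List ℤ) (hx : x.length = 24) :
    dotInt (vecOfList x) (vecOfList y) = dotL x y := by
  rw [dotL_eq, hx]
  unfold dotInt vecOfList
  exact sum_golayPt (fun i => x.getD i 0 * y.getD i 0)

/-- the vector in column form: `Tt` lists, for every point, the values of the 24 images there -/
def colVec (Tt : List (List ℤ)) (j : Fin 24) : Vec :=
  fun p => (Tt.getD (ptIdx p).val []).getD j.val 0

/-- the coordinates with respect to the basis `bvec`, as a list -/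
def coefL (x : List ℤ) : List ℤ := Atab.map (fun a => dotL x a / 8)

/-- fast evaluation of `lin (colVec Tt)` -/
def applyC (Tt : List (List ℤ)) (x : List ℤ) : List ℤ :=
  let cs := coefL x
  Tt.map (fun col => dotL cs col)

theorem avec_eq (j : Fin 24) : avec j = vecOfList (Atab.getD j.val []) := rfl

theorem coefL_length (x : List ℤ) : (coefL x).length = 24 := by
  unfold coefL
  rw [List.length_map]
  rfl

theorem coefL_getD (x : List ℤ) (hx : x.length = 24) (j : Fin 24) :
    (coefL x).getD j.val 0 = coef (vecOfList x) j := by
  unfold coefL coef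
  rw [avec_eq, dotInt_vecOfList x _ hx]
  have h0 : (fun a => dotL x a / 8) [] = 0 := by
    show dotL x [] / 8 = 0
    rw [dotL_nil_right]; norm_num
  rw [← h0, List.getD_map]

theorem applyC_spec (Tt : List (List ℤ)) (x : List ℤ) (hx : x.length = 24) :
    vecOfList (applyC Tt x) = lin (colVec Tt) (vecOfList x) := by
  funext p
  rw [lin_apply]
  unfold applyC vecOfList
  have h0 : (fun col => dotL (coefL x) col) [] = 0 := dotL_nil_right _
  show (List.map (fun col => dotL (coefL x) col) Tt).getD (ptIdx p).val 0 = _
  rw [← h0, List.getD_map, dotL_eq, coefL_length, ← Fin.sum_univ_eq_sum_range]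
  apply Finset.sum_congr rfl
  intro j _
  rw [coefL_getD x hx j]
  rfl

/-! ### automorphisms from column tables -/

/-- data of an automorphism: the column tables of the images of the basis under it and under its
inverse -/
structure GenData where
  /-- columns of the images of the basis vectors -/
  Tt : List (List ℤ)
  /-- columns of the images of the basis vectors under the inverse -/
  Tt' : List (List ℤ)

/-- the rows of `Btab` -/
def brow (j : Fin 24) : List ℤ := Btab.getD j.val []

theorem bvec_eq (j : Fin 24) : bvec j = vecOfList (brow j) := rfl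

theorem brow_length : ∀ j : Fin 24, (brow j).length = 24 := by decide

/-- the image of the `j`-th basis vector, as a list -/
def GenData.img (d : GenData) (j : Fin 24) : List ℤ := applyC d.Tt (brow j)
/-- the image of the `j`-th basis vector under the inverse, as a list -/
def GenData.img' (d : GenData) (j : Fin 24) : List ℤ := applyC d.Tt' (brow j)

/-- validity of the data -/
def GenData.ok (d : GenData) : Prop :=
  (∀ j : Fin 24, LeechCond (vecOfList (d.img j)) (vecOfList (d.img j) (ptOf 0))) ∧
  (∀ j : Fin 24, LeechCond (vecOfList (d.img' j)) (vecOfList (d.img' j) (ptOf 0))) ∧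
  (∀ j : Fin 24, (d.img j).length = 24 ∧ (d.img' j).length = 24) ∧
  (∀ j k : Fin 24, dotL (d.img j) (d.img k) = dotL (brow j) (brow k)) ∧
  (∀ j : Fin 24, applyC d.Tt' (d.img j) = brow j) ∧
  (∀ j : Fin 24, applyC d.Tt (d.img' j) = brow j)

instance (d : GenData) : Decidable d.ok := by unfold GenData.ok; infer_instance

theorem lin_colVec_bvec (Tt : List (List ℤ)) (j : Fin 24) :
    lin (colVec Tt) (bvec j) = vecOfList (applyC Tt (brow j)) := by
  rw [bvec_eq, applyC_spec Tt (brow j) (brow_length j)]

theorem colVec_eq_img (d : GenData) (j : Fin 24) : colVec d.Tt j = vecOfList (d.img j) := by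
  rw [← lin_bvec (colVec d.Tt) j, lin_colVec_bvec]
  rfl

theorem colVec_eq_img' (d : GenData) (j : Fin 24) : colVec d.Tt' j = vecOfList (d.img' j) := by
  rw [← lin_bvec (colVec d.Tt') j, lin_colVec_bvec]
  rfl

/-- the automorphism with the given data -/
def GenData.aut (d : GenData) (h : d.ok) : Co0 :=
  tableAut (colVec d.Tt) (colVec d.Tt')
    (fun j => by rw [colVec_eq_img]; exact mem_of_leechCond (h.1 j))
    (fun j => by rw [colVec_eq_img']; exact mem_of_leechCond (h.2.1 j))
    (fun j k => by
      rw [colVec_eq_img, colVec_eq_img, dotInt_vecOfList _ _ (h.2.2.1 j).1, h.2.2.2.1 j k,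
        bvec_eq, bvec_eq, dotInt_vecOfList _ _ (brow_length j)])
    (fun j => by
      rw [colVec_eq_img, ← applyC_spec _ _ (h.2.2.1 j).1, h.2.2.2.2.1 j, bvec_eq])
    (fun j => by
      rw [colVec_eq_img', ← applyC_spec _ _ (h.2.2.1 j).2, h.2.2.2.2.2 j, bvec_eq])

theorem GenData.aut_smul (d : GenData) (h : d.ok) (v : leechLattice) :
    ((d.aut h • v : leechLattice) : Vec) = lin (colVec d.Tt) v := rfl

theorem GenData.aut_smul_list (d : GenData) (h : d.ok) (x : List ℤ) (hx : x.length = 24)
    (hm : vecOfList x ∈ leechLattice) :
    ((d.aut h • (⟨vecOfList x, hm⟩ : leechLattice) : leechLattice) : Vec) =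
      vecOfList (applyC d.Tt x) := by
  rw [GenData.aut_smul, applyC_spec _ _ hx]

/-! ### orbit trees -/

/-- check of an orbit tree: the point with index `i` is the image of the point with index `par < i`
under the generator with index `k` -/
def edgesOK (gens : List (List (List ℤ))) (pts : List (List ℤ)) : ℕ → List (ℕ × ℕ) → Bool
  | _, [] => true
  | i, (par, k) :: es =>
    decide (par < i) && (applyC (gens.getD k []) (pts.getD par []) == pts.getD i []) &&
      edgesOK gens pts (i + 1) es

theorem edgesOK_spec (gens : List (List (List ℤ))) (pts : List (List ℤ)) (s : ℕ)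
    (es : List (ℕ × ℕ)) (h : edgesOK gens pts s es = true) (n : ℕ) (hn : n < es.length) :
    (es.getD n (0, 0)).1 < s + n ∧
      applyC (gens.getD (es.getD n (0, 0)).2 []) (pts.getD (es.getD n (0, 0)).1 []) =
        pts.getD (s + n) [] := by
  induction es generalizing s n with
  | nil => simp at hn
  | cons e es ih =>
    obtain ⟨par, k⟩ := e
    rw [edgesOK, Bool.and_eq_true, Bool.and_eq_true, decide_eq_true_iff, beq_iff_eq] at h
    cases n with
    | zero => exact ⟨h.1.1, h.1.2⟩
    | succ n =>
      have := ih (s + 1) h.2 n (by simpa using hn)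
      rw [List.getD_cons_succ]
      have e : s + (n + 1) = s + 1 + n := by omega
      rw [e]
      exact this

/-- all the points of a checked tree lie in the orbit of the root under the subgroup containing the
generators -/
theorem tree_reach (H : Subgroup Co0) (gens : List (List (List ℤ))) (pts : List (List ℤ))
    (es : List (ℕ × ℕ))
    (hg : ∀ Tt ∈ gens, ∃ g ∈ H, ∀ (x : List ℤ) (_ : x.length = 24) (hm : vecOfList x ∈ leechLattice),
      ((g • (⟨vecOfList x, hm⟩ : leechLattice) : leechLattice) : Vec) = vecOfList (applyC Tt x))
    (hlen : ∀ l ∈ pts, l.length = 24) (hes : es.length + 1 = pts.length)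
    (hroot : vecOfList (pts.getD 0 []) ∈ leechLattice)
    (hok : edgesOK gens pts 1 es = true) (i : ℕ) (hi : i < pts.length) :
    ∃ (hm : vecOfList (pts.getD i []) ∈ leechLattice), ∃ g ∈ H,
      g • (⟨vecOfList (pts.getD 0 []), hroot⟩ : leechLattice) = ⟨vecOfList (pts.getD i []), hm⟩ := by
  induction i using Nat.strong_induction_on with
  | _ i ih =>
    rcases Nat.eq_zero_or_pos i with rfl | hpos
    · exact ⟨hroot, 1, H.one_mem, rfl⟩
    · obtain ⟨n, rfl⟩ : ∃ n, i = 1 + n := ⟨i - 1, by omega⟩
      have hn : n < es.length := by omega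
      obtain ⟨h1, h2⟩ := edgesOK_spec gens pts 1 es hok n hn
      set par := (es.getD n (0, 0)).1 with hpar
      set k := (es.getD n (0, 0)).2 with hk
      obtain ⟨hm, g, hgH, hgr⟩ := ih par h1 (by omega)
      have hparlen : (pts.getD par []).length = 24 := by
        apply hlen
        rw [List.getD_eq_getElem _ _ (by omega : par < pts.length)]
        exact List.getElem_mem _
      have hilen : (pts.getD (1 + n) []).length = 24 := by
        apply hlen
        rw [List.getD_eq_getElem _ _ hi]
        exact List.getElem_mem _
      have hk' : k < gens.length := by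
        by_contra hcon
        have : gens.getD k [] = [] := by
          rw [List.getD_eq_default]; omega
        rw [this] at h2
        have : (pts.getD (1 + n) []).length = 0 := by rw [← h2]; rfl
        omega
      have hkmem : gens.getD k [] ∈ gens := by
        rw [List.getD_eq_getElem _ _ hk']
        exact List.getElem_mem _
      obtain ⟨g', hg'H, hg'⟩ := hg _ hkmem
      have himg := hg' (pts.getD par []) hparlen hm
      rw [h2] at himg
      have hm' : vecOfList (pts.getD (1 + n) []) ∈ leechLattice := by
        rw [← himg]; exact (g' • (⟨vecOfList (pts.getD par []), hm⟩ : leechLattice)).2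
      refine ⟨hm', g' * g, H.mul_mem hg'H hgH, ?_⟩
      rw [mul_smul, hgr]
      exact Subtype.ext himg

end Cfsg.Agent.Lib.Helper26.CoTab
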