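import Cfsg.Agent.Lib.Helper26.Enc

set_option autoImplicit false

namespace Cfsg.Agent.Lib.Helper26

open Cfsg

/-- all submasks of `m` below `2 ^ k`. -/
def submasks : ℕ → ℕ → List ℕ
  | 0, _ => [0]
  | k + 1, m =>
    if m.testBit k then submasks k m ++ (submasks k m).map (· + 2 ^ k) else submasks k m

theorem mem_submasks (k m sm : ℕ) (hlt : sm < 2 ^ k)
    (hsub : ∀ i, sm.testBit i = true → m.testBit i = true) : sm ∈ submasks k m := by
  induction k generalizing sm with
  | zero =>
    have : sm = 0 := by simpa using hlt
    simp [submasks, this]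
  | succ k ih =>
    by_cases hb : sm.testBit k = true
    · have hm : m.testBit k = true := hsub k hb
      have hdiv : sm / 2 ^ k = 1 := by
        have h1 : sm / 2 ^ k < 2 := by
          rw [Nat.div_lt_iff_lt_mul (by positivity)]
          rw [pow_succ] at hlt
          omega
        have h2 : sm / 2 ^ k % 2 = 1 := by
          have := @Nat.testBit_eq_decide_div_mod_eq k sm
          rw [hb] at this
          simpa using this.symm
        generalize sm / 2 ^ k = q at h1 h2
        omega
      have hdecomp : sm = sm % 2 ^ k + 2 ^ k := by
        have := Nat.div_add_mod sm (2 ^ k)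
        rw [hdiv] at this
        omega
      have hrec : sm % 2 ^ k ∈ submasks k m := by
        apply ih
        · exact Nat.mod_lt _ (by positivity)
        · intro i hi
          rw [Nat.testBit_mod_two_pow] at hi
          simp only [Bool.and_eq_true, decide_eq_true_eq] at hi
          exact hsub i hi.2
      simp only [submasks, hm, if_true, List.mem_append, List.mem_map]
      right
      exact ⟨_, hrec, hdecomp.symm⟩
    · have hlt' : sm < 2 ^ k := by
        apply Nat.lt_pow_two_of_testBit
        intro i hi
        rcases Nat.eq_or_lt_of_le hi with rfl | hi'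
        · simpa using hb
        · exact Nat.testBit_lt_two_pow (lt_of_lt_of_le hlt (Nat.pow_le_pow_right (by norm_num) hi'))
      have := ih sm hlt' hsub
      simp only [submasks]
      split
      · exact List.mem_append_left _ this
      · exact this

theorem enc_mem_submasks {s : Finset GolayPt} {m : ℕ} (h : s ⊆ dec m) : enc s ∈ submasks 24 m := by
  apply mem_submasks _ _ _ (enc_lt s)
  intro i hi
  by_cases h24 : i < 24
  · rw [testBit_enc s i h24] at hi
    have := h (of_decide_eq_true hi)
    rw [mem_dec, idx_pt i h24] at this
    exact this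
  · have : (enc s).testBit i = false :=
      Nat.testBit_lt_two_pow (lt_of_lt_of_le (enc_lt s) (Nat.pow_le_pow_right (by norm_num) (by omega)))
    rw [this] at hi
    exact absurd hi (by simp)

theorem card_eq_pc_enc (s : Finset GolayPt) : s.card = pc 24 (enc s) := by
  rw [← card_dec, dec_enc]

/-- counting decoded sets selected from a list of masks without repetition. -/
theorem ncard_dec_filter (L : List ℕ) (hL : L.Nodup) (hlt : ∀ c ∈ L, c < 2 ^ 24) (f : ℕ → Bool) :
    {o : Finset GolayPt | ∃ c ∈ L, f c = true ∧ o = dec c}.ncard = (L.filter f).length := by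
  classical
  have h1 : {o : Finset GolayPt | ∃ c ∈ L, f c = true ∧ o = dec c} =
      dec '' ((L.filter f).toFinset : Set ℕ) := by
    ext o
    simp only [Set.mem_setOf_eq, Set.mem_image, Finset.mem_coe, List.mem_toFinset, List.mem_filter]
    constructor
    · rintro ⟨c, hc, hf, rfl⟩
      exact ⟨c, ⟨hc, hf⟩, rfl⟩
    · rintro ⟨c, ⟨hc, hf⟩, rfl⟩
      exact ⟨c, hc, hf, rfl⟩
  rw [h1, Set.InjOn.ncard_image, Set.ncard_coe_finset, List.toFinset_card_of_nodup (hL.filter _)]
  intro a ha b hb hab
  simp only [Finset.mem_coe, List.mem_toFinset, List.mem_filter] at ha hb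
  exact dec_injOn (hlt a ha.1) (hlt b hb.1) hab

end Cfsg.Agent.Lib.Helper26

namespace Cfsg.Agent.Lib.Helper26

open Cfsg

/-- all masks below `2 ^ n` with exactly `k` one bits (built from the low end). -/
def chooseL : ℕ → ℕ → List ℕ
  | _, 0 => [0]
  | 0, _ + 1 => []
  | n + 1, k + 1 => (chooseL n (k + 1)).map (2 * ·) ++ (chooseL n k).map (2 * · + 1)

theorem pc_eq_zero_of_lt (n m : ℕ) (hm : m < 2 ^ n) (h : pc n m = 0) : m = 0 := by
  induction n generalizing m with
  | zero => simpa using hm
  | succ n ih =>
    rw [pc] at h
    have h1 : m % 2 = 0 := by omega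
    have h2 : pc n (m / 2) = 0 := by omega
    have h3 : m / 2 < 2 ^ n := by
      rw [Nat.div_lt_iff_lt_mul (by norm_num)]
      rw [pow_succ] at hm
      exact hm
    have := ih (m / 2) h3 h2
    omega

theorem mem_chooseL (n k m : ℕ) (hm : m < 2 ^ n) (hpc : pc n m = k) : m ∈ chooseL n k := by
  induction n generalizing k m with
  | zero =>
    have : m = 0 := by simpa using hm
    subst this
    have : k = 0 := by simpa [pc] using hpc.symm
    subst this
    simp [chooseL]
  | succ n ih =>
    cases k with
    | zero =>
      have := pc_eq_zero_of_lt (n + 1) m hm hpc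
      subst this
      simp [chooseL]
    | succ k =>
      rw [pc] at hpc
      have h3 : m / 2 < 2 ^ n := by
        rw [Nat.div_lt_iff_lt_mul (by norm_num)]
        rw [pow_succ] at hm
        exact hm
      simp only [chooseL, List.mem_append, List.mem_map]
      have h2 : m % 2 = 0 ∨ m % 2 = 1 := by omega
      rcases h2 with h2 | h2
      · left
        exact ⟨m / 2, ih (k + 1) (m / 2) h3 (by omega), by omega⟩
      · right
        exact ⟨m / 2, ih k (m / 2) h3 (by omega), by omega⟩

theorem chooseL_lt (n k m : ℕ) (h : m ∈ chooseL n k) : m < 2 ^ n := by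
  induction n generalizing k m with
  | zero =>
    cases k with
    | zero => simp [chooseL] at h; simp [h]
    | succ k => simp [chooseL] at h
  | succ n ih =>
    cases k with
    | zero => simp [chooseL] at h; subst h; positivity
    | succ k =>
      simp only [chooseL, List.mem_append, List.mem_map] at h
      rw [pow_succ]
      rcases h with ⟨a, ha, rfl⟩ | ⟨a, ha, rfl⟩
      · have := ih _ _ ha
        omega
      · have := ih _ _ ha
        omega

theorem chooseL_pc (n k m : ℕ) (h : m ∈ chooseL n k) : pc n m = k := by
  induction n generalizing k m with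
  | zero =>
    cases k with
    | zero => simp [chooseL] at h; simp [h, pc]
    | succ k => simp [chooseL] at h
  | succ n ih =>
    cases k with
    | zero =>
      simp [chooseL] at h
      subst h
      have : ∀ j, pc j 0 = 0 := by
        intro j
        induction j with
        | zero => rfl
        | succ j ihj => simp [pc, ihj]
      exact this _
    | succ k =>
      simp only [chooseL, List.mem_append, List.mem_map] at h
      rw [pc]
      rcases h with ⟨a, ha, rfl⟩ | ⟨a, ha, rfl⟩
      · have := ih _ _ ha
        have h1 : 2 * a % 2 = 0 := by omega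
        have h2 : 2 * a / 2 = a := by omega
        rw [h1, h2, this]
        omega
      · have := ih _ _ ha
        have h1 : (2 * a + 1) % 2 = 1 := by omega
        have h2 : (2 * a + 1) / 2 = a := by omega
        rw [h1, h2, this]
        omega

theorem chooseL_nodup (n k : ℕ) : (chooseL n k).Nodup := by
  induction n generalizing k with
  | zero =>
    cases k with
    | zero => simp [chooseL]
    | succ k => simp [chooseL]
  | succ n ih =>
    cases k with
    | zero => simp [chooseL]
    | succ k =>
      simp only [chooseL]
      rw [List.nodup_append]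
      refine ⟨(ih (k + 1)).map (fun a b h => by simpa using h),
        (ih k).map (fun a b h => by simpa using h), ?_⟩
      intro x hx y hy hxy
      simp only [List.mem_map] at hx hy
      obtain ⟨a, _, rfl⟩ := hx
      obtain ⟨b, _, rfl⟩ := hy
      omega

theorem exists_mem_chooseL (s : Finset GolayPt) :
    ∃ u ∈ chooseL 24 s.card, s = dec u :=
  ⟨enc s, mem_chooseL 24 _ _ (enc_lt s) (card_eq_pc_enc s).symm, (dec_enc s).symm⟩

theorem dec_subset_iff {a b : ℕ} (ha : a < 2 ^ 24) : dec a ⊆ dec b ↔ b &&& a = a := by
  constructor
  · intro h
    apply dec_injOn (Nat.and_lt_two_pow _ ha) ha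
    rw [dec_land]
    exact Finset.inter_eq_right.mpr h
  · intro h
    rw [← h, dec_land]
    exact Finset.inter_subset_left

theorem dec_disjoint_iff {a b : ℕ} (ha : a < 2 ^ 24) : Disjoint (dec a) (dec b) ↔ a &&& b = 0 := by
  rw [Finset.disjoint_iff_inter_eq_empty, ← dec_land, ← dec_zero]
  constructor
  · intro h
    exact dec_injOn (by rw [Nat.land_comm]; exact Nat.and_lt_two_pow _ ha) (by norm_num) h
  · intro h
    rw [h]

end Cfsg.Agent.Lib.Helper26
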