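import Cfsg.Agent.Lib.Conway.Order
import Cfsg.Agent.Lib.Conway.Co2Norm2

set_option autoImplicit false

/-!
Conjugacy of lattice vectors under the stabiliser of the standard cross, and under the part of it that
fixes the vector `V0 = (4, -4, 0^22)`.
-/

namespace Cfsg.Agent.Lib.Helper26.CrossMax

open Cfsg Cfsg.Agent.Lib.Conway Cfsg.Agent.Lib.Helper93.Leech Cfsg.Agent.Lib.Helper93.Golay
open Cfsg.Agent.S1571 (Stab mono_stab param param_injective param_surjective)
open scoped Pointwise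

/-! ### Monomial algebra (after `Lib.Helper4.CrossStab`) -/

theorem mono_mul (σ τ : Equiv.Perm GolayPt) (c d : Finset GolayPt) (hσ : σ ∈ M24) (hτ : τ ∈ M24)
    (hc : c ∈ CS) (hd : d ∈ CS) :
    mono σ c hσ hc * mono τ d hτ hd =
      mono (σ * τ) (symmDiff c (σ • d)) (M24.mul_mem hσ hτ)
        (symmDiff_mem_supports hc (smul_mem_supports_of_mem_M24 hσ hd)) := by
  apply co0_ext
  intro v
  apply Subtype.ext
  rw [co0_mul_smul, mono_smul, mono_smul, mono_smul, signedPerm_signedPerm]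

theorem mono_one : mono 1 ∅ M24.one_mem empty_mem_supports = 1 := by
  apply co0_ext
  intro v
  apply Subtype.ext
  rw [mono_smul, signedPerm_one_empty]
  rfl

theorem mono_inv (σ : Equiv.Perm GolayPt) (c : Finset GolayPt) (hσ : σ ∈ M24) (hc : c ∈ CS) :
    (mono σ c hσ hc)⁻¹ = mono σ⁻¹ (σ⁻¹ • c) (M24.inv_mem hσ)
      (smul_mem_supports_of_mem_M24 (M24.inv_mem hσ) hc) := by
  rw [inv_eq_iff_mul_eq_one]
  apply co0_ext
  intro v
  apply Subtype.ext
  rw [co0_mul_smul, mono_smul, mono_smul, signedPerm_inv']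
  rfl

theorem exists_mono (γ : Co0) (H : Stab γ) :
    ∃ (σ : Equiv.Perm GolayPt) (c : Finset GolayPt) (hσ : σ ∈ M24) (hc : c ∈ CS),
      γ = mono σ c hσ hc := by
  obtain ⟨⟨⟨σ, hσ⟩, ⟨c, hc⟩⟩, h⟩ := param_surjective ⟨γ, H⟩
  exact ⟨σ, c, hσ, hc, (congrArg Subtype.val h).symm⟩

theorem stab_one : Stab 1 := fun _ hv => hv

theorem stab_inv {γ : Co0} (H : Stab γ) : Stab γ⁻¹ := by
  obtain ⟨σ, c, hσ, hc, rfl⟩ := exists_mono γ H
  rw [mono_inv]
  exact mono_stab _ _ _ _

/-- the stabiliser of the standard cross -/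
def NN : Subgroup Co0 where
  carrier := {γ | Stab γ}
  one_mem' := stab_one
  mul_mem' := fun ha hb => stab_mul ha hb
  inv_mem' := fun ha => stab_inv ha

theorem mem_NN {γ : Co0} : γ ∈ NN ↔ Stab γ := Iff.rfl

/-- two lattice vectors in the same orbit of the stabiliser of the standard cross -/
def ConjN (v w : leechLattice) : Prop := ∃ g : Co0, Stab g ∧ g • v = w

theorem ConjN.refl (v : leechLattice) : ConjN v v := ⟨1, stab_one, rfl⟩

theorem ConjN.symm {v w : leechLattice} (h : ConjN v w) : ConjN w v := by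
  obtain ⟨g, hg, rfl⟩ := h
  exact ⟨g⁻¹, stab_inv hg, inv_smul_smul g v⟩

theorem ConjN.trans {u v w : leechLattice} (h1 : ConjN u v) (h2 : ConjN v w) : ConjN u w := by
  obtain ⟨g, hg, rfl⟩ := h1
  obtain ⟨h, hh, rfl⟩ := h2
  exact ⟨h * g, stab_mul hh hg, mul_smul h g u⟩

theorem nconj_mono (σ : Equiv.Perm GolayPt) (c : Finset GolayPt) (hσ : σ ∈ M24) (hc : c ∈ CS)
    (v : leechLattice) : ConjN v ⟨signedPerm σ c v, signedPerm_mem hσ hc v.2⟩ :=
  ⟨mono σ c hσ hc, mono_stab σ c hσ hc, Subtype.ext (mono_smul σ c hσ hc v)⟩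

theorem nconj_of_eq {v w : leechLattice} (h : (v : Vec) = w) : ConjN v w := by
  have : v = w := Subtype.ext h
  rw [this]
  exact ConjN.refl w

/-- conjugacy under the elements of the stabiliser of the standard cross that fix `V0` -/
def ConjVN (w w' : leechLattice) : Prop := ∃ g : Co0, Stab g ∧ g • V0 = V0 ∧ g • w = w'

theorem ConjVN.refl (w : leechLattice) : ConjVN w w := ⟨1, stab_one, rfl, rfl⟩

theorem ConjVN.symm {w w' : leechLattice} (h : ConjVN w w') : ConjVN w' w := by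
  obtain ⟨g, hg, h0, rfl⟩ := h
  refine ⟨g⁻¹, stab_inv hg, ?_, inv_smul_smul g w⟩
  conv_lhs => rw [← h0]
  exact inv_smul_smul g V0

theorem ConjVN.trans {w w' w'' : leechLattice} (h : ConjVN w w') (h' : ConjVN w' w'') :
    ConjVN w w'' := by
  obtain ⟨g, hg, h0, rfl⟩ := h
  obtain ⟨g', hg', h0', rfl⟩ := h'
  refine ⟨g' * g, stab_mul hg' hg, ?_, mul_smul g' g w⟩
  rw [mul_smul, h0, h0']

theorem nconjV_of_eq {w w' : leechLattice} (h : (w : Vec) = w') : ConjVN w w' := by
  have : w = w' := Subtype.ext h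
  rw [this]
  exact ConjVN.refl w'

/-- the monomial elements fixing `V0` -/
theorem nconjV_mono (σ : Equiv.Perm GolayPt) (c : Finset GolayPt) (hσ : σ ∈ M24) (hc : c ∈ CS)
    (hσa : σ pa = pa) (hσb : σ pb = pb) (ha : pa ∉ c) (hb : pb ∉ c) (w : leechLattice) :
    ConjVN w ⟨signedPerm σ c w, signedPerm_mem hσ hc w.2⟩ := by
  refine ⟨mono σ c hσ hc, mono_stab σ c hσ hc, ?_, Subtype.ext (mono_smul σ c hσ hc w)⟩
  apply Subtype.ext
  rw [mono_smul]
  funext k
  show signedPerm σ c v0 k = v0 k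
  rw [signedPerm_apply]
  have hsa : σ.symm pa = pa := by conv_lhs => rw [← hσa]; simp
  have hsb : σ.symm pb = pb := by conv_lhs => rw [← hσb]; simp
  have hka : σ.symm k = pa ↔ k = pa := by
    constructor
    · intro h; rw [← hσa, ← h]; simp
    · intro h; rw [h, hsa]
  have hkb : σ.symm k = pb ↔ k = pb := by
    constructor
    · intro h; rw [← hσb, ← h]; simp
    · intro h; rw [h, hsb]
  unfold v0
  by_cases h1 : k = pa
  · rw [if_neg (by rw [h1]; exact ha), if_pos (hka.mpr h1), if_pos h1]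
  · by_cases h2 : k = pb
    · rw [if_neg (by rw [h2]; exact hb), if_neg (fun h => h1 (hka.mp h)), if_pos (hkb.mpr h2),
        if_neg h1, if_pos h2]
    · rw [if_neg (fun h => h1 (hka.mp h)), if_neg (fun h => h2 (hkb.mp h)), if_neg h1, if_neg h2]
      split <;> rfl

theorem ConjVN.toConjN {w w' : leechLattice} (h : ConjVN w w') : ConjN w w' := by
  obtain ⟨g, hg, -, h1⟩ := h
  exact ⟨g, hg, h1⟩

end Cfsg.Agent.Lib.Helper26.CrossMax
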