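import Cfsg.Agent.Lib.Helper26.CrossTrans

set_option autoImplicit false

/-!
A subgroup of `Co0` containing the stabiliser of the standard cross either is contained in it or is
transitive on the minimal vectors.
-/

namespace Cfsg.Agent.Lib.Helper26.CrossMax

open Cfsg Cfsg.Agent.Lib.Conway Cfsg.Agent.Lib.Helper93.Leech Cfsg.Agent.Lib.Helper93.Golay
open Cfsg.Agent.Lib.Golay.LeechBasis Cfsg.Agent.Lib.Helper26.CoTab
open Cfsg.Agent.S1571 (Stab mono_stab fr_mem_stdCross)
open scoped Pointwise

/-- the statement of the lemma on scalar products with the even minimal vectors -/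
def EvenDots : Prop :=
  ∀ y : leechLattice, sqNorm (y : Vec) = 64 →
    (∀ z : leechLattice, sqNorm (z : Vec) = 32 → (∀ i, (z : Vec) i % 2 = 0) →
      (16 : ℤ) ∣ dotInt (y : Vec) (z : Vec)) → (y : Vec) ∈ stdCross

theorem dot_frame (v : leechLattice) (hv : (v : Vec) ∈ stdCross) (z : leechLattice) :
    ∃ i, dotInt (v : Vec) (z : Vec) = 8 * (z : Vec) i ∨ dotInt (v : Vec) (z : Vec) = -8 * (z : Vec) i := by
  obtain ⟨i, s, hs, hv⟩ := hv
  refine ⟨i, ?_⟩
  rw [hv, dot_single]
  rcases hs with rfl | rfl
  · exact Or.inl rfl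
  · exact Or.inr rfl

theorem sqNorm_frame (v : leechLattice) (hv : (v : Vec) ∈ stdCross) : sqNorm (v : Vec) = 64 := by
  obtain ⟨i, s, hs, hv⟩ := hv
  rw [hv, sqNorm_single]
  rcases hs with rfl | rfl <;> norm_num

section

variable (M : Subgroup Co0)

/-- conjugacy under `M` -/
def ConjM (x y : leechLattice) : Prop := ∃ g ∈ M, g • x = y

theorem ConjM.refl (x : leechLattice) : ConjM M x x := ⟨1, M.one_mem, rfl⟩

variable {M}

theorem ConjM.symm {x y : leechLattice} (h : ConjM M x y) : ConjM M y x := by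
  obtain ⟨g, hg, rfl⟩ := h
  exact ⟨g⁻¹, M.inv_mem hg, inv_smul_smul g x⟩

theorem ConjM.trans {x y z : leechLattice} (h1 : ConjM M x y) (h2 : ConjM M y z) : ConjM M x z := by
  obtain ⟨g, hg, rfl⟩ := h1
  obtain ⟨h, hh, rfl⟩ := h2
  exact ⟨h * g, M.mul_mem hh hg, mul_smul h g x⟩

theorem ConjN.toM (hNM : ∀ g, Stab g → g ∈ M) {x y : leechLattice} (h : ConjN x y) : ConjM M x y := by
  obtain ⟨g, hg, rfl⟩ := h
  exact ⟨g, hNM g hg, rfl⟩

/-- a subgroup preserving the even minimal vectors stabilises the standard cross -/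
theorem stab_of_preserves_ev (hD : EvenDots)
    (h : ∀ g ∈ M, ∀ x : leechLattice, sqNorm (x : Vec) = 32 → kEv x → kEv (g • x)) :
    ∀ g ∈ M, Stab g := by
  intro g hg v hv
  apply hD (g • v) (by rw [co0_norm]; exact sqNorm_frame v hv)
  intro z hz hev
  have hz' : sqNorm ((g⁻¹ • z : leechLattice) : Vec) = 32 := by rw [co0_norm]; exact hz
  have hev' : kEv (g⁻¹ • z) := h g⁻¹ (M.inv_mem hg) z hz hev
  have e : dotInt ((g • v : leechLattice) : Vec) (z : Vec) =
      dotInt (v : Vec) ((g⁻¹ • z : leechLattice) : Vec) := by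
    have := co0_dot g v (g⁻¹ • z)
    rw [smul_inv_smul] at this
    exact this
  rw [e]
  obtain ⟨i, hi⟩ := dot_frame v hv (g⁻¹ • z)
  have := hev' i
  rcases hi with hi | hi <;> rw [hi] <;> omega

/-- a subgroup preserving the minimal vectors of kind `(4, 4, 0^22)` stabilises the standard cross -/
theorem stab_of_preserves_A
    (h : ∀ g ∈ M, ∀ x : leechLattice, sqNorm (x : Vec) = 32 → kA x → kA (g • x)) :
    ∀ g ∈ M, Stab g := by
  intro g hg v hv
  apply mem_stdCross_of_A_dots (g • v) (by rw [co0_norm]; exact sqNorm_frame v hv)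
  intro z hz hzA
  have hz' : sqNorm ((g⁻¹ • z : leechLattice) : Vec) = 32 := by rw [co0_norm]; exact hz
  have hA' : kA (g⁻¹ • z) := h g⁻¹ (M.inv_mem hg) z hz hzA
  have e : dotInt ((g • v : leechLattice) : Vec) (z : Vec) =
      dotInt (v : Vec) ((g⁻¹ • z : leechLattice) : Vec) := by
    have := co0_dot g v (g⁻¹ • z)
    rw [smul_inv_smul] at this
    exact this
  rw [e]
  obtain ⟨i, hi⟩ := dot_frame v hv (g⁻¹ • z)
  have := hA' i
  rcases hi with hi | hi <;> rw [hi] <;> omega

theorem LB_kB : kB LB := by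
  constructor
  · intro i
    show (if i ∈ Conway.O0 then (2 : ℤ) else 0) % 2 = 0
    split <;> norm_num
  · have : ∃ i : GolayPt, i ∈ Conway.O0 := by
      have h := Conway.O0_mem.2
      have : Conway.O0.Nonempty := by
        rw [← Finset.card_pos, h]; norm_num
      exact this
    obtain ⟨i, hi⟩ := this
    refine ⟨i, ?_⟩
    show (if i ∈ Conway.O0 then (2 : ℤ) else 0) % 4 = 2
    rw [if_pos hi]; norm_num

theorem LC_kC : kC LC := by
  show vC none % 2 = 1
  unfold vC
  rw [if_pos rfl]; norm_num

/-- the dichotomy -/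
theorem stab_or_trans (hD : EvenDots) (hNM : ∀ g, Stab g → g ∈ M) :
    (∀ g ∈ M, Stab g) ∨
      ∀ x y : leechLattice, sqNorm (x : Vec) = 32 → sqNorm (y : Vec) = 32 → ConjM M x y := by
  -- conjugacy to the representatives
  have cA : ∀ x : leechLattice, sqNorm (x : Vec) = 32 → kA x → ConjM M x LA :=
    fun x hx hA => (nconjA x hx hA).toM hNM
  have cB : ∀ x : leechLattice, sqNorm (x : Vec) = 32 → kB x → ConjM M x LB :=
    fun x hx hB => (nconjB x hx hB.1 hB.2).toM hNM
  have cC : ∀ x : leechLattice, sqNorm (x : Vec) = 32 → kC x → ConjM M x LC :=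
    fun x hx hC => (nconjC x hx hC).toM hNM
  by_cases hB : ∃ g ∈ M, ∃ x : leechLattice, sqNorm (x : Vec) = 32 ∧ kA x ∧ kB (g • x)
  · obtain ⟨g1, hg1, x1, hx1, hA1, hB1⟩ := hB
    have hLB : ConjM M LB LA :=
      (cB (g1 • x1) (by rw [co0_norm]; exact hx1) hB1).symm.trans
        ((ConjM.symm ⟨g1, hg1, rfl⟩).trans (cA x1 hx1 hA1))
    by_cases hC : ∃ g ∈ M, ∃ x : leechLattice, sqNorm (x : Vec) = 32 ∧ kA x ∧ kC (g • x)
    · -- transitive
      right
      obtain ⟨g2, hg2, x2, hx2, hA2, hC2⟩ := hC
      have hLC : ConjM M LC LA :=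
        (cC (g2 • x2) (by rw [co0_norm]; exact hx2) hC2).symm.trans
          ((ConjM.symm ⟨g2, hg2, rfl⟩).trans (cA x2 hx2 hA2))
      have hall : ∀ x : leechLattice, sqNorm (x : Vec) = 32 → ConjM M x LA := by
        intro x hx
        rcases kind_cases x with h | h | h
        · exact cA x hx h
        · exact (cB x hx h).trans hLB
        · exact (cC x hx h).trans hLC
      intro x y hx hy
      exact (hall x hx).trans (hall y hy).symm
    · -- the even vectors are preserved
      left
      push Not at hC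
      apply stab_of_preserves_ev hD
      intro g hg x hx hev
      apply kEv_of_not_kC
      intro hCx
      rcases kind_cases x with h | h | h
      · exact hC g hg x hx h hCx
      · -- `x` is the image of a vector of kind `A`
        obtain ⟨m, hm, hmx⟩ := ((cB x hx h).trans hLB).symm
        have hxm : x = m • LA := hmx.symm
        rw [hxm, ← mul_smul] at hCx
        exact hC (g * m) (M.mul_mem hg hm) LA LA_norm LA_kA hCx
      · exact not_kC_of_kEv hev h
  · push Not at hB
    by_cases hC : ∃ g ∈ M, ∃ x : leechLattice, sqNorm (x : Vec) = 32 ∧ kA x ∧ kC (g • x)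
    · -- impossible: the kind `B` is preserved, hence the even vectors
      exfalso
      obtain ⟨g2, hg2, x2, hx2, hA2, hC2⟩ := hC
      have hLC : ConjM M LC LA :=
        (cC (g2 • x2) (by rw [co0_norm]; exact hx2) hC2).symm.trans
          ((ConjM.symm ⟨g2, hg2, rfl⟩).trans (cA x2 hx2 hA2))
      have hpB : ∀ g ∈ M, ∀ x : leechLattice, sqNorm (x : Vec) = 32 → kB x → kB (g • x) := by
        intro g hg x hx hBx
        have hgx : sqNorm ((g • x : leechLattice) : Vec) = 32 := by rw [co0_norm]; exact hx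
        rcases kind_cases (g • x) with h | h | h
        · exfalso
          have := hB g⁻¹ (M.inv_mem hg) (g • x) hgx h
          rw [inv_smul_smul] at this
          exact this hBx
        · exact h
        · exfalso
          obtain ⟨m, hm, hmx⟩ := ((cC (g • x) hgx h).trans hLC).symm
          have : x = (g⁻¹ * m) • LA := by
            rw [mul_smul, hmx, inv_smul_smul]
          have h' := hB (g⁻¹ * m) (M.mul_mem (M.inv_mem hg) hm) LA LA_norm LA_kA
          rw [← this] at h'
          exact h' hBx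
      -- the image of `LA = ZZ - ZZ'` under `g2 * n` is even
      obtain ⟨n, hn, hnx⟩ := (nconjA x2 hx2 hA2).symm
      have hx2' : x2 = n • ZZ - n • ZZ' := by
        rw [← hnx, LA_eq_sub, Conway.co0_sub]
      have h1 := hpB (g2 * n) (M.mul_mem hg2 (hNM n hn)) ZZ ZZ_norm ZZ_kB
      have h2 := hpB (g2 * n) (M.mul_mem hg2 (hNM n hn)) ZZ' ZZ'_norm ZZ'_kB
      have e : g2 • x2 = (g2 * n) • ZZ - (g2 * n) • ZZ' := by
        rw [hx2', Conway.co0_sub, mul_smul, mul_smul]
      unfold kC at hC2
      rw [e] at hC2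
      have e1 := h1.1 none
      have e2 := h2.1 none
      have e3 : ((((g2 * n) • ZZ - (g2 * n) • ZZ' : leechLattice)) : Vec) none =
          (((g2 * n) • ZZ : leechLattice) : Vec) none - (((g2 * n) • ZZ' : leechLattice) : Vec) none :=
        rfl
      rw [e3] at hC2
      omega
    · -- the kind `A` is preserved
      left
      push Not at hC
      apply stab_of_preserves_A
      intro g hg x hx hA
      rcases kind_cases (g • x) with h | h | h
      · exact h
      · exact absurd h (hB g hg x hx hA)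
      · exact absurd h (hC g hg x hx hA)

end

end Cfsg.Agent.Lib.Helper26.CrossMax
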