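import Cfsg.Agent.Lib.Helper26.CrossG
import Cfsg.Agent.Lib.Helper26.CrossTrans2
import Cfsg.Agent.S1573
import Cfsg.Agent.S0394

set_option autoImplicit false

/-!
Counting: a subgroup of `Co0` containing the stabiliser of the standard cross and transitive on the
minimal vectors is the whole group.
-/

namespace Cfsg.Agent.Lib.Helper26.CrossMax

open Cfsg Cfsg.Agent.Lib.Conway Cfsg.Agent.Lib.Helper93.Leech Cfsg.Agent.Lib.Helper93.Golay
open Cfsg.Agent.Lib.Golay.LeechBasis Cfsg.Agent.Lib.Helper26.CoTab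
open Cfsg.Agent.S1571 (Stab mono_stab fr_mem_stdCross)
open MulAction
open scoped Pointwise

theorem finite_Co0' : Finite Co0 :=
  Nat.finite_of_card_ne_zero (by rw [card_Co0]; norm_num)

/-- orbit-stabiliser for a subgroup, with explicit sets -/
theorem card_eq_orbit_mul (K : Subgroup Co0) (a : leechLattice) :
    Nat.card K = {y : leechLattice | ∃ g ∈ K, g • a = y}.ncard *
      Nat.card {g : Co0 // g ∈ K ∧ g • a = a} := by
  haveI := finite_Co0'
  have h1 := Subgroup.card_eq_card_quotient_mul_card_subgroup (stabilizer K a)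
  rw [← Nat.card_congr (orbitEquivQuotientStabilizer K a)] at h1
  have h2 : Nat.card (orbit K a) = {y : leechLattice | ∃ g ∈ K, g • a = y}.ncard := by
    rw [Nat.card_coe_set_eq]
    congr 1
    ext y
    constructor
    · rintro ⟨g, rfl⟩
      exact ⟨g.1, g.2, rfl⟩
    · rintro ⟨g, hg, rfl⟩
      exact ⟨⟨g, hg⟩, rfl⟩
  have h3 : Nat.card (stabilizer K a) = Nat.card {g : Co0 // g ∈ K ∧ g • a = a} := by
    apply Nat.card_congr
    exact
      { toFun := fun g => ⟨g.1.1, g.1.2, g.2⟩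
        invFun := fun g => ⟨⟨g.1, g.2.1⟩, g.2.2⟩
        left_inv := fun g => rfl
        right_inv := fun g => rfl }
  rw [h1, h2, h3]

/-! ### The sets and their cardinalities -/

/-- the minimal vectors -/
def X4 : Set leechLattice := {x | sqNorm (x : Vec) = 32}

theorem ncard_X4 : X4.ncard = 196560 := by
  rw [← Cfsg.Agent.S0394.result, ← Set.ncard_image_of_injective X4 Subtype.val_injective]
  congr 1
  ext w
  constructor
  · rintro ⟨x, hx, rfl⟩
    exact ⟨x.2, hx⟩
  · rintro ⟨h0, h1⟩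
    exact ⟨⟨w, h0⟩, h1, rfl⟩

/-- the minimal vectors orthogonal to `V0` -/
def Om0 : Set leechLattice := {x | sqNorm (x : Vec) = 32 ∧ dotInt v0 (x : Vec) = 0}

theorem ncard_Om0 : Om0.ncard = 93150 := by
  rw [← (Cfsg.Agent.S1573.result v0 V0.2 sqNorm_v0).2.2]
  symm
  apply Set.ncard_congr (fun w hw => (⟨w, hw.1⟩ : leechLattice))
  · rintro w ⟨h1, h2, h3⟩
    exact ⟨h2, h3⟩
  · intro w w' _ _ h
    exact congrArg Subtype.val h
  · rintro ⟨w, hw⟩ ⟨h2, h3⟩
    exact ⟨w, ⟨hw, h2, h3⟩, rfl⟩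

theorem finite_Om0 : Om0.Finite := Set.finite_of_ncard_ne_zero (by rw [ncard_Om0]; norm_num)

theorem R0_norm : sqNorm (R0 : Vec) = 32 := r0_facts.1

theorem R0_mem_Om0 : R0 ∈ Om0 := ⟨r0_facts.1, r0_facts.2.1⟩

theorem V0_add_R0 : V0 + R0 = F0 := by
  apply Subtype.ext
  funext k
  show v0 k + r0 k = (Pi.single pa 8 : Vec) k
  rw [add_comm]
  exact r0_facts.2.2 k

theorem smul_mem_Om0 {g : Co0} (hg : g • V0 = V0) {x : leechLattice} (hx : x ∈ Om0) :
    g • x ∈ Om0 := by
  refine ⟨by rw [co0_norm]; exact hx.1, ?_⟩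
  have := co0_dot g V0 x
  rw [hg] at this
  rw [← hx.2]
  exact this

/-- the number of elements fixing `V0` and `R0` -/
theorem card_fix2 : Nat.card {g : Co0 // g • V0 = V0 ∧ g • R0 = R0} = 454164480 := by
  have h1 := card_eq_orbit_mul ⊤ V0
  have e1 : {y : leechLattice | ∃ g ∈ (⊤ : Subgroup Co0), g • V0 = y} = X4 := by
    ext y
    constructor
    · rintro ⟨g, -, rfl⟩
      show sqNorm ((g • V0 : leechLattice) : Vec) = 32
      rw [co0_norm]; exact sqNorm_v0
    · intro hy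
      obtain ⟨g, hg⟩ := trans4 V0 y sqNorm_v0 hy
      exact ⟨g, Subgroup.mem_top g, hg⟩
  rw [e1, ncard_X4, Subgroup.card_top, card_Co0] at h1
  have h2 := card_eq_orbit_mul (stabilizer Co0 V0) R0
  have e2 : {y : leechLattice | ∃ g ∈ stabilizer Co0 V0, g • R0 = y} = Om0 := by
    ext y
    constructor
    · rintro ⟨g, hg, rfl⟩
      exact smul_mem_Om0 hg R0_mem_Om0
    · intro hy
      obtain ⟨g, hg, hgy⟩ := stab_trans_d0 V0 R0 y sqNorm_v0 R0_norm hy.1 R0_mem_Om0.2 hy.2
      exact ⟨g, hg, hgy⟩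
  rw [e2, ncard_Om0] at h2
  have e3 : Nat.card {g : Co0 // g ∈ (⊤ : Subgroup Co0) ∧ g • V0 = V0} =
      Nat.card (stabilizer Co0 V0) :=
    Nat.card_congr (Equiv.subtypeEquivRight fun g => by
      rw [mem_stabilizer_iff]; exact ⟨fun h => h.2, fun h => ⟨Subgroup.mem_top g, h⟩⟩)
  have e4 : Nat.card {g : Co0 // g ∈ stabilizer Co0 V0 ∧ g • R0 = R0} =
      Nat.card {g : Co0 // g • V0 = V0 ∧ g • R0 = R0} :=
    Nat.card_congr (Equiv.subtypeEquivRight fun g => by rw [mem_stabilizer_iff])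
  rw [e3] at h1
  rw [e4] at h2
  omega

/-- the number of elements fixing `F0` -/
theorem card_fixF : Nat.card {g : Co0 // g • F0 = F0} = 20891566080 := by
  have h1 := card_Co0_eq
  rw [card_Co0] at h1
  have e : Nat.card (stabilizer Co0 F0) = Nat.card {g : Co0 // g • F0 = F0} :=
    Nat.card_congr (Equiv.subtypeEquivRight fun g => by rw [mem_stabilizer_iff])
  omega

theorem count_arith (cM m cMV γ : ℕ) (h1 : cM = m * 20891566080) (h2 : cM = 196560 * cMV)
    (h3 : cMV = γ * 454164480) : 23 * m = 98280 * γ := by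
  subst h3
  subst h2
  have h' : m * 46 = 196560 * γ := by
    apply Nat.eq_of_mul_eq_mul_right (by norm_num : 0 < 454164480)
    rw [mul_assoc, mul_assoc, h1]
    norm_num
  omega

/-! ### A subgroup containing the stabiliser of the standard cross -/

section

variable (M : Subgroup Co0)

/-- the orbit of `F0` -/
def SF : Set leechLattice := {y | ∃ g ∈ M, g • F0 = y}

/-- the orbit of `R0` under the elements fixing `V0` -/
def GamR : Set leechLattice := {y | ∃ g ∈ M, g • V0 = V0 ∧ g • R0 = y}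

theorem finite_SF : (SF M).Finite := by
  haveI := finite_Co0'
  have : SF M = (fun g : Co0 => g • F0) '' (M : Set Co0) := by
    ext y
    constructor
    · rintro ⟨g, hg, rfl⟩; exact ⟨g, hg, rfl⟩
    · rintro ⟨g, hg, rfl⟩; exact ⟨g, hg, rfl⟩
  rw [this]
  exact (Set.toFinite _).image _

theorem GamR_sub : GamR M ⊆ Om0 := by
  rintro y ⟨g, -, hg, rfl⟩
  exact smul_mem_Om0 hg R0_mem_Om0

theorem finite_GamR : (GamR M).Finite := finite_Om0.subset (GamR_sub M)

variable {M} (hNM : ∀ g, Stab g → g ∈ M)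

include hNM

theorem fixF_mem {g : Co0} (hg : g • F0 = F0) : g ∈ M := hNM g (stab_of_fix g hg)

theorem fix2_mem {g : Co0} (h1 : g • V0 = V0) (h2 : g • R0 = R0) : g ∈ M := by
  apply fixF_mem hNM
  rw [← V0_add_R0, co0_add, h1, h2]

/-- the counting identity -/
theorem count_identity
    (htr : ∀ x y : leechLattice, sqNorm (x : Vec) = 32 → sqNorm (y : Vec) = 32 → ConjM M x y) :
    23 * (SF M).ncard = 98280 * (GamR M).ncard ∧ (GamR M).ncard ∣ 93150 := by
  haveI := finite_Co0'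
  unfold SF
  -- the orbit of `F0`
  have h1 := card_eq_orbit_mul M F0
  have e1 : Nat.card {g : Co0 // g ∈ M ∧ g • F0 = F0} = 20891566080 := by
    rw [← card_fixF]
    exact Nat.card_congr (Equiv.subtypeEquivRight fun g =>
      ⟨fun h => h.2, fun h => ⟨fixF_mem hNM h, h⟩⟩)
  rw [e1] at h1
  -- the orbit of `V0`
  have h2 := card_eq_orbit_mul M V0
  have e2 : {y : leechLattice | ∃ g ∈ M, g • V0 = y} = X4 := by
    ext y
    constructor
    · rintro ⟨g, -, rfl⟩
      show sqNorm ((g • V0 : leechLattice) : Vec) = 32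
      rw [co0_norm]; exact sqNorm_v0
    · intro hy
      exact htr V0 y sqNorm_v0 hy
  rw [e2, ncard_X4] at h2
  -- the orbit of `R0` under the stabiliser of `V0`
  have h3 := card_eq_orbit_mul (M ⊓ stabilizer Co0 V0) R0
  have e3 : {y : leechLattice | ∃ g ∈ M ⊓ stabilizer Co0 V0, g • R0 = y} = GamR M := by
    ext y
    constructor
    · rintro ⟨g, ⟨hg, hg0⟩, rfl⟩
      exact ⟨g, hg, hg0, rfl⟩
    · rintro ⟨g, hg, hg0, rfl⟩
      exact ⟨g, ⟨hg, hg0⟩, rfl⟩
  have e4 : Nat.card {g : Co0 // g ∈ M ⊓ stabilizer Co0 V0 ∧ g • R0 = R0} = 454164480 := by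
    rw [← card_fix2]
    exact Nat.card_congr (Equiv.subtypeEquivRight fun g =>
      ⟨fun h => ⟨h.1.2, h.2⟩, fun h => ⟨⟨fix2_mem hNM h.1 h.2, h.1⟩, h.2⟩⟩)
  rw [e3, e4] at h3
  have e5 : Nat.card {g : Co0 // g ∈ M ∧ g • V0 = V0} = Nat.card (M ⊓ stabilizer Co0 V0 : Subgroup Co0) :=
    Nat.card_congr (Equiv.subtypeEquivRight fun g => by
      rw [Subgroup.mem_inf, mem_stabilizer_iff])
  rw [e5] at h2
  -- the stabiliser of `V0`
  have h4 := card_eq_orbit_mul (stabilizer Co0 V0) R0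
  have e6 : {y : leechLattice | ∃ g ∈ stabilizer Co0 V0, g • R0 = y} = Om0 := by
    ext y
    constructor
    · rintro ⟨g, hg, rfl⟩
      exact smul_mem_Om0 hg R0_mem_Om0
    · intro hy
      obtain ⟨g, hg, hgy⟩ := stab_trans_d0 V0 R0 y sqNorm_v0 R0_norm hy.1 R0_mem_Om0.2 hy.2
      exact ⟨g, hg, hgy⟩
  have e7 : Nat.card {g : Co0 // g ∈ stabilizer Co0 V0 ∧ g • R0 = R0} = 454164480 := by
    rw [← card_fix2]
    exact Nat.card_congr (Equiv.subtypeEquivRight fun g => by rw [mem_stabilizer_iff])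
  rw [e6, ncard_Om0, e7] at h4
  have hdvd : Nat.card (M ⊓ stabilizer Co0 V0 : Subgroup Co0) ∣ Nat.card (stabilizer Co0 V0) :=
    Subgroup.card_dvd_of_le inf_le_right
  constructor
  · exact count_arith _ _ _ _ h1 h2 h3
  · rw [h3, h4] at hdvd
    exact Nat.dvd_of_mul_dvd_mul_right (by norm_num) hdvd

end

end Cfsg.Agent.Lib.Helper26.CrossMax
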