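import Cfsg.Agent.Lib.Helper26.CrossTrans2

set_option autoImplicit false

/-!
A vector of norm 64 whose scalar products with all even minimal vectors are divisible by 16 is a frame
vector.
-/

namespace Cfsg.Agent.Lib.Helper26.CrossMax

open Cfsg Cfsg.Agent.Lib.Conway Cfsg.Agent.Lib.Helper93.Leech Cfsg.Agent.Lib.Helper93.Golay
open Cfsg.Agent.Lib.Golay.LeechBasis Cfsg.Agent.Lib.Helper26.CoTab
open scoped Pointwise

/-- an octad containing the point of index 0 and none of the points of index 1, 2, 3 -/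
def oStar : Finset GolayPt := fset 15777

theorem oStar_mem : oStar ∈ octads := by
  unfold oStar
  rw [Cfsg.Agent.Lib.Helper93.Golay.mem_octads_iff, fmask_fset' (by norm_num)]
  decide +kernel

theorem oStar_inter : ∀ i : Fin 24, i.val < 4 → (ptOf i ∈ oStar ↔ i.val = 0) := by
  unfold oStar
  decide +kernel

/-- twice the indicator of an octad, as a minimal vector -/
def octVec (O : Finset GolayPt) (hO : O ∈ octads) : leechLattice :=
  ⟨fun p => if p ∈ O then (2 : ℤ) else 0, Conway.two_ind_mem hO.1⟩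

theorem octVec_norm (O : Finset GolayPt) (hO : O ∈ octads) : sqNorm (octVec O hO : Vec) = 32 := by
  show sqNorm (fun p => if p ∈ O then (2 : ℤ) else 0) = 32
  unfold sqNorm
  have hpt : ∀ p : GolayPt, (if p ∈ O then (2 : ℤ) else 0) ^ 2 = if p ∈ O then 4 else 0 := by
    intro p; split <;> norm_num
  simp_rw [hpt]
  rw [Finset.sum_ite_mem, Finset.univ_inter, Finset.sum_const, hO.2]
  norm_num

theorem octVec_even (O : Finset GolayPt) (hO : O ∈ octads) (i : GolayPt) :
    (octVec O hO : Vec) i % 2 = 0 := by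
  show (if i ∈ O then (2 : ℤ) else 0) % 2 = 0
  split <;> norm_num

theorem dot_octVec (y : Vec) (O : Finset GolayPt) (hO : O ∈ octads) :
    dotInt y (octVec O hO : Vec) = 2 * ∑ p ∈ O, y p := by
  show dotInt y (fun p => if p ∈ O then (2 : ℤ) else 0) = _
  unfold dotInt
  have hpt : ∀ p : GolayPt, y p * (if p ∈ O then (2 : ℤ) else 0) = if p ∈ O then 2 * y p else 0 := by
    intro p; split <;> ring
  simp_rw [hpt]
  rw [Finset.sum_ite_mem, Finset.univ_inter, Finset.mul_sum]

/-- for every nonempty set of at most four points there is an octad meeting it in exactly one point -/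
theorem exists_octad_single (U : Finset GolayPt) (hne : U.Nonempty) (hU : U.card ≤ 4) :
    ∃ O ∈ octads, ∃ a ∈ U, a ∈ O ∧ ∀ b ∈ U, b ∈ O → b = a := by
  classical
  have hk24 : U.card ≤ 24 := by omega
  have hk5 : U.card ≤ 5 := by omega
  have hpos : 0 < U.card := Finset.card_pos.mpr hne
  -- the points of `U` as an embedding
  let x : Fin U.card ↪ GolayPt :=
    U.equivFin.symm.toEmbedding.trans (Function.Embedding.subtype _)
  let y : Fin U.card ↪ GolayPt :=
    (Fin.castLEEmb hk24).trans ptEquiv.symm.toEmbedding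
  obtain ⟨σ, hσ, hσx⟩ := m24_trans_emb hk5 x y
  have hxU : ∀ i, x i ∈ U := fun i => (U.equivFin.symm i).2
  have hxsurj : ∀ b ∈ U, ∃ i, x i = b := by
    intro b hb
    refine ⟨U.equivFin ⟨b, hb⟩, ?_⟩
    show ((U.equivFin.symm (U.equivFin ⟨b, hb⟩) : U) : GolayPt) = b
    rw [Equiv.symm_apply_apply]
  have hy : ∀ i : Fin U.card, y i = ptOf ⟨i.val, by omega⟩ := fun i => rfl
  -- the octad
  refine ⟨σ⁻¹ • oStar, smul_mem_octads_of_mem_M24 (M24.inv_mem hσ) oStar_mem, x ⟨0, hpos⟩,
    hxU _, ?_, ?_⟩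
  · rw [Finset.mem_smul_finset]
    refine ⟨σ (x ⟨0, hpos⟩), ?_, by simp [Equiv.Perm.smul_def]⟩
    rw [hσx, hy]
    exact (oStar_inter ⟨0, by omega⟩ (by norm_num)).mpr rfl
  · intro b hb hbO
    obtain ⟨i, rfl⟩ := hxsurj b hb
    rw [Finset.mem_smul_finset] at hbO
    obtain ⟨c, hc, hcb⟩ := hbO
    have hc' : c = σ (x i) := by
      rw [← hcb]; simp [Equiv.Perm.smul_def]
    rw [hc', hσx, hy] at hc
    have hi4 : i.val < 4 := by have := i.2; omega
    have := (oStar_inter ⟨i.val, by omega⟩ hi4).mp hc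
    congr 1
    exact Fin.ext this

theorem even_dots : EvenDots := by
  intro y hn h
  -- the vectors `4 e_a ± 4 e_b`
  have hab : ∀ a b : GolayPt, a ≠ b → (4 : ℤ) ∣ (y : Vec) a + (y : Vec) b ∧
      (4 : ℤ) ∣ (y : Vec) a - (y : Vec) b := by
    intro a b hne
    have h1 := h (pairVec a b hne 1 (Or.inl rfl)) (sqNorm_pair a b hne 1 (Or.inl rfl))
      (kEv_of_kA (pairVec_kA a b hne 1 (Or.inl rfl)))
    have h2 := h (pairVec a b hne (-1) (Or.inr rfl)) (sqNorm_pair a b hne (-1) (Or.inr rfl))
      (kEv_of_kA (pairVec_kA a b hne (-1) (Or.inr rfl)))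
    have e1 : dotInt (y : Vec) ((pairVec a b hne 1 (Or.inl rfl) : leechLattice) : Vec) =
        4 * (y : Vec) a + 4 * 1 * (y : Vec) b := dot_pair (y : Vec) a b 1
    have e2 : dotInt (y : Vec) ((pairVec a b hne (-1) (Or.inr rfl) : leechLattice) : Vec) =
        4 * (y : Vec) a + 4 * (-1) * (y : Vec) b := dot_pair (y : Vec) a b (-1)
    rw [e1] at h1
    rw [e2] at h2
    constructor <;> omega
  -- all coordinates are divisible by 4
  have h4 : ∀ a, (4 : ℤ) ∣ (y : Vec) a := by
    have h2 : ∀ a, (2 : ℤ) ∣ (y : Vec) a := by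
      intro a
      obtain ⟨b, hb⟩ : ∃ b : GolayPt, a ≠ b := by
        by_cases ha : a = none
        · exact ⟨some 0, by rw [ha]; decide⟩
        · exact ⟨none, ha⟩
      have := hab a b hb
      omega
    by_contra hcon
    push Not at hcon
    obtain ⟨a0, ha0⟩ := hcon
    have hall : ∀ a, ¬ (4 : ℤ) ∣ (y : Vec) a := by
      intro a
      by_cases e : a0 = a
      · rw [← e]; exact ha0
      · have := hab a0 a e
        omega
    have hbig : ∀ a, 4 ≤ (y : Vec) a ^ 2 := by
      intro a
      have h1 := h2 a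
      have h2' := hall a
      have h' : (y : Vec) a ≤ -2 ∨ 2 ≤ (y : Vec) a := by omega
      rcases h' with h' | h' <;> nlinarith
    have : (24 : ℤ) * 4 ≤ sqNorm (y : Vec) := by
      unfold sqNorm
      calc (24 : ℤ) * 4 = ∑ _i : GolayPt, (4 : ℤ) := by
            rw [Finset.sum_const, Finset.card_univ]
            have : Fintype.card GolayPt = 24 := by decide
            rw [this]; norm_num
        _ ≤ ∑ i, (y : Vec) i ^ 2 := Finset.sum_le_sum fun i _ => hbig i
    omega
  -- the octads
  have hoct : ∀ O ∈ octads, (8 : ℤ) ∣ ∑ p ∈ O, (y : Vec) p := by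
    intro O hO
    have := h (octVec O hO) (octVec_norm O hO) (octVec_even O hO)
    rw [dot_octVec] at this
    omega
  -- the coordinates that are not divisible by 8
  apply mem_stdCross_of_dvd8 y hn
  by_contra hcon
  push Not at hcon
  set U : Finset GolayPt := Finset.univ.filter (fun a => ¬ (8 : ℤ) ∣ (y : Vec) a) with hU
  have hUne : U.Nonempty := by
    obtain ⟨a, ha⟩ := hcon
    exact ⟨a, by rw [hU, Finset.mem_filter]; exact ⟨Finset.mem_univ a, ha⟩⟩
  have hUcard : U.card ≤ 4 := by
    have hle : ∀ i, (if i ∈ U then (16 : ℤ) else 0) ≤ (y : Vec) i ^ 2 := by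
      intro i
      split
      · rename_i hi
        rw [hU, Finset.mem_filter] at hi
        have h1 := h4 i
        have h' : (y : Vec) i ≤ -4 ∨ 4 ≤ (y : Vec) i := by omega
        rcases h' with h' | h' <;> nlinarith
      · exact sq_nonneg _
    have : 16 * (U.card : ℤ) ≤ 64 := by
      calc 16 * (U.card : ℤ) = ∑ i, (if i ∈ U then (16 : ℤ) else 0) := by
            rw [Finset.sum_ite_mem, Finset.univ_inter, Finset.sum_const]
            simp [mul_comm]
        _ ≤ sqNorm (y : Vec) := Finset.sum_le_sum fun i _ => hle i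
        _ = 64 := hn
    omega
  obtain ⟨O, hO, a, haU, haO, huniq⟩ := exists_octad_single U hUne hUcard
  have hsum := hoct O hO
  rw [← Finset.add_sum_erase O _ haO] at hsum
  have hrest : (8 : ℤ) ∣ ∑ p ∈ O.erase a, (y : Vec) p := by
    apply Finset.dvd_sum
    intro p hp
    rw [Finset.mem_erase] at hp
    by_contra hnd
    have hpU : p ∈ U := by rw [hU, Finset.mem_filter]; exact ⟨Finset.mem_univ p, hnd⟩
    exact hp.1 (huniq p hpU hp.2)
  have haU' : ¬ (8 : ℤ) ∣ (y : Vec) a := by
    rw [hU, Finset.mem_filter] at haU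
    exact haU.2
  apply haU'
  have := (Int.dvd_add_left hrest).mp hsum
  exact this

end Cfsg.Agent.Lib.Helper26.CrossMax
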