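import Cfsg.Agent.Lib.Helper26.CrossCount

set_option autoImplicit false

/-!
The stabiliser of the standard cross is a maximal subgroup of `Co0` (given the two lemmas `EvenDots`
and `Mod23`).
-/

namespace Cfsg.Agent.Lib.Helper26.CrossMax

open Cfsg Cfsg.Agent.Lib.Conway Cfsg.Agent.Lib.Helper93.Leech Cfsg.Agent.Lib.Helper93.Golay
open Cfsg.Agent.Lib.Golay.LeechBasis Cfsg.Agent.Lib.Helper26.CoTab
open Cfsg.Agent.S1571 (Stab mono_stab fr_mem_stdCross)
open MulAction
open scoped Pointwise

/-- the statement of the lemma on the fixed points of an element of order 23 -/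
def Mod23 : Prop :=
  ∀ S : Set leechLattice, S.Finite → (∀ x ∈ S, sqNorm (x : Vec) = 64) →
    (∀ g : Co0, Stab g → ∀ x ∈ S, g • x ∈ S) → F0 ∈ S → S.ncard % 23 = 2

/-! ### The monomial element exchanging the base points -/

set_option maxRecDepth 100000 in
theorem r0_vals : r0 pa = 4 ∧ r0 pb = 4 ∧ ∀ k, k ≠ pa → k ≠ pb → r0 k = 0 := by
  decide +kernel

theorem exists_swap : ∃ n : Co0, Stab n ∧ n • V0 = V0 ∧ n • R0 = -R0 := by
  obtain ⟨σ, hσ, hσa, hσb⟩ := m24_trans2 pa_ne_pb pa_ne_pb.symm
  have hsa : σ.symm pa = pb := by rw [← hσb]; simp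
  have hsb : σ.symm pb = pa := by rw [← hσa]; simp
  have hother : ∀ k, k ≠ pa → k ≠ pb → σ.symm k ≠ pa ∧ σ.symm k ≠ pb := by
    intro k h1 h2
    constructor
    · intro e
      apply h2
      rw [← hσa, ← e]; simp
    · intro e
      apply h1
      rw [← hσb, ← e]; simp
  refine ⟨mono σ Finset.univ hσ univ_mem_supports, mono_stab _ _ _ _, ?_, ?_⟩
  · apply Subtype.ext
    rw [mono_smul]
    funext k
    show signedPerm σ Finset.univ v0 k = v0 k
    rw [signedPerm_apply, if_pos (Finset.mem_univ k)]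
    by_cases h1 : k = pa
    · rw [h1, hsa]; unfold v0; simp [pa_ne_pb.symm]
    · by_cases h2 : k = pb
      · rw [h2, hsb]; unfold v0; simp [pa_ne_pb.symm]
      · obtain ⟨h3, h4⟩ := hother k h1 h2
        unfold v0
        rw [if_neg h3, if_neg h4, if_neg h1, if_neg h2]; rfl
  · apply Subtype.ext
    rw [mono_smul]
    funext k
    show signedPerm σ Finset.univ r0 k = -r0 k
    rw [signedPerm_apply, if_pos (Finset.mem_univ k)]
    congr 1
    by_cases h1 : k = pa
    · rw [h1, hsa, r0_vals.1, r0_vals.2.1]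
    · by_cases h2 : k = pb
      · rw [h2, hsb, r0_vals.1, r0_vals.2.1]
      · obtain ⟨h3, h4⟩ := hother k h1 h2
        rw [r0_vals.2.2 k h1 h2, r0_vals.2.2 _ h3 h4]

/-! ### Evenness -/

theorem neg_ne_self {y : leechLattice} (hy : y ≠ 0) : -y ≠ y := by
  intro h
  apply hy
  apply Subtype.ext
  funext k
  have := congrArg (fun v : leechLattice => (v : Vec) k) h
  simp only [AddSubgroup.coe_neg, Pi.neg_apply] at this
  show (y : Vec) k = 0
  omega

theorem even_ncard_of_neg (S : Set leechLattice) (hfin : S.Finite) (hneg : ∀ y ∈ S, -y ∈ S)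
    (h0 : (0 : leechLattice) ∉ S) : Even S.ncard := by
  classical
  rw [Set.ncard_eq_toFinset_card S hfin]
  have hsum : ∑ _x ∈ hfin.toFinset, (1 : ZMod 2) = 0 := by
    apply Finset.sum_involution (fun y _ => -y)
    · intro y _
      decide
    · intro y hy _
      apply neg_ne_self
      intro e
      rw [e] at hy
      exact h0 (hfin.mem_toFinset.mp hy)
    · intro y _
      exact neg_neg y
    · intro y hy
      exact hfin.mem_toFinset.mpr (hneg y (hfin.mem_toFinset.mp hy))
  rw [Finset.sum_const, nsmul_eq_mul, mul_one] at hsum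
  have := (ZMod.natCast_eq_zero_iff _ 2).mp hsum
  exact even_iff_two_dvd.mpr this

/-! ### Arithmetic -/

theorem gamma_cases (m γ : ℕ) (h1 : 23 * m = 98280 * γ) (h2 : γ ∣ 93150) (h3 : m % 23 = 2)
    (h4 : Even γ) : γ = 46 ∨ γ = 93150 := by
  have h23 : 23 ∣ γ := by
    have : 23 ∣ 98280 * γ := ⟨m, h1.symm⟩
    exact (Nat.Coprime.dvd_of_dvd_mul_left (by norm_num : Nat.Coprime 23 98280)) this
  obtain ⟨t, rfl⟩ := h23
  have hm : m = 98280 * t := by omega
  have ht : t ∣ 4050 := by
    have : 23 * t ∣ 23 * 4050 := by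
      have e : (23 : ℕ) * 4050 = 93150 := by norm_num
      rw [e]; exact h2
    exact Nat.dvd_of_mul_dvd_mul_left (by norm_num) this
  have htm : t ∈ Nat.divisors 4050 := Nat.mem_divisors.mpr ⟨ht, by norm_num⟩
  rw [hm] at h3
  have key : ∀ t ∈ Nat.divisors 4050, (98280 * t) % 23 = 2 → Even (23 * t) → t = 2 ∨ t = 4050 := by
    decide +kernel
  rcases key t htm h3 h4 with rfl | rfl
  · left; norm_num
  · right; norm_num

/-! ### The main theorem -/

section

variable {M : Subgroup Co0} (hNM : ∀ g, Stab g → g ∈ M)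
  (htr : ∀ x y : leechLattice, sqNorm (x : Vec) = 32 → sqNorm (y : Vec) = 32 → ConjM M x y)

include hNM htr

theorem eq_top_of_trans (h23 : Mod23) : M = ⊤ := by
  obtain ⟨hid, hdvd⟩ := count_identity hNM htr
  -- the orbit of `F0` modulo 23
  have hmod : (SF M).ncard % 23 = 2 := by
    apply h23 (SF M) (finite_SF M)
    · rintro x ⟨g, -, rfl⟩
      rw [co0_norm]; exact sqNorm_F0
    · rintro g hg x ⟨h, hh, rfl⟩
      exact ⟨g * h, M.mul_mem (hNM g hg) hh, mul_smul g h F0⟩
    · exact ⟨1, M.one_mem, one_smul _ F0⟩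
  -- the orbit of `R0` is closed under negation
  obtain ⟨n0, hn0, hn0V, hn0R⟩ := exists_swap
  have hR : R0 ∈ GamR M := ⟨1, M.one_mem, one_smul _ V0, one_smul _ R0⟩
  have hneg : ∀ y ∈ GamR M, -y ∈ GamR M := by
    rintro y ⟨g, hg, hgV, rfl⟩
    refine ⟨g * n0, M.mul_mem hg (hNM n0 hn0), ?_, ?_⟩
    · rw [mul_smul, hn0V, hgV]
    · rw [mul_smul, hn0R, co0_neg]
  have hR' : -R0 ∈ GamR M := hneg R0 hR
  have h0 : (0 : leechLattice) ∉ GamR M := by
    intro h
    have := (GamR_sub M h).1
    have e : sqNorm ((0 : leechLattice) : Vec) = 0 := by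
      unfold sqNorm; simp
    omega
  have heven := even_ncard_of_neg (GamR M) (finite_GamR M) hneg h0
  rcases gamma_cases _ _ hid hdvd hmod heven with h46 | hall
  · -- impossible
    exfalso
    have hex : ∃ x ∈ GamR M, x ≠ R0 ∧ x ≠ -R0 := by
      by_contra hcon
      push Not at hcon
      have hsub : GamR M ⊆ ({R0, -R0} : Set leechLattice) := by
        intro x hx
        by_cases e : x = R0
        · exact Or.inl e
        · exact Or.inr (hcon x hx e)
      have hle := Set.ncard_le_ncard hsub (Set.toFinite _)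
      have h2 : ({R0, -R0} : Set leechLattice).ncard ≤ 2 := by
        have := Set.ncard_insert_le R0 ({-R0} : Set leechLattice)
        rw [Set.ncard_singleton] at this
        exact this
      omega
    obtain ⟨x, hx, hne, hne'⟩ := hex
    have hxO := GamR_sub M hx
    have h47 := ncard_ge_47 (GamR M) (finite_GamR M) (by
      rintro g hg hgV y ⟨h, hh, hhV, rfl⟩
      exact ⟨g * h, M.mul_mem (hNM g hg) hh, by rw [mul_smul, hhV, hgV], mul_smul g h R0⟩)
      hR hR' x hx hxO.1 hxO.2 hne hne'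
    omega
  · -- the stabiliser of `V0` in `M` is transitive on `Om0`
    have heq : GamR M = Om0 := by
      apply Set.eq_of_subset_of_ncard_le (GamR_sub M) _ finite_Om0
      rw [hall, ncard_Om0]
    rw [eq_top_iff]
    intro g _
    obtain ⟨m1, hm1, h1⟩ := htr V0 (g • V0) sqNorm_v0 (by rw [co0_norm]; exact sqNorm_v0)
    have hy : m1⁻¹ • (g • R0) ∈ Om0 := by
      refine ⟨by rw [co0_norm, co0_norm]; exact R0_norm, ?_⟩
      have e1 := co0_dot m1 V0 (m1⁻¹ • (g • R0))
      rw [smul_inv_smul, h1] at e1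
      have e2 := co0_dot g V0 R0
      show dotInt (V0 : Vec) ((m1⁻¹ • (g • R0) : leechLattice) : Vec) = 0
      rw [← e1, e2]
      exact R0_mem_Om0.2
    rw [← heq] at hy
    obtain ⟨m2, hm2, hm2V, hm2R⟩ := hy
    have hF : (m1 * m2) • F0 = g • F0 := by
      rw [← V0_add_R0, co0_add, co0_add, mul_smul, mul_smul, hm2V, hm2R, h1, smul_inv_smul]
    have hfix : ((m1 * m2)⁻¹ * g) • F0 = F0 := by
      rw [mul_smul, ← hF, inv_smul_smul]
    have := M.mul_mem (M.mul_mem hm1 hm2) (fixF_mem hNM hfix)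
    rw [mul_inv_cancel_left] at this
    exact this

end

/-- maximality of the stabiliser of the standard cross -/
theorem NN_isCoatom (hD : EvenDots) (h23 : Mod23) (H : Subgroup Co0)
    (hH : ∀ g, g ∈ H ↔ Stab g) : IsCoatom H := by
  constructor
  · -- `H` is a proper subgroup
    intro htop
    obtain ⟨g, hg⟩ := trans4 LA ZZ LA_norm ZZ_norm
    have hgS : Stab g := (hH g).mp (by rw [htop]; exact Subgroup.mem_top g)
    have := kA_stab hgS LA_kA
    rw [hg] at this
    exact not_kB_of_kA this ZZ_kB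
  · intro b hb
    have hNM : ∀ g, Stab g → g ∈ b := fun g hg => hb.le ((hH g).mpr hg)
    rcases stab_or_trans hD hNM with h | h
    · exfalso
      apply hb.not_ge
      intro g hg
      exact (hH g).mpr (h g hg)
    · exact eq_top_of_trans hNM h h23

end Cfsg.Agent.Lib.Helper26.CrossMax
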