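import Cfsg.Agent.Lib.Helper26.CrossBase

set_option autoImplicit false

/-!
Normal forms of the minimal vectors under the monomial elements fixing `V0` (copies of the proofs of
`Lib.Conway.Co2Norm` and `Lib.Conway.Co2Norm2`, which only use monomial elements): two minimal vectors
of the same kind with the same coordinates at the two base points are conjugate under the part of the
stabiliser of the standard cross that fixes `V0`.
-/

namespace Cfsg.Agent.Lib.Helper26.CrossMax

open Cfsg Cfsg.Agent.Lib.Conway Cfsg.Agent.Lib.Helper93.Leech Cfsg.Agent.Lib.Helper93.Golay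
open scoped Pointwise

theorem nnorm44_aux (w : leechLattice) (i j : GolayPt) (hij : i ≠ j)
    (hi : (w : Vec) i = 4 ∨ (w : Vec) i = -4) (hj : (w : Vec) j = 4 ∨ (w : Vec) j = -4)
    (hk : ∀ k, k ≠ i → k ≠ j → (w : Vec) k = 0)
    (hcase : (i = pa ∧ j = pb) ∨ (i = pa ∧ j ≠ pb) ∨ (i = pb ∧ j ≠ pa) ∨
      (i ≠ pa ∧ i ≠ pb ∧ j ≠ pa ∧ j ≠ pb)) :
    ∃ w1 : leechLattice, ConjVN w w1 ∧ (w1 : Vec) = canon44 ((w : Vec) pa) ((w : Vec) pb) := by
  have hi0 : (w : Vec) i ≠ 0 := by rcases hi with h | h <;> rw [h] <;> norm_num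
  have hj0 : (w : Vec) j ≠ 0 := by rcases hj with h | h <;> rw [h] <;> norm_num
  rcases hcase with ⟨rfl, rfl⟩ | ⟨rfl, hjb⟩ | ⟨rfl, hja⟩ | ⟨hia, hib, hja, hjb⟩
  · -- both base points
    refine ⟨w, ConjVN.refl w, ?_⟩
    funext k
    unfold canon44
    by_cases h1 : k = pa
    · rw [if_pos h1, h1]
    · by_cases h2 : k = pb
      · rw [if_neg h1, if_pos h2, h2]
      · rw [if_neg h1, if_neg h2, hk k h1 h2]
        have hR2 : (if (w : Vec) pa ≠ 0 ∧ (w : Vec) pb ≠ 0 then (0 : ℤ) else 4) = 0 :=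
          if_pos ⟨hi0, hj0⟩
        have hR3 : (if (w : Vec) pa = 0 ∧ (w : Vec) pb = 0 then (4 : ℤ) else 0) = 0 :=
          if_neg (fun h => hi0 h.1)
        rw [hR2, hR3]
        split
        · rfl
        · split <;> rfl
  · -- `pa` and an outer point
    have hja : j ≠ pa := fun h => hij h.symm
    have hwb : (w : Vec) pb = 0 := hk pb pa_ne_pb.symm (fun h => hjb h.symm)
    obtain ⟨σ, hσ, hσa, hσb, hσj⟩ := m24_trans3 pa_ne_pb hja.symm (fun h => hjb h.symm)
      pa_ne_pb P2_ne_pa.symm P2_ne_pb.symm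
    obtain ⟨c, hc, hca, hcb, hc2, -⟩ := sepStd ((w : Vec) j = -4) False
    refine ⟨_, nconjV_mono σ c hσ hc hσa hσb hca hcb w, ?_⟩
    funext k
    show signedPerm σ c (w : Vec) k = _
    rw [signedPerm_apply]
    unfold canon44
    by_cases h1 : k = pa
    · rw [if_pos h1, h1, if_neg hca, symm_fix hσa]
    · by_cases h2 : k = pb
      · rw [if_neg h1, if_pos h2, h2, if_neg hcb, symm_fix hσb]
      · rw [if_neg h1, if_neg h2]
        have hR2 : (if (w : Vec) pa ≠ 0 ∧ (w : Vec) pb ≠ 0 then (0 : ℤ) else 4) = 4 :=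
          if_neg (fun h => h.2 hwb)
        have hR3 : (if (w : Vec) pa = 0 ∧ (w : Vec) pb = 0 then (4 : ℤ) else 0) = 0 :=
          if_neg (fun h => hi0 h.1)
        rw [hR2, hR3]
        by_cases h3 : k = P 2
        · rw [if_pos h3, h3, (symm_eq_iff hσj (P 2)).mpr rfl]
          by_cases h5 : P 2 ∈ c
          · rw [if_pos h5, hc2.mp h5]; norm_num
          · rw [if_neg h5]
            rcases hj with h | h
            · exact h
            · exact absurd (hc2.mpr h) h5
        · have hz : (w : Vec) (σ.symm k) = 0 := by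
            apply hk
            · exact fun h => h1 ((symm_eq_iff hσa k).mp h)
            · exact fun h => h3 ((symm_eq_iff hσj k).mp h)
          rw [if_neg h3, hz]
          split <;> split <;> norm_num
  · -- `pb` and an outer point
    have hjb : j ≠ pb := fun h => hij h.symm
    have hwa : (w : Vec) pa = 0 := hk pa pa_ne_pb (fun h => hja h.symm)
    obtain ⟨σ, hσ, hσa, hσb, hσj⟩ := m24_trans3 pa_ne_pb hja.symm (fun h => hjb h.symm)
      pa_ne_pb P2_ne_pa.symm P2_ne_pb.symm
    obtain ⟨c, hc, hca, hcb, hc2, -⟩ := sepStd ((w : Vec) j = -4) False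
    refine ⟨_, nconjV_mono σ c hσ hc hσa hσb hca hcb w, ?_⟩
    funext k
    show signedPerm σ c (w : Vec) k = _
    rw [signedPerm_apply]
    unfold canon44
    by_cases h1 : k = pa
    · rw [if_pos h1, h1, if_neg hca, symm_fix hσa]
    · by_cases h2 : k = pb
      · rw [if_neg h1, if_pos h2, h2, if_neg hcb, symm_fix hσb]
      · rw [if_neg h1, if_neg h2]
        have hR2 : (if (w : Vec) pa ≠ 0 ∧ (w : Vec) pb ≠ 0 then (0 : ℤ) else 4) = 4 :=
          if_neg (fun h => h.1 hwa)
        have hR3 : (if (w : Vec) pa = 0 ∧ (w : Vec) pb = 0 then (4 : ℤ) else 0) = 0 :=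
          if_neg (fun h => hi0 h.2)
        rw [hR2, hR3]
        by_cases h3 : k = P 2
        · rw [if_pos h3, h3, (symm_eq_iff hσj (P 2)).mpr rfl]
          by_cases h5 : P 2 ∈ c
          · rw [if_pos h5, hc2.mp h5]; norm_num
          · rw [if_neg h5]
            rcases hj with h | h
            · exact h
            · exact absurd (hc2.mpr h) h5
        · have hz : (w : Vec) (σ.symm k) = 0 := by
            apply hk
            · exact fun h => h2 ((symm_eq_iff hσb k).mp h)
            · exact fun h => h3 ((symm_eq_iff hσj k).mp h)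
          rw [if_neg h3, hz]
          split <;> split <;> norm_num
  · -- two outer points
    have hwa : (w : Vec) pa = 0 := hk pa (fun h => hia h.symm) (fun h => hja h.symm)
    have hwb : (w : Vec) pb = 0 := hk pb (fun h => hib h.symm) (fun h => hjb h.symm)
    obtain ⟨σ, hσ, hσa, hσb, hσi, hσj⟩ := m24_trans4 pa_ne_pb (fun h => hia h.symm)
      (fun h => hja h.symm) (fun h => hib h.symm) (fun h => hjb h.symm) hij
      pa_ne_pb P2_ne_pa.symm P3_ne_pa.symm P2_ne_pb.symm P3_ne_pb.symm P3_ne_P2.symm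
    obtain ⟨c, hc, hca, hcb, hc2, hc3⟩ := sepStd ((w : Vec) i = -4) ((w : Vec) j = -4)
    refine ⟨_, nconjV_mono σ c hσ hc hσa hσb hca hcb w, ?_⟩
    funext k
    show signedPerm σ c (w : Vec) k = _
    rw [signedPerm_apply]
    unfold canon44
    by_cases h1 : k = pa
    · rw [if_pos h1, h1, if_neg hca, symm_fix hσa]
    · by_cases h2 : k = pb
      · rw [if_neg h1, if_pos h2, h2, if_neg hcb, symm_fix hσb]
      · rw [if_neg h1, if_neg h2]
        have hR2 : (if (w : Vec) pa ≠ 0 ∧ (w : Vec) pb ≠ 0 then (0 : ℤ) else 4) = 4 :=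
          if_neg (fun h => h.1 hwa)
        have hR3 : (if (w : Vec) pa = 0 ∧ (w : Vec) pb = 0 then (4 : ℤ) else 0) = 4 :=
          if_pos ⟨hwa, hwb⟩
        rw [hR2, hR3]
        by_cases h3 : k = P 2
        · rw [if_pos h3, h3, (symm_eq_iff hσi (P 2)).mpr rfl]
          by_cases h5 : P 2 ∈ c
          · rw [if_pos h5, hc2.mp h5]; norm_num
          · rw [if_neg h5]
            rcases hi with h | h
            · exact h
            · exact absurd (hc2.mpr h) h5
        · rw [if_neg h3]
          by_cases h4 : k = P 3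
          · rw [if_pos h4, h4, (symm_eq_iff hσj (P 3)).mpr rfl]
            by_cases h5 : P 3 ∈ c
            · rw [if_pos h5, hc3.mp h5]; norm_num
            · rw [if_neg h5]
              rcases hj with h | h
              · exact h
              · exact absurd (hc3.mpr h) h5
          · have hz : (w : Vec) (σ.symm k) = 0 := by
              apply hk
              · exact fun h => h3 ((symm_eq_iff hσi k).mp h)
              · exact fun h => h4 ((symm_eq_iff hσj k).mp h)
            rw [if_neg h4, hz]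
            split <;> norm_num

theorem nnorm44 (w : leechLattice) (hn : sqNorm (w : Vec) = 32) (h4 : ∀ i, (w : Vec) i % 4 = 0) :
    ∃ w1 : leechLattice, ConjVN w w1 ∧ (w1 : Vec) = canon44 ((w : Vec) pa) ((w : Vec) pb) := by
  obtain ⟨i, j, hij, hi, hj, hk⟩ := shape_44 h4 hn
  have hk' : ∀ k, k ≠ j → k ≠ i → (w : Vec) k = 0 := fun k h1 h2 => hk k h2 h1
  by_cases hia : i = pa
  · by_cases hjb : j = pb
    · exact nnorm44_aux w i j hij hi hj hk (Or.inl ⟨hia, hjb⟩)
    · exact nnorm44_aux w i j hij hi hj hk (Or.inr (Or.inl ⟨hia, hjb⟩))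
  · by_cases hib : i = pb
    · by_cases hja : j = pa
      · exact nnorm44_aux w j i hij.symm hj hi hk' (Or.inl ⟨hja, hib⟩)
      · exact nnorm44_aux w i j hij hi hj hk (Or.inr (Or.inr (Or.inl ⟨hib, hja⟩)))
    · by_cases hja : j = pa
      · exact nnorm44_aux w j i hij.symm hj hi hk' (Or.inr (Or.inl ⟨hja, hib⟩))
      · by_cases hjb : j = pb
        · exact nnorm44_aux w j i hij.symm hj hi hk' (Or.inr (Or.inr (Or.inl ⟨hjb, hia⟩)))
        · exact nnorm44_aux w i j hij hi hj hk (Or.inr (Or.inr (Or.inr ⟨hia, hib, hja, hjb⟩)))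

/-- two minimal vectors of kind `(4, 4, 0^22)` with the same coordinates at the base points are
conjugate -/
theorem nconjV_44 (w r : leechLattice) (hw : sqNorm (w : Vec) = 32) (hw4 : ∀ i, (w : Vec) i % 4 = 0)
    (hr : sqNorm (r : Vec) = 32) (hr4 : ∀ i, (r : Vec) i % 4 = 0)
    (ha : (w : Vec) pa = (r : Vec) pa) (hb : (w : Vec) pb = (r : Vec) pb) : ConjVN w r := by
  obtain ⟨w1, hw1, e1⟩ := nnorm44 w hw hw4
  obtain ⟨r1, hr1, e2⟩ := nnorm44 r hr hr4
  have : w1 = r1 := Subtype.ext (by rw [e1, e2, ha, hb])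
  rw [this] at hw1
  exact hw1.trans hr1.symm

/-- move the octad of a vector of kind `(2^8, 0^16)` to the root octad of its type -/
theorem nnorm28 (w : leechLattice) (hn : sqNorm (w : Vec) = 32) (hpar : ∀ i, (w : Vec) i % 2 = 0)
    (h2 : ∃ i, (w : Vec) i % 4 = 2) :
    ∃ w1 : leechLattice, ConjVN w w1 ∧ (w1 : Vec) pa = (w : Vec) pa ∧ (w1 : Vec) pb = (w : Vec) pb ∧
      (∀ k ∈ fset (octRoot (decide ((w : Vec) pa ≠ 0)) (decide ((w : Vec) pb ≠ 0))),
        (w1 : Vec) k = 2 ∨ (w1 : Vec) k = -2) ∧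
      ∀ k, k ∉ fset (octRoot (decide ((w : Vec) pa ≠ 0)) (decide ((w : Vec) pb ≠ 0))) →
        (w1 : Vec) k = 0 := by
  obtain ⟨hD, hin, hout⟩ := oct_data w hn hpar h2
  have hmem : ∀ p, p ∈ cls (w : Vec) 2 ↔ (w : Vec) p ≠ 0 := by
    intro p
    constructor
    · intro hp
      rcases hin p hp with e | e <;> rw [e] <;> norm_num
    · intro hp
      by_contra hnot
      exact hp (hout p hnot)
  obtain ⟨σ, hσ, hσa, hσb, hσD⟩ := exists_map_root _ hD
  have e1 : decide (pa ∈ cls (w : Vec) 2) = decide ((w : Vec) pa ≠ 0) := by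
    simp only [hmem pa]
  have e2 : decide (pb ∈ cls (w : Vec) 2) = decide ((w : Vec) pb ≠ 0) := by
    simp only [hmem pb]
  rw [e1, e2] at hσD
  have hmemO : ∀ k, k ∈ fset (octRoot (decide ((w : Vec) pa ≠ 0)) (decide ((w : Vec) pb ≠ 0))) ↔
      σ.symm k ∈ cls (w : Vec) 2 := by
    intro k
    rw [← hσD, Finset.mem_smul_finset]
    constructor
    · rintro ⟨y, hy, rfl⟩
      simpa [Equiv.Perm.smul_def] using hy
    · intro h
      exact ⟨σ.symm k, h, by simp [Equiv.Perm.smul_def]⟩
  have hval : ∀ k, signedPerm σ ∅ (w : Vec) k = (w : Vec) (σ.symm k) := by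
    intro k
    rw [signedPerm_apply]
    simp
  refine ⟨_, nconjV_mono σ ∅ hσ empty_mem_supports hσa hσb (by simp) (by simp) w, ?_, ?_, ?_, ?_⟩
  · show signedPerm σ ∅ (w : Vec) pa = _
    rw [hval, symm_fix hσa]
  · show signedPerm σ ∅ (w : Vec) pb = _
    rw [hval, symm_fix hσb]
  · intro k hk
    show signedPerm σ ∅ (w : Vec) k = 2 ∨ signedPerm σ ∅ (w : Vec) k = -2
    rw [hval]
    exact hin _ ((hmemO k).mp hk)
  · intro k hk
    show signedPerm σ ∅ (w : Vec) k = 0
    rw [hval]
    exact hout _ (fun h => hk ((hmemO k).mpr h))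

/-- two minimal vectors of kind `(2^8, 0^16)` with the same coordinates at the base points are
conjugate -/
theorem nconjV_28 (w r : leechLattice) (hw : sqNorm (w : Vec) = 32)
    (hwpar : ∀ i, (w : Vec) i % 2 = 0) (hw2 : ∃ i, (w : Vec) i % 4 = 2)
    (hr : sqNorm (r : Vec) = 32) (hrpar : ∀ i, (r : Vec) i % 2 = 0)
    (hr2 : ∃ i, (r : Vec) i % 4 = 2)
    (ha : (w : Vec) pa = (r : Vec) pa) (hb : (w : Vec) pb = (r : Vec) pb) : ConjVN w r := by
  obtain ⟨w1, hw1, hw1a, hw1b, hw1in, hw1out⟩ := nnorm28 w hw hwpar hw2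
  obtain ⟨r1, hr1, hr1a, hr1b, hr1in, hr1out⟩ := nnorm28 r hr hrpar hr2
  rw [← ha, ← hb] at hr1in hr1out
  set ta : Bool := decide ((w : Vec) pa ≠ 0) with hta
  set tb : Bool := decide ((w : Vec) pb ≠ 0) with htb
  set O : Finset GolayPt := fset (octRoot ta tb) with hO
  have hab1 : (w1 : Vec) pa = (r1 : Vec) pa := by rw [hw1a, hr1a, ha]
  have hbb1 : (w1 : Vec) pb = (r1 : Vec) pb := by rw [hw1b, hr1b, hb]
  set M : Finset GolayPt := O.filter (fun k => (w1 : Vec) k ≠ (r1 : Vec) k) with hM
  have hMsub : M ⊆ O := Finset.filter_subset _ _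
  have hMa : pa ∉ M := fun h => (Finset.mem_filter.mp h).2 hab1
  have hMb : pb ∉ M := fun h => (Finset.mem_filter.mp h).2 hbb1
  have hev : Even M.card := by
    have hs1 := sum_mod_eight_even w1 pa (by rw [hw1a]; exact hwpar pa)
    have hs2 := sum_mod_eight_even r1 pa (by rw [hr1a]; exact hrpar pa)
    have hpt : ∀ k, ((w1 : Vec) k - (r1 : Vec) k) % 8 = (if k ∈ M then (4 : ℤ) else 0) % 8 := by
      intro k
      by_cases hk : k ∈ O
      · by_cases hkM : k ∈ M
        · rw [if_pos hkM]
          have hne := (Finset.mem_filter.mp hkM).2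
          rcases hw1in k hk with e | e <;> rcases hr1in k hk with e' | e' <;> rw [e, e'] at hne ⊢ <;>
            first | exact absurd rfl hne | norm_num
        · rw [if_neg hkM]
          have : (w1 : Vec) k = (r1 : Vec) k := by
            by_contra hne
            exact hkM (Finset.mem_filter.mpr ⟨hk, hne⟩)
          rw [this]; norm_num
      · rw [if_neg (fun h => hk (hMsub h)), hw1out k hk, hr1out k hk]; norm_num
    have hsum1 : (∑ k, ((w1 : Vec) k - (r1 : Vec) k)) % 8 =
        (∑ k, (if k ∈ M then (4 : ℤ) else 0)) % 8 := by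
      rw [Finset.sum_int_mod, Finset.sum_congr rfl (fun k _ => hpt k), ← Finset.sum_int_mod]
    rw [Finset.sum_sub_distrib, Finset.sum_ite_mem, Finset.univ_inter, Finset.sum_const] at hsum1
    simp only [nsmul_eq_mul] at hsum1
    rw [Nat.even_iff]
    omega
  obtain ⟨c, hc, hca, hcb, hcM⟩ := exists_sign_root ta tb M hMsub hMa hMb hev
  have h3 : ConjVN w1 r1 := by
    refine (nconjV_mono 1 c M24.one_mem hc rfl rfl hca hcb w1).trans (nconjV_of_eq ?_)
    funext k
    show signedPerm 1 c (w1 : Vec) k = (r1 : Vec) k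
    rw [signedPerm_apply, one_symm]
    by_cases hk : k ∈ O
    · by_cases hkM : k ∈ M
      · rw [if_pos ((hcM k hk).mpr hkM)]
        have hne := (Finset.mem_filter.mp hkM).2
        rcases hw1in k hk with e | e <;> rcases hr1in k hk with e' | e' <;> rw [e, e'] at hne ⊢ <;>
          first | exact absurd rfl hne | norm_num
      · rw [if_neg (fun h => hkM ((hcM k hk).mp h))]
        by_contra hne
        exact hkM (Finset.mem_filter.mpr ⟨hk, hne⟩)
    · rw [hw1out k hk, hr1out k hk]
      split <;> norm_num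
  exact hw1.trans (h3.trans hr1.symm)

/-- two minimal vectors of kind `(3, 1^23)` with the same coordinates at the base points are
conjugate -/
theorem nconjV_31 (w r : leechLattice) (hw : sqNorm (w : Vec) = 32) (hwodd : (w : Vec) none % 2 = 1)
    (hr : sqNorm (r : Vec) = 32) (hrodd : (r : Vec) none % 2 = 1)
    (ha : (w : Vec) pa = (r : Vec) pa) (hb : (w : Vec) pb = (r : Vec) pb) : ConjVN w r := by
  obtain ⟨hwall, k0, hk0, hwk⟩ := odd_data w hw hwodd
  obtain ⟨hrall, k0', hk0', hrk⟩ := odd_data r hr hrodd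
  -- a permutation fixing the base points and matching the positions of the `3`
  obtain ⟨σ, hσ, hσa, hσb, hσk⟩ : ∃ σ ∈ M24, σ pa = pa ∧ σ pb = pb ∧ σ k0 = k0' := by
    by_cases h1 : k0 = pa
    · have : k0' = pa := by
        by_contra hne
        have := hrk pa (fun h => hne h.symm)
        rw [← ha, ← h1] at this
        rcases hk0 with e | e <;> rw [e] at this <;> omega
      exact ⟨1, M24.one_mem, rfl, rfl, by rw [h1, this]; rfl⟩
    · by_cases h2 : k0 = pb
      · have : k0' = pb := by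
          by_contra hne
          have := hrk pb (fun h => hne h.symm)
          rw [← hb, ← h2] at this
          rcases hk0 with e | e <;> rw [e] at this <;> omega
        exact ⟨1, M24.one_mem, rfl, rfl, by rw [h2, this]; rfl⟩
      · have h1' : k0' ≠ pa := by
          intro h
          have := hwk pa (fun e => h1 e.symm)
          rw [ha, ← h] at this
          rcases hk0' with e | e <;> rw [e] at this <;> omega
        have h2' : k0' ≠ pb := by
          intro h
          have := hwk pb (fun e => h2 e.symm)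
          rw [hb, ← h] at this
          rcases hk0' with e | e <;> rw [e] at this <;> omega
        exact m24_trans3 pa_ne_pb (fun e => h1 e.symm) (fun e => h2 e.symm) pa_ne_pb
          (fun e => h1' e.symm) (fun e => h2' e.symm)
  set w1 : leechLattice :=
    ⟨signedPerm σ ∅ w, signedPerm_mem hσ empty_mem_supports w.2⟩ with hw1
  have h1 : ConjVN w w1 :=
    nconjV_mono σ ∅ hσ empty_mem_supports hσa hσb (by simp) (by simp) w
  have hval : ∀ k, (w1 : Vec) k = (w : Vec) (σ.symm k) := by
    intro k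
    show signedPerm σ ∅ (w : Vec) k = _
    rw [signedPerm_apply]
    simp
  have hw1a : (w1 : Vec) pa = (r : Vec) pa := by rw [hval, symm_fix hσa, ha]
  have hw1b : (w1 : Vec) pb = (r : Vec) pb := by rw [hval, symm_fix hσb, hb]
  have habs : ∀ k, ((w1 : Vec) k = (r : Vec) k ∨ (w1 : Vec) k = -(r : Vec) k) ∧
      (w1 : Vec) k % 2 = 1 := by
    intro k
    rw [hval]
    refine ⟨?_, hwall _⟩
    by_cases hk : k = k0'
    · rw [hk, (symm_eq_iff hσk k0').mpr rfl]
      rcases hk0 with e | e <;> rcases hk0' with e' | e' <;> rw [e, e'] <;> norm_num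
    · have h1 := hwk (σ.symm k) (fun e => hk ((symm_eq_iff hσk k).mp e))
      have h2 := hrk k hk
      rcases h1 with e | e <;> rcases h2 with e' | e' <;> rw [e, e'] <;> norm_num
  obtain ⟨m1, -, -, hcls1⟩ := mem_data w1.2
  obtain ⟨m2, -, -, hcls2⟩ := mem_data r.2
  set c : Finset GolayPt := symmDiff (cls (w1 : Vec) 1) (cls (r : Vec) 1) with hc
  have hcC : c ∈ CS := symmDiff_mem_supports (hcls1 1) (hcls2 1)
  have hmemc : ∀ k, k ∈ c ↔ (w1 : Vec) k ≠ (r : Vec) k := by
    intro k
    rw [hc, Finset.mem_symmDiff, mem_cls, mem_cls]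
    obtain ⟨h1, h2⟩ := habs k
    constructor
    · rintro (⟨e1, e2⟩ | ⟨e1, e2⟩) e
      · rw [e] at e1; exact e2 e1
      · rw [e] at e2; exact e2 e1
    · intro hne
      rcases h1 with e | e
      · exact absurd e hne
      · rw [e] at h2 ⊢
        omega
  have hca : pa ∉ c := fun h => (hmemc pa).mp h hw1a
  have hcb : pb ∉ c := fun h => (hmemc pb).mp h hw1b
  refine h1.trans ((nconjV_mono 1 c M24.one_mem hcC rfl rfl hca hcb w1).trans (nconjV_of_eq ?_))
  funext k
  show signedPerm 1 c (w1 : Vec) k = (r : Vec) k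
  rw [signedPerm_apply, one_symm]
  by_cases hk : k ∈ c
  · rw [if_pos hk]
    have hne := (hmemc k).mp hk
    rcases (habs k).1 with e | e
    · exact absurd e hne
    · rw [e]; ring
  · rw [if_neg hk]
    by_contra hne
    exact hk ((hmemc k).mpr hne)

end Cfsg.Agent.Lib.Helper26.CrossMax
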