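import Cfsg.Agent.Lib.Helper26.CrossGData
import Cfsg.Agent.Lib.Helper26.CrossN2
import Cfsg.Agent.Lib.Conway.Trans8

set_option autoImplicit false

/-!
A set of minimal vectors orthogonal to `V0` that is invariant under the monomial elements fixing `V0`,
and that contains `±R0` and one more vector, has at least 47 elements.
-/

namespace Cfsg.Agent.Lib.Helper26.CrossMax

open Cfsg Cfsg.Agent.Lib.Conway Cfsg.Agent.Lib.Helper93.Leech Cfsg.Agent.Lib.Helper93.Golay
open Cfsg.Agent.Lib.Golay.LeechBasis Cfsg.Agent.Lib.Helper26.CoTab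
open Cfsg.Agent.S1571 (Stab)
open scoped Pointwise

set_option maxRecDepth 100000 in
theorem c44_props : ∀ l ∈ c44, l.length = 24 ∧ LeechCond (vecOfList l) 0 ∧ dotL l l = 32 ∧
    (∀ i : GolayPt, vecOfList l i % 4 = 0) ∧ vecOfList l pa = 0 ∧ vecOfList l pb = 0 := by
  decide +kernel

set_option maxRecDepth 100000 in
theorem c28z_props : ∀ l ∈ c28z, l.length = 24 ∧ LeechCond (vecOfList l) 0 ∧ dotL l l = 32 ∧
    ((∀ i : GolayPt, vecOfList l i % 2 = 0) ∧ ∃ i : GolayPt, vecOfList l i % 4 = 2) ∧
    vecOfList l pa = 0 ∧ vecOfList l pb = 0 := by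
  decide +kernel

set_option maxRecDepth 100000 in
theorem c28p_props : ∀ l ∈ c28p, l.length = 24 ∧ LeechCond (vecOfList l) 0 ∧ dotL l l = 32 ∧
    ((∀ i : GolayPt, vecOfList l i % 2 = 0) ∧ ∃ i : GolayPt, vecOfList l i % 4 = 2) ∧
    vecOfList l pa = 2 ∧ vecOfList l pb = 2 := by
  decide +kernel

set_option maxRecDepth 100000 in
theorem c28m_props : ∀ l ∈ c28m, l.length = 24 ∧ LeechCond (vecOfList l) 0 ∧ dotL l l = 32 ∧
    ((∀ i : GolayPt, vecOfList l i % 2 = 0) ∧ ∃ i : GolayPt, vecOfList l i % 4 = 2) ∧
    vecOfList l pa = -2 ∧ vecOfList l pb = -2 := by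
  decide +kernel

set_option maxRecDepth 100000 in
theorem c31p_props : ∀ l ∈ c31p, l.length = 24 ∧ LeechCond (vecOfList l) 1 ∧ dotL l l = 32 ∧
    vecOfList l none % 2 = 1 ∧ vecOfList l pa = 1 ∧ vecOfList l pb = 1 := by
  decide +kernel

set_option maxRecDepth 100000 in
theorem c31m_props : ∀ l ∈ c31m, l.length = 24 ∧ LeechCond (vecOfList l) 1 ∧ dotL l l = 32 ∧
    vecOfList l none % 2 = 1 ∧ vecOfList l pa = -1 ∧ vecOfList l pb = -1 := by
  decide +kernel

set_option maxRecDepth 100000 in
theorem lists_nodup : c44.Nodup ∧ c28z.Nodup ∧ c28p.Nodup ∧ c28m.Nodup ∧ c31p.Nodup ∧ c31m.Nodup := by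
  refine ⟨?_, ?_, ?_, ?_, ?_, ?_⟩ <;>
  · apply nodup_map_decV
    · apply nodup_of_chain
      decide +kernel
    · decide +kernel

theorem lists_length : c44.length = 45 ∧ c28z.length = 45 ∧ c28p.length = 45 ∧ c28m.length = 45 ∧
    c31p.length = 45 ∧ c31m.length = 45 := by
  refine ⟨?_, ?_, ?_, ?_, ?_, ?_⟩ <;> rfl

/-- the general step: a list of 45 lattice vectors, all conjugate to `x`, none of them `±R0` -/
theorem ncard_ge_of_list (S : Set leechLattice) (hfin : S.Finite)
    (hR : R0 ∈ S) (hR' : -R0 ∈ S) (L : List (List ℤ)) (hlen : ∀ l ∈ L, l.length = 24)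
    (hnd : L.Nodup) (h45 : L.length = 45)
    (hmem : ∀ l ∈ L, ∃ h : vecOfList l ∈ leechLattice, (⟨vecOfList l, h⟩ : leechLattice) ∈ S)
    (hpa : ∀ l ∈ L, vecOfList l pa ≠ 4 ∧ vecOfList l pa ≠ -4) : 47 ≤ S.ncard := by
  set T : Set leechLattice := {y | (y : Vec) ∈ listSet L} with hT
  have hTc : T.ncard = 45 := by
    rw [hT, ncard_subtype_listSet L (fun l hl => (hmem l hl).1) hlen hnd, h45]
  have hTfin : T.Finite := Set.finite_of_ncard_ne_zero (by rw [hTc]; norm_num)
  have hTS : T ⊆ S := by
    rintro y ⟨l, hl, hy⟩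
    obtain ⟨h, hS⟩ := hmem l hl
    have : y = ⟨vecOfList l, h⟩ := Subtype.ext hy.symm
    rw [this]; exact hS
  have hRpa : (R0 : Vec) pa = 4 := by
    show r0 pa = 4
    decide +kernel
  have hRT : R0 ∉ T := by
    rintro ⟨l, hl, hy⟩
    apply (hpa l hl).1
    rw [hy]; exact hRpa
  have hRT' : -R0 ∉ T := by
    rintro ⟨l, hl, hy⟩
    apply (hpa l hl).2
    rw [hy]
    show -(R0 : Vec) pa = -4
    rw [hRpa]
  have hne : R0 ≠ -R0 := by
    intro h
    have := congrArg (fun v : leechLattice => (v : Vec) pa) h
    simp only [AddSubgroup.coe_neg, Pi.neg_apply, hRpa] at this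
    omega
  have h1 : (insert (-R0) T).ncard = 46 := by
    rw [Set.ncard_insert_of_notMem hRT' hTfin, hTc]
  have hfin1 : (insert (-R0) T).Finite := hTfin.insert _
  have hR1 : R0 ∉ insert (-R0) T := by
    rw [Set.mem_insert_iff]
    rintro (h | h)
    · exact hne h
    · exact hRT h
  have h2 : (insert R0 (insert (-R0) T)).ncard = 47 := by
    rw [Set.ncard_insert_of_notMem hR1 hfin1, h1]
  rw [← h2]
  apply Set.ncard_le_ncard _ hfin
  intro y hy
  rcases hy with rfl | rfl | hy
  · exact hR
  · exact hR'
  · exact hTS hy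

theorem ncard_ge_47 (S : Set leechLattice) (hfin : S.Finite)
    (hinv : ∀ g : Co0, Stab g → g • V0 = V0 → ∀ y ∈ S, g • y ∈ S)
    (hR : R0 ∈ S) (hR' : -R0 ∈ S) (x : leechLattice) (hx : x ∈ S)
    (hxn : sqNorm (x : Vec) = 32) (hx0 : dotInt (V0 : Vec) (x : Vec) = 0)
    (hne : x ≠ R0) (hne' : x ≠ -R0) : 47 ≤ S.ncard := by
  have hab : (x : Vec) pa = (x : Vec) pb := by
    have := dot_v0 (x : Vec)
    have e : dotInt v0 (x : Vec) = 0 := hx0
    omega
  have hconj : ∀ r : leechLattice, ConjVN x r → r ∈ S := by
    rintro r ⟨g, hg, hg0, rfl⟩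
    exact hinv g hg hg0 x hx
  obtain ⟨m, hpar, -, -⟩ := mem_data x.2
  rcases Int.emod_two_eq_zero_or_one ((x : Vec) none) with h0 | h1
  · have hev : ∀ i, (x : Vec) i % 2 = 0 := fun i => by rw [hpar i, ← hpar none]; exact h0
    by_cases h2 : ∃ i, (x : Vec) i % 4 = 2
    · -- kind (2^8, 0^16)
      obtain ⟨-, hin, hout⟩ := oct_data x hxn hev h2
      have hval : (x : Vec) pa = 0 ∨ (x : Vec) pa = 2 ∨ (x : Vec) pa = -2 := by
        by_cases hp : pa ∈ cls (x : Vec) 2
        · rcases hin pa hp with e | e
          · exact Or.inr (Or.inl e)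
          · exact Or.inr (Or.inr e)
        · exact Or.inl (hout pa hp)
      rcases hval with e | e | e
      · refine ncard_ge_of_list S hfin hR hR' c28z (fun l hl => (c28z_props l hl).1)
          lists_nodup.2.1 lists_length.2.1 (fun l hl => ?_) (fun l hl => ?_)
        · obtain ⟨h24, hc, hd, ⟨hp2, hq2⟩, ha, hb⟩ := c28z_props l hl
          refine ⟨mem_of_leechCond hc, hconj _ (nconjV_28 x _ hxn hev h2 ?_ hp2 hq2 ?_ ?_)⟩
          · show sqNorm (vecOfList l) = 32
            rw [sqNorm_vecOfList l h24, hd]
          · show (x : Vec) pa = vecOfList l pa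
            rw [e, ha]
          · show (x : Vec) pb = vecOfList l pb
            rw [← hab, e, hb]
        · rw [(c28z_props l hl).2.2.2.2.1]; constructor <;> norm_num
      · refine ncard_ge_of_list S hfin hR hR' c28p (fun l hl => (c28p_props l hl).1)
          lists_nodup.2.2.1 lists_length.2.2.1 (fun l hl => ?_) (fun l hl => ?_)
        · obtain ⟨h24, hc, hd, ⟨hp2, hq2⟩, ha, hb⟩ := c28p_props l hl
          refine ⟨mem_of_leechCond hc, hconj _ (nconjV_28 x _ hxn hev h2 ?_ hp2 hq2 ?_ ?_)⟩
          · show sqNorm (vecOfList l) = 32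
            rw [sqNorm_vecOfList l h24, hd]
          · show (x : Vec) pa = vecOfList l pa
            rw [e, ha]
          · show (x : Vec) pb = vecOfList l pb
            rw [← hab, e, hb]
        · rw [(c28p_props l hl).2.2.2.2.1]; constructor <;> norm_num
      · refine ncard_ge_of_list S hfin hR hR' c28m (fun l hl => (c28m_props l hl).1)
          lists_nodup.2.2.2.1 lists_length.2.2.2.1 (fun l hl => ?_) (fun l hl => ?_)
        · obtain ⟨h24, hc, hd, ⟨hp2, hq2⟩, ha, hb⟩ := c28m_props l hl
          refine ⟨mem_of_leechCond hc, hconj _ (nconjV_28 x _ hxn hev h2 ?_ hp2 hq2 ?_ ?_)⟩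
          · show sqNorm (vecOfList l) = 32
            rw [sqNorm_vecOfList l h24, hd]
          · show (x : Vec) pa = vecOfList l pa
            rw [e, ha]
          · show (x : Vec) pb = vecOfList l pb
            rw [← hab, e, hb]
        · rw [(c28m_props l hl).2.2.2.2.1]; constructor <;> norm_num
    · -- kind (4, 4, 0^22)
      push Not at h2
      have h4 : ∀ i, (x : Vec) i % 4 = 0 := by
        intro i
        have := hev i
        have := h2 i
        omega
      obtain ⟨i, j, hij, hi, hj, hk⟩ := shape_44 h4 hxn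
      have hz : (x : Vec) pa = 0 := by
        by_contra hnz
        have hnzb : (x : Vec) pb ≠ 0 := by rw [← hab]; exact hnz
        -- both base points carry the nonzero coordinates
        have hpa : pa = i ∨ pa = j := by
          by_contra hcon
          push Not at hcon
          exact hnz (hk pa hcon.1 hcon.2)
        have hpb : pb = i ∨ pb = j := by
          by_contra hcon
          push Not at hcon
          exact hnzb (hk pb hcon.1 hcon.2)
        have hother : ∀ k, k ≠ pa → k ≠ pb → (x : Vec) k = 0 := by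
          intro k hka hkb
          apply hk
          · rcases hpa with e | e
            · rw [← e]; exact hka
            · rcases hpb with e' | e'
              · rw [← e']; exact hkb
              · exact absurd (e.trans e'.symm) pa_ne_pb
          · rcases hpa with e | e
            · rcases hpb with e' | e'
              · exact absurd (e.trans e'.symm) pa_ne_pb
              · rw [← e']; exact hkb
            · rw [← e]; exact hka
        have hv : (x : Vec) pa = 4 ∨ (x : Vec) pa = -4 := by
          rcases hpa with e | e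
          · rw [e]; exact hi
          · rw [e]; exact hj
        rcases hv with e | e
        · apply hne
          apply Subtype.ext
          funext k
          show (x : Vec) k = r0 k
          by_cases hka : k = pa
          · rw [hka, e]; decide +kernel
          · by_cases hkb : k = pb
            · rw [hkb, ← hab, e]; decide +kernel
            · rw [hother k hka hkb]
              revert k; decide +kernel
        · apply hne'
          apply Subtype.ext
          funext k
          show (x : Vec) k = -r0 k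
          by_cases hka : k = pa
          · rw [hka, e]; decide +kernel
          · by_cases hkb : k = pb
            · rw [hkb, ← hab, e]; decide +kernel
            · rw [hother k hka hkb]
              revert k; decide +kernel
      refine ncard_ge_of_list S hfin hR hR' c44 (fun l hl => (c44_props l hl).1)
        lists_nodup.1 lists_length.1 (fun l hl => ?_) (fun l hl => ?_)
      · obtain ⟨h24, hc, hd, hp4, ha, hb⟩ := c44_props l hl
        refine ⟨mem_of_leechCond hc, hconj _ (nconjV_44 x _ hxn h4 ?_ hp4 ?_ ?_)⟩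
        · show sqNorm (vecOfList l) = 32
          rw [sqNorm_vecOfList l h24, hd]
        · show (x : Vec) pa = vecOfList l pa
          rw [hz, ha]
        · show (x : Vec) pb = vecOfList l pb
          rw [← hab, hz, hb]
      · rw [(c44_props l hl).2.2.2.2.1]; constructor <;> norm_num
  · -- kind (3, 1^23)
    obtain ⟨hall, k0, hk0, hone⟩ := odd_data x hxn h1
    have hval : (x : Vec) pa = 1 ∨ (x : Vec) pa = -1 := by
      by_cases hpa : pa = k0
      · have hpb : pb ≠ k0 := fun e => pa_ne_pb (hpa.trans e.symm)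
        have h3 := hone pb hpb
        rw [← hab, hpa] at h3
        rcases hk0 with e | e <;> rcases h3 with e' | e' <;> omega
      · exact hone pa hpa
    rcases hval with e | e
    · refine ncard_ge_of_list S hfin hR hR' c31p (fun l hl => (c31p_props l hl).1)
        lists_nodup.2.2.2.2.1 lists_length.2.2.2.2.1 (fun l hl => ?_) (fun l hl => ?_)
      · obtain ⟨h24, hc, hd, hodd, ha, hb⟩ := c31p_props l hl
        refine ⟨mem_of_leechCond hc, hconj _ (nconjV_31 x _ hxn h1 ?_ hodd ?_ ?_)⟩
        · show sqNorm (vecOfList l) = 32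
          rw [sqNorm_vecOfList l h24, hd]
        · show (x : Vec) pa = vecOfList l pa
          rw [e, ha]
        · show (x : Vec) pb = vecOfList l pb
          rw [← hab, e, hb]
      · rw [(c31p_props l hl).2.2.2.2.1]; constructor <;> norm_num
    · refine ncard_ge_of_list S hfin hR hR' c31m (fun l hl => (c31m_props l hl).1)
        lists_nodup.2.2.2.2.2 lists_length.2.2.2.2.2 (fun l hl => ?_) (fun l hl => ?_)
      · obtain ⟨h24, hc, hd, hodd, ha, hb⟩ := c31m_props l hl
        refine ⟨mem_of_leechCond hc, hconj _ (nconjV_31 x _ hxn h1 ?_ hodd ?_ ?_)⟩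
        · show sqNorm (vecOfList l) = 32
          rw [sqNorm_vecOfList l h24, hd]
        · show (x : Vec) pa = vecOfList l pa
          rw [e, ha]
        · show (x : Vec) pb = vecOfList l pb
          rw [← hab, e, hb]
      · rw [(c31m_props l hl).2.2.2.2.1]; constructor <;> norm_num

end Cfsg.Agent.Lib.Helper26.CrossMax
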