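import Cfsg.Agent.Lib.Helper26.CrossN4
import Cfsg.Agent.Lib.Helper26.CoList

set_option autoImplicit false

/-!
A subgroup of `Co0` containing the stabiliser of the standard cross either equals it or is transitive
on the minimal vectors.
-/

namespace Cfsg.Agent.Lib.Helper26.CrossMax

open Cfsg Cfsg.Agent.Lib.Conway Cfsg.Agent.Lib.Helper93.Leech Cfsg.Agent.Lib.Helper93.Golay
open Cfsg.Agent.Lib.Golay.LeechBasis Cfsg.Agent.Lib.Helper26.CoTab
open Cfsg.Agent.S1571 (Stab mono_stab)
open scoped Pointwise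

/-! ### The three kinds of minimal vectors -/

def kA (x : leechLattice) : Prop := ∀ i, (x : Vec) i % 4 = 0
def kB (x : leechLattice) : Prop := (∀ i, (x : Vec) i % 2 = 0) ∧ ∃ i, (x : Vec) i % 4 = 2
def kC (x : leechLattice) : Prop := (x : Vec) none % 2 = 1
def kEv (x : leechLattice) : Prop := ∀ i, (x : Vec) i % 2 = 0

theorem kind_cases (x : leechLattice) : kA x ∨ kB x ∨ kC x := by
  obtain ⟨m, hpar, -, -⟩ := mem_data x.2
  rcases Int.emod_two_eq_zero_or_one ((x : Vec) none) with h0 | h1
  · have hev : ∀ i, (x : Vec) i % 2 = 0 := fun i => by rw [hpar i, ← hpar none]; exact h0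
    by_cases h2 : ∃ i, (x : Vec) i % 4 = 2
    · exact Or.inr (Or.inl ⟨hev, h2⟩)
    · left
      push Not at h2
      intro i
      have := hev i
      have := h2 i
      omega
  · exact Or.inr (Or.inr h1)

theorem kEv_of_not_kC {x : leechLattice} (h : ¬ kC x) : kEv x := by
  obtain ⟨m, hpar, -, -⟩ := mem_data x.2
  intro i
  rcases Int.emod_two_eq_zero_or_one ((x : Vec) none) with h0 | h1
  · rw [hpar i, ← hpar none]; exact h0
  · exact absurd h1 h

theorem kEv_of_kA {x : leechLattice} (h : kA x) : kEv x := fun i => by have := h i; omega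

theorem kEv_of_kB {x : leechLattice} (h : kB x) : kEv x := h.1

theorem not_kC_of_kEv {x : leechLattice} (h : kEv x) : ¬ kC x := fun hc => by
  have := h none
  unfold kC at hc
  omega

theorem not_kB_of_kA {x : leechLattice} (h : kA x) : ¬ kB x := fun hb => by
  obtain ⟨i, hi⟩ := hb.2
  have := h i
  omega

/-- the monomial elements preserve the kinds -/
theorem smul_coord {g : Co0} (hg : Stab g) (x : leechLattice) :
    ∃ σ : Equiv.Perm GolayPt, ∀ i, ((g • x : leechLattice) : Vec) i = (x : Vec) (σ.symm i) ∨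
      ((g • x : leechLattice) : Vec) i = -(x : Vec) (σ.symm i) := by
  obtain ⟨σ, c, hσ, hc, rfl⟩ := exists_mono g hg
  refine ⟨σ, fun i => ?_⟩
  rw [mono_smul, signedPerm_apply]
  split
  · exact Or.inr rfl
  · exact Or.inl rfl

theorem kA_stab {g : Co0} (hg : Stab g) {x : leechLattice} (h : kA x) : kA (g • x) := by
  obtain ⟨σ, hσ⟩ := smul_coord hg x
  intro i
  have := h (σ.symm i)
  rcases hσ i with e | e <;> rw [e] <;> omega

theorem kEv_stab {g : Co0} (hg : Stab g) {x : leechLattice} (h : kEv x) : kEv (g • x) := by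
  obtain ⟨σ, hσ⟩ := smul_coord hg x
  intro i
  have := h (σ.symm i)
  rcases hσ i with e | e <;> rw [e] <;> omega

theorem kB_stab {g : Co0} (hg : Stab g) {x : leechLattice} (h : kB x) : kB (g • x) := by
  refine ⟨kEv_stab hg h.1, ?_⟩
  obtain ⟨σ, hσ⟩ := smul_coord hg x
  obtain ⟨i, hi⟩ := h.2
  refine ⟨σ i, ?_⟩
  have e0 : σ.symm (σ i) = i := by simp
  rcases hσ (σ i) with e | e <;> rw [e, e0] <;> omega

/-! ### The three representatives -/

theorem LA_kA : kA LA := by
  intro i
  show Cfsg.Spor.vecU i % 4 = 0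
  unfold Cfsg.Spor.vecU
  split <;> norm_num

theorem LA_norm : sqNorm (LA : Vec) = 32 := by
  show sqNorm Cfsg.Spor.vecU = 32
  unfold sqNorm; decide +kernel

/-- `(4, 4, 0^22)` is the difference of two minimal vectors of kind `(2^8, 0^16)` -/
def zL : List ℤ := [2, 0, 2, 0, 2, 2, 2, 0, 0, 0, 2, 2, 0, 0, 0, 0, 0, 0, 0, 0, 0, 0, 0, 2]
def zL' : List ℤ := [-2, 0, 2, 0, 2, 2, 2, 0, 0, 0, 2, 2, 0, 0, 0, 0, 0, 0, 0, 0, 0, 0, 0, -2]

set_option maxRecDepth 100000 in
theorem zL_props : ∀ l ∈ [zL, zL'], l.length = 24 ∧ LeechCond (vecOfList l) 0 ∧ dotL l l = 32 ∧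
    (∀ i : GolayPt, vecOfList l i % 2 = 0) ∧ ∃ i : GolayPt, vecOfList l i % 4 = 2 := by
  decide +kernel

def ZZ : leechLattice := ⟨vecOfList zL, mem_of_leechCond (zL_props zL (by decide)).2.1⟩
def ZZ' : leechLattice := ⟨vecOfList zL', mem_of_leechCond (zL_props zL' (by decide)).2.1⟩

theorem ZZ_kB : kB ZZ := (zL_props zL (by decide)).2.2.2
theorem ZZ'_kB : kB ZZ' := (zL_props zL' (by decide)).2.2.2

theorem ZZ_norm : sqNorm (ZZ : Vec) = 32 := by
  show sqNorm (vecOfList zL) = 32
  rw [sqNorm_vecOfList zL rfl]; exact (zL_props zL (by decide)).2.2.1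

theorem ZZ'_norm : sqNorm (ZZ' : Vec) = 32 := by
  show sqNorm (vecOfList zL') = 32
  rw [sqNorm_vecOfList zL' rfl]; exact (zL_props zL' (by decide)).2.2.1

set_option maxRecDepth 100000 in
theorem LA_eq_sub : LA = ZZ - ZZ' := by
  apply Subtype.ext
  funext i
  show Cfsg.Spor.vecU i = vecOfList zL i - vecOfList zL' i
  revert i
  decide +kernel

/-! ### Frame vectors from scalar products -/

set_option maxRecDepth 100000 in
theorem pair_cond : ∀ a b : GolayPt, a ≠ b →
    LeechCond (fun k => (if k = a then 4 else 0) + (if k = b then 4 else 0)) 0 ∧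
    LeechCond (fun k => (if k = a then 4 else 0) - (if k = b then 4 else 0)) 0 := by
  decide +kernel

theorem dot_pair (y : Vec) (a b : GolayPt) (s : ℤ) :
    dotInt y (fun k => (if k = a then 4 else 0) + s * (if k = b then 4 else 0)) =
      4 * y a + 4 * s * y b := by
  unfold dotInt
  have hpt : ∀ k, y k * ((if k = a then (4 : ℤ) else 0) + s * (if k = b then 4 else 0)) =
      (if k = a then 4 * y k else 0) + (if k = b then 4 * s * y k else 0) := by
    intro k
    split_ifs <;> ring
  simp_rw [hpt]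
  rw [Finset.sum_add_distrib, Finset.sum_ite_eq', Finset.sum_ite_eq']
  simp

theorem sqNorm_pair (a b : GolayPt) (hab : a ≠ b) (s : ℤ) (hs : s = 1 ∨ s = -1) :
    sqNorm (fun k => (if k = a then (4 : ℤ) else 0) + s * (if k = b then 4 else 0)) = 32 := by
  unfold sqNorm
  have hpt : ∀ k, ((if k = a then (4 : ℤ) else 0) + s * (if k = b then 4 else 0)) ^ 2 =
      (if k = a then 16 else 0) + (if k = b then 16 else 0) := by
    intro k
    by_cases h1 : k = a
    · have h2 : k ≠ b := fun e => hab (h1.symm.trans e)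
      rw [if_pos h1, if_neg h2, if_pos h1, if_neg h2]; norm_num
    · by_cases h2 : k = b
      · rw [if_neg h1, if_pos h2, if_neg h1, if_pos h2]
        rcases hs with rfl | rfl <;> norm_num
      · rw [if_neg h1, if_neg h2, if_neg h1, if_neg h2]; norm_num
  simp_rw [hpt]
  rw [Finset.sum_add_distrib, Finset.sum_ite_eq', Finset.sum_ite_eq']
  simp

/-- the vectors `4 e_a ± 4 e_b` -/
def pairVec (a b : GolayPt) (hab : a ≠ b) (s : ℤ) (hs : s = 1 ∨ s = -1) : leechLattice :=
  ⟨fun k => (if k = a then (4 : ℤ) else 0) + s * (if k = b then 4 else 0), by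
    rcases hs with rfl | rfl
    · have := mem_of_leechCond (pair_cond a b hab).1
      convert this using 2
      ring
    · have := mem_of_leechCond (pair_cond a b hab).2
      convert this using 2
      ring⟩

theorem pairVec_kA (a b : GolayPt) (hab : a ≠ b) (s : ℤ) (hs : s = 1 ∨ s = -1) :
    kA (pairVec a b hab s hs) := by
  intro i
  show ((if i = a then (4 : ℤ) else 0) + s * (if i = b then 4 else 0)) % 4 = 0
  rcases hs with rfl | rfl <;> split_ifs <;> norm_num

/-- a vector of norm 64 all of whose coordinates are divisible by 8 is a frame vector -/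
theorem mem_stdCross_of_dvd8 (y : leechLattice) (hn : sqNorm (y : Vec) = 64)
    (h8 : ∀ a, (8 : ℤ) ∣ (y : Vec) a) : (y : Vec) ∈ stdCross := by
  have hne0 : ∃ a, (y : Vec) a ≠ 0 := by
    by_contra hcon
    push Not at hcon
    have : sqNorm (y : Vec) = 0 := by
      unfold sqNorm
      simp [hcon]
    omega
  obtain ⟨a, ha⟩ := hne0
  have hsq : 64 ≤ (y : Vec) a ^ 2 := by
    have h1 := h8 a
    have h' : (y : Vec) a ≤ -8 ∨ 8 ≤ (y : Vec) a := by omega
    rcases h' with h' | h' <;> nlinarith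
  have hsum : (y : Vec) a ^ 2 + ∑ i ∈ Finset.univ.erase a, (y : Vec) i ^ 2 = 64 := by
    have e := Finset.add_sum_erase Finset.univ (fun i => (y : Vec) i ^ 2) (Finset.mem_univ a)
    rw [e]
    exact hn
  have hrest : ∑ i ∈ Finset.univ.erase a, (y : Vec) i ^ 2 = 0 := by
    have : 0 ≤ ∑ i ∈ Finset.univ.erase a, (y : Vec) i ^ 2 :=
      Finset.sum_nonneg fun i _ => sq_nonneg _
    omega
  have hzero : ∀ i, i ≠ a → (y : Vec) i = 0 := by
    intro i hi
    have := (Finset.sum_eq_zero_iff_of_nonneg (fun i _ => sq_nonneg ((y : Vec) i))).mp hrest i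
      (Finset.mem_erase.mpr ⟨hi, Finset.mem_univ i⟩)
    exact pow_eq_zero_iff (two_ne_zero) |>.mp this
  have hval : (y : Vec) a ^ 2 = 64 := by omega
  have hval' : (y : Vec) a = 8 ∨ (y : Vec) a = -8 := by
    have h1 : ((y : Vec) a - 8) * ((y : Vec) a + 8) = 0 := by ring_nf; omega
    rcases mul_eq_zero.mp h1 with e | e
    · left; omega
    · right; omega
  refine ⟨a, (y : Vec) a, hval', ?_⟩
  funext i
  by_cases hi : i = a
  · rw [hi]; simp
  · rw [hzero i hi]; simp [hi]


/-- a vector of norm 64 whose scalar products with the vectors `4 e_a ± 4 e_b` are all divisible by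
32 is a frame vector -/
theorem mem_stdCross_of_A_dots (y : leechLattice) (hn : sqNorm (y : Vec) = 64)
    (h : ∀ z : leechLattice, sqNorm (z : Vec) = 32 → kA z → (32 : ℤ) ∣ dotInt (y : Vec) (z : Vec)) :
    (y : Vec) ∈ stdCross := by
  have hab : ∀ a b : GolayPt, a ≠ b → (8 : ℤ) ∣ (y : Vec) a + (y : Vec) b ∧
      (8 : ℤ) ∣ (y : Vec) a - (y : Vec) b := by
    intro a b hne
    have h1 := h (pairVec a b hne 1 (Or.inl rfl)) (sqNorm_pair a b hne 1 (Or.inl rfl))
      (pairVec_kA a b hne 1 (Or.inl rfl))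
    have h2 := h (pairVec a b hne (-1) (Or.inr rfl)) (sqNorm_pair a b hne (-1) (Or.inr rfl))
      (pairVec_kA a b hne (-1) (Or.inr rfl))
    have e1 : dotInt (y : Vec) ((pairVec a b hne 1 (Or.inl rfl) : leechLattice) : Vec) =
        4 * (y : Vec) a + 4 * 1 * (y : Vec) b := dot_pair (y : Vec) a b 1
    have e2 : dotInt (y : Vec) ((pairVec a b hne (-1) (Or.inr rfl) : leechLattice) : Vec) =
        4 * (y : Vec) a + 4 * (-1) * (y : Vec) b := dot_pair (y : Vec) a b (-1)
    rw [e1] at h1
    rw [e2] at h2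
    constructor <;> omega
  -- all coordinates are divisible by 8
  have h8 : ∀ a, (8 : ℤ) ∣ (y : Vec) a := by
    -- first: all coordinates are congruent modulo 8 and divisible by 4
    have h4 : ∀ a, (4 : ℤ) ∣ (y : Vec) a := by
      intro a
      obtain ⟨b, hb⟩ : ∃ b : GolayPt, a ≠ b := by
        by_cases ha : a = none
        · exact ⟨some 0, by rw [ha]; decide⟩
        · exact ⟨none, ha⟩
      have := hab a b hb
      omega
    by_contra hcon
    push Not at hcon
    obtain ⟨a0, ha0⟩ := hcon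
    have hall : ∀ a, ¬ (8 : ℤ) ∣ (y : Vec) a := by
      intro a
      by_cases e : a0 = a
      · rw [← e]; exact ha0
      · have := hab a0 a e
        omega
    have hbig : ∀ a, 16 ≤ (y : Vec) a ^ 2 := by
      intro a
      have h1 := h4 a
      have h2 := hall a
      have h' : (y : Vec) a ≤ -4 ∨ 4 ≤ (y : Vec) a := by omega
      rcases h' with h' | h' <;> nlinarith
    have : (24 : ℤ) * 16 ≤ sqNorm (y : Vec) := by
      unfold sqNorm
      calc (24 : ℤ) * 16 = ∑ _i : GolayPt, (16 : ℤ) := by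
            rw [Finset.sum_const, Finset.card_univ]
            have : Fintype.card GolayPt = 24 := by decide
            rw [this]; norm_num
        _ ≤ ∑ i, (y : Vec) i ^ 2 := Finset.sum_le_sum fun i _ => hbig i
    omega
  exact mem_stdCross_of_dvd8 y hn h8

end Cfsg.Agent.Lib.Helper26.CrossMax
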