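import Cfsg.Agent.Lib.Helper26.Orbits

set_option autoImplicit false
set_option maxRecDepth 1000000

namespace Cfsg.Agent.Lib.Helper26

open Cfsg

def dodStabG0 : PermData := ⟨[18, 13, 15, 2, 9, 17, 10, 11, 23, 8, 1, 4, 16, 5, 21, 12, 20, 6, 14, 22, 3, 19, 0, 7], [22, 10, 3, 20, 11, 13, 17, 23, 9, 4, 6, 7, 15, 1, 18, 2, 12, 5, 0, 21, 16, 14, 19, 8]⟩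
def dodStabG1 : PermData := ⟨[3, 13, 20, 14, 4, 17, 5, 10, 9, 11, 23, 6, 2, 7, 19, 12, 16, 1, 15, 18, 21, 22, 0, 8], [22, 17, 12, 0, 4, 6, 11, 13, 23, 8, 7, 9, 15, 1, 3, 18, 16, 5, 19, 14, 2, 20, 21, 10]⟩
def dodStabG2 : PermData := ⟨[22, 10, 3, 20, 11, 13, 17, 23, 9, 4, 6, 7, 15, 1, 18, 2, 12, 5, 0, 21, 16, 14, 19, 8], [18, 13, 15, 2, 9, 17, 10, 11, 23, 8, 1, 4, 16, 5, 21, 12, 20, 6, 14, 22, 3, 19, 0, 7]⟩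
def dodStabG3 : PermData := ⟨[22, 17, 12, 0, 4, 6, 11, 13, 23, 8, 7, 9, 15, 1, 3, 18, 16, 5, 19, 14, 2, 20, 21, 10], [3, 13, 20, 14, 4, 17, 5, 10, 9, 11, 23, 6, 2, 7, 19, 12, 16, 1, 15, 18, 21, 22, 0, 8]⟩

/-- generators (with inverses) of the stabiliser of the standard set. -/
def dodStabGens : List PermData := [dodStabG0, dodStabG1, dodStabG2, dodStabG3]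

/-- orbit representatives indexed by the size of the intersection with the standard set. -/
def dodStabReps : List ℕ := [8531954, 0, 0, 0, 9875698, 0, 10743859, 0, 15953934, 0, 0, 0, 8245261, 0, 0, 0, 0, 0, 0, 0, 0, 0, 0, 0, 0]

/-- words mapping the representative to each set. -/
def dodStabWords : List (List ℕ) := [[], [], [1, 1, 0, 0, 1], [1, 0, 3, 3, 2], [2, 3, 0, 0], [1, 0, 3, 3, 3], [3, 2, 2, 1, 0], [2, 3, 2, 3, 0], [3, 2, 3, 3, 3], [2, 3, 3], [], [1, 0, 0, 3, 3], [2, 3, 3, 0, 3], [0, 3, 3, 2], [1, 2, 3, 0, 1], [2, 3, 0, 0, 1, 0, 0], [1, 1, 0, 0, 1, 1, 1, 0], [1, 0, 0, 0], [1, 0, 0, 1, 0, 0], [1, 0, 0], [0, 3], [2, 2, 3, 0, 3], [0, 3, 0, 3], [2, 1, 1], [2, 2,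 1, 0, 0, 0, 1, 1], [3, 2, 3, 0, 1, 0], [3, 2, 1, 2], [0, 1, 0, 0, 0, 1, 1], [1, 0, 0, 3, 2], [0, 0, 0], [2, 1, 0], [3, 3, 2, 3, 0], [2, 2, 3, 2, 1, 0], [1, 0, 1, 0], [0, 1, 1, 2, 3], [1, 1, 0, 0, 0, 1], [1, 0, 3, 3], [0, 0, 1, 0, 1, 0], [2, 2, 3, 3, 3, 2, 2], [0, 1, 1, 0, 0], [3, 2, 3, 3, 0, 3], [2, 3, 2, 2, 3, 3, 3], [2, 3, 3, 2, 2, 1, 0], [3, 0, 0, 1], [0, 3, 3, 2], [3, 0, 3, 3, 2], [3, 2, 3, 0, 1, 1], [0, 0, 0, 1, 1, 0], [2, 2, 3, 2, 1, 1], [3, 0, 3, 0, 1], [2, 2, 3, 0, 0, 0], [2, 3, 3, 3], [1, 0, 3, 0], [3, 0, 0, 3, 2, 1], [1, 1, 0, 0, 0], [2, 3, 0, 3, 3], [3, 0, 3, 2, 1, 0], [2, 3, 0, 3, 2], [3, 2, 3, 0], [1, 2, 3], [1, 0, 3], [2, 1, 2, 2, 1, 0, 0], [0, 1, 2, 3,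 2, 1, 0], [3, 3, 2, 1], [3, 2, 1, 0, 1, 0], [3, 2, 1, 0, 3, 3], [0, 1, 2, 1], [3, 0, 0, 0, 1, 0, 0], [1, 1, 0, 1, 2, 2], [2, 1, 2, 2, 3, 2], [2, 1, 0, 1, 1], [1, 0, 3, 0, 3], [2, 3, 0, 1, 0], [0, 0, 0, 1, 0, 3, 0, 0], [0, 0, 0, 1, 0, 0, 1], [0, 0, 1], [1, 2, 2, 1, 1, 2, 3], [3, 3, 0, 0, 3, 2, 1], [1, 0, 0, 1, 1, 0], [0, 1, 1, 0], [1, 2, 1, 0, 0, 0], [1, 0, 1, 0, 3], [0, 3, 2, 2, 1, 0], [0, 1, 1, 0, 1, 0, 0], [3, 2], [0, 0, 1, 2, 1, 1, 1], [0, 1, 2, 1, 2, 3, 3], [0, 3, 3, 0, 1, 1], [1, 0, 3, 2, 3], [3, 3, 2, 3, 0, 0], [1, 1, 2, 3, 3, 2, 3], [2, 3, 3, 2, 1, 1, 0], [0, 3, 2, 2, 1, 0], [2, 1, 0, 1, 0, 0, 1], [1, 0, 3, 2, 1, 0], [3, 2, 3, 3, 0], [3, 2, 3, 3, 2, 2], [3, 0,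 3, 0], [3, 0, 3, 2, 3, 3], [3, 3], [2, 1, 2, 3, 3, 2], [0, 0, 3, 0, 1, 0, 0, 0], [3, 2, 1, 0, 0], [2, 2, 3], [2, 3, 2, 3, 2, 1, 0], [0], [1, 2, 3], [3, 0, 1, 0, 1, 0], [2, 3, 0, 0, 1, 0, 0], [], [2, 1, 1, 1, 2, 1], [1, 1, 0, 3, 0, 0, 0], [3, 0, 0, 1], [0, 0, 1, 1, 2, 1], [0, 3, 0, 1, 0, 0, 1], [0, 1, 1, 1, 0, 1], [3, 2, 1, 0, 0], [3, 0, 3, 3, 3], [1, 0, 3, 0, 1, 1, 0], [1, 0, 1, 0], [3, 2, 1, 2, 1], [2, 2, 1, 0], [1, 1, 1, 0], [0, 1, 2, 1, 1, 1], [1, 0, 0, 1, 1, 1, 0, 0], [2, 3, 0, 3, 0, 0], [0, 1, 1, 1, 2, 1], [1, 1, 2, 3, 3, 0], [2, 2, 3, 2, 1], [1, 0, 3, 3, 0, 0], [2, 2, 1, 2, 1, 0], [1, 2, 1, 1, 1, 0, 0], [1, 1, 0, 3, 3], [1, 0, 3, 0, 0, 3, 0], [2, 1, 2, 3], [2,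 1, 0, 0, 1, 0, 0], [2, 3, 2], [1, 1, 0, 0], [1, 0, 3, 3, 3, 3, 2], [3, 2, 1, 0, 3, 2, 1], [2, 2, 1, 0, 1], [1, 0, 3, 3, 2], [2, 3, 0, 1, 1], [0, 3, 0, 1, 0, 3, 0], [3, 0, 1, 2, 3, 0, 1], [1, 0, 0, 0], [0, 0, 1, 1], [1, 2, 1, 1], [2, 1, 2], [2, 1, 2], [0, 1, 0, 1, 2], [2, 3, 2, 3, 0, 0, 3], [0, 3, 3, 3, 0], [2, 2, 1, 0], [0, 1, 1, 2, 1, 0], [0, 0, 0, 3, 0], [0, 1, 2, 3, 2], [1, 0, 0, 1, 2], [1, 1, 0, 0, 3, 2, 2], [1, 1, 2, 3, 0, 1], [0, 3, 3, 0], [0, 3, 3, 3, 0], [1, 0, 0, 3, 2], [3, 2, 3, 3, 3, 0], [3, 0, 1, 1, 0, 0, 1, 1], [2, 2, 1, 1, 2], [0, 3, 0, 1, 0], [1, 0, 0, 1, 2], [3, 0, 3, 2, 3, 0, 0], [3, 3, 0, 3, 2, 3, 2], [3, 2, 2, 3, 2, 3, 2], [1, 0, 3, 2, 1], [3, 3, 3,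 3, 2, 1, 0], [3, 0, 1, 0, 0, 0], [3, 2, 1, 2, 1], [1, 0, 0, 3, 3, 2, 2], [3, 3, 3, 3, 0], [3, 0, 0, 3, 0], [2, 1, 0, 1, 1, 0], [2, 1, 1, 1, 0, 1, 1], [3, 2, 2, 1, 1, 1, 1], [2, 2, 1, 2, 3, 3], [1, 0, 1, 0, 1], [0, 0, 1, 0, 1, 0], [0, 0, 3, 0, 3, 0], [1, 0, 3, 3, 2], [0, 3, 3, 2, 3], [2, 1, 0, 1, 1, 1, 2], [2, 1, 0, 1, 2], [1, 2, 1, 1], [2, 1, 1, 1, 2], [2, 3, 2, 3, 2, 2, 1], [2, 1, 2, 1, 1, 0, 0], [3, 2, 1, 1, 1, 0], [1, 0, 0, 0, 3], [1], [0, 1, 1, 1, 2, 2], [2, 1, 2, 2], [1, 2, 3, 2, 3, 0], [1, 2, 3, 3], [3, 3, 0, 1, 1, 2], [3, 0, 0, 0, 3, 0, 0], [0, 3, 2, 3, 2, 3, 2], [0, 3, 3, 3, 0, 0], [0, 1, 2, 2, 1, 2, 3, 0], [1, 0, 3, 0], [2, 3, 0, 0], [3, 0, 0, 3, 2, 2, 3, 0],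 [1, 2, 3, 0, 0], [1, 1, 0, 0, 1, 0, 1], [1], [2, 3, 2, 2, 1, 1], [2, 2, 3, 3], [3, 2, 3, 0], [2, 3, 2, 1, 1, 0], [3, 3, 3, 0, 3, 2], [2, 2, 3, 2, 2, 3, 0], [1, 2, 2, 3, 0, 3], [0, 3, 3, 3, 0, 1], [2, 1, 1, 1, 0, 1], [1, 2, 1, 0], [3, 0, 3, 3, 0, 0, 0], [1, 0, 1, 1, 2, 3], [1, 1, 1, 0], [1, 2, 2, 1, 1, 0, 0], [3, 3, 3, 2, 2, 1], [0, 1, 2, 2, 1, 0, 3], [1, 1, 0, 0, 3, 2], [1, 2, 1, 1, 0, 1], [3, 2, 1, 2, 1, 1, 1, 1], [2, 1, 2, 2, 1, 2], [3, 0, 1, 0, 3, 3], [0, 1, 2, 2, 1, 2, 2], [1, 0, 1, 1, 0, 0], [3, 3, 3, 2, 1, 1, 1], [2, 1, 1, 1], [3, 2, 1, 1, 0, 0], [2, 1, 2, 2], [1, 0, 1], [1, 2, 1, 0, 1, 0], [1, 1, 1, 1, 0, 1], [0, 1, 2, 1, 0, 0], [3, 2, 2, 3, 0, 0, 1], [1, 1, 1,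 1, 0, 1], [1, 2, 2, 3, 3, 2, 3], [1, 0, 1, 1, 2], [0, 3, 3, 3, 0], [3, 2, 2, 1, 2, 1, 1], [1, 0, 3, 2, 2, 1, 1, 0], [2, 1, 2, 1, 1, 0, 0, 1], [1, 0, 3, 2, 1, 1, 2], [3, 0, 3, 3, 0, 0, 1], [0, 3, 3, 2, 2, 3, 2], [1, 1, 0, 0, 1, 0, 1], [1, 0, 1, 1, 2], [3, 0, 0, 1, 2, 1, 0, 1], [0, 1, 2], [0, 3, 0, 1, 2, 2, 1], [1, 0, 0, 1, 0, 1, 2], [0, 3, 3, 2, 2], [2, 3, 2, 1, 2, 3, 0], [1, 0, 3, 2, 3, 0], [0, 1, 2, 1, 1, 0], [1, 0, 1, 2, 3, 3], [2, 2, 3, 0, 3, 0], [1, 2, 3, 0, 3, 0], [3, 0, 0, 0, 1, 0], [2, 1, 2, 2, 1, 0, 0], [3, 2, 3, 3, 0], [3, 3, 0, 0, 1, 2], [1, 0, 1, 0, 1], [0, 1, 2, 2, 3, 0, 0, 1], [1, 2, 3, 0, 0, 1, 2], [3, 0, 3, 3, 3], [2, 2, 3, 0, 0, 1, 0], [1, 0, 3, 2, 2],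 [2, 1, 2, 2], [0, 3, 3, 2, 2], [3, 0, 0, 3, 2, 2], [1, 0, 3, 0, 3], [1, 1, 1, 2, 3], [1, 2], [1, 2, 1, 0, 0], [3, 3, 0, 1, 0, 0], [1, 2, 3, 0, 1, 1], [2, 1, 1, 2, 1], [0, 0, 0, 3, 2], [2, 3, 0, 3, 0, 0, 1], [2, 2, 1, 1, 0, 3, 2], [1, 2, 1, 2], [1, 1, 1, 0, 3, 0], [2, 1, 1, 1, 1, 0], [2, 1, 0, 1], [1, 2, 1, 1, 0], [3, 3, 2, 2], [0, 0, 3, 2, 1, 0], [0, 1, 0, 0, 0], [2, 1, 2, 1, 0], [0, 0, 3, 0], [1, 1, 1, 2, 2], [3, 2, 3, 3, 3], [3, 3, 0, 0, 1, 0, 1], [2, 3, 3, 3, 0], [3, 3, 0, 0, 0, 1, 2], [0, 0, 3, 2, 3], [1, 1, 2, 3, 2, 1, 1], [1, 2, 2, 1], [2, 2, 1, 1, 1, 1], [0, 1, 1, 2, 1, 0, 0], [1, 0, 0, 1, 0, 1, 0], [2, 2, 3, 2, 2, 1, 0], [1, 0, 3, 0, 0], [1, 2, 1, 1, 0, 0, 1],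 [1, 0, 1, 1], [0, 0, 3, 3, 3], [3, 0, 1, 1], [0, 1, 0, 0, 1], [1, 1, 0, 0, 0, 1, 1], [3, 2, 3, 3, 0, 0, 1, 0], [0, 3, 0, 0, 0], [2, 1, 2, 1, 2, 2], [3, 0, 1, 2, 3, 0], [0, 1, 1, 2, 2, 1], [2, 1, 2, 1, 1, 1], [3, 3, 2, 3, 0, 1], [0, 1, 2, 3, 2, 1], [3, 3, 2, 3, 0, 1], [0, 3, 2, 1, 1], [3, 3, 0, 3], [1, 0, 0], [2, 3, 2, 1], [1, 0, 0, 0, 1, 1, 0, 0], [3, 3, 0, 3], [3, 0, 0, 0, 3, 0, 1], [2, 2, 1, 0, 3, 0, 0, 1], [2, 2, 1, 0, 0], [1, 2, 3, 2, 2, 1, 0, 1], [3, 0, 1, 0, 3], [1, 2, 1, 0, 0, 1], [3, 3, 0, 0, 0], [1, 0, 0], [3, 0, 1, 0, 3], [1, 2, 2, 1, 1, 2, 1], [0, 3, 3, 2, 3, 0, 1, 0], [3, 2, 3, 0, 1, 2, 2], [3, 2, 2, 3, 2, 1], [3, 0, 3, 2, 2, 1, 1], [3, 0, 1, 2, 2], [0, 0,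 3, 2, 3], [2, 1, 1, 1, 1, 1, 2], [2, 3, 2, 1], [1, 0, 0, 3, 0, 0, 1], [1, 1, 1, 2, 3], [1, 1, 1, 0, 0], [3, 0, 3, 3, 3, 2], [2, 3, 3, 0, 0], [1, 0, 3, 0, 1], [1, 2, 3, 2, 2, 1, 0], [0, 0, 3, 3, 0, 0], [1, 2, 2, 1, 0], [1, 2, 3, 3, 2, 2], [0, 3, 0, 3, 3, 0], [0, 0, 0, 1, 2, 1, 0, 0], [1, 0, 3, 3, 3, 3], [0, 1, 2, 3, 0, 1], [1, 1, 2, 1, 0, 1, 1], [1, 1, 2, 1, 1], [3, 2, 2, 1, 1, 0, 0, 0], [0, 0, 0, 3, 2], [0, 3, 0, 3, 0, 1, 0], [3, 0, 3, 2, 3], [1, 2, 1, 0, 0], [2, 1, 0, 1], [1, 0, 0, 0, 3, 0], [0, 3, 2, 3, 0, 0], [0, 1, 1, 1, 1, 0, 1, 0], [3, 0, 3, 0, 0], [1, 1, 0, 3, 2, 1], [0, 0, 3, 0, 1], [3, 0, 1, 0, 1, 2, 3], [0, 1, 1, 0, 0, 1], [0, 1, 0, 0, 0], [0, 1, 1, 0, 3, 0,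 0], [3, 3, 2, 1, 1, 2], [3, 0, 3, 0, 0], [1, 0, 0, 3, 0, 3, 0], [3, 0, 3, 2, 3], [2, 3, 3, 2, 3], [0, 0, 3, 2, 1, 1, 2], [0, 1, 1, 0, 0, 1], [0, 1, 0, 0, 1, 0, 1], [1, 2, 1, 2, 2, 1, 1], [3, 2, 3, 3, 2, 3, 0, 1], [1, 0, 3, 3, 0], [1, 1, 1, 0, 0], [2, 3, 3, 0, 1, 1], [1, 2], [0, 1, 0, 1, 2, 1], [2, 3, 2, 1, 2, 3, 3], [3, 2], [3, 3, 3, 2], [3, 0, 0, 1, 0, 0], [3, 3, 3, 0, 1, 1], [0, 0, 0, 1, 1, 1, 0, 0], [2, 1, 0, 1, 2, 3, 2], [2, 3, 3, 0, 0], [0, 1, 1, 2, 2, 1], [1, 0, 0, 3, 0, 3, 0, 1], [1, 2, 1, 0, 0], [3, 2, 3, 0, 1, 0], [1, 2, 1, 2, 2, 1], [1, 1, 1, 0, 3, 2, 3], [0, 0, 0, 1, 2], [3, 0, 3, 0, 1, 2], [1, 0, 3, 2, 3], [1, 2, 2, 3, 2, 1], [0], [1, 2, 3, 2, 3, 0, 0], [2,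 3, 3, 3, 3, 2], [1, 0, 0, 0, 3, 0], [0, 0, 0, 1, 1], [3, 0, 0], [2, 3, 3, 2], [2, 3, 3, 2], [1, 2, 2, 1, 1, 1, 0, 0], [3, 3, 2, 3, 2, 1, 0], [0, 1, 2, 1, 1, 1, 0, 0], [3, 3, 3, 2, 2, 3, 3], [3, 3, 3, 2], [0, 0, 3, 0], [2, 3, 3, 3, 0, 0, 3, 0], [3, 0, 3, 2, 1, 0], [3, 3, 0, 0, 0], [0, 0, 3, 2, 2, 1, 1, 0], [3, 3, 0, 0, 0], [1, 0, 0, 0, 1, 2, 1], [0, 0, 3, 0], [2, 2, 1, 0, 1, 0, 1], [1, 1, 0, 0, 3, 0, 0], [0, 1, 1, 0, 0, 1], [2, 1, 0, 1, 2, 3, 3], [3, 3, 0, 3, 2], [2, 2, 1, 1, 1], [1, 0, 1, 2, 1, 1, 1], [1, 1, 2, 3, 2, 3], [2, 3, 3, 3, 3, 0], [2, 2, 1, 2, 2], [1, 2, 3, 2], [0, 0, 0, 3, 2, 2, 1], [1, 2, 1, 2], [2, 3, 3, 3, 3, 0], [1, 1, 0, 1, 2, 1], [1, 0, 3, 3, 0, 0],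 [2, 1, 1, 1, 1, 1], [1, 2, 3, 2], [3, 0, 0, 1, 1, 1], [2, 3, 3, 0, 0, 0, 1], [2, 1, 0, 3, 2, 1], [3, 3, 3, 0], [3, 2, 3, 3, 3, 0, 1, 0], [3, 3, 3, 2, 1, 0], [3, 0, 1, 2, 2, 1], [3, 3, 3, 2, 3], [3, 2, 1, 2, 1, 1], [2, 3, 0, 0, 0, 1, 0], [2, 2, 3, 2], [1, 2, 2, 3, 2, 1, 0], [1, 1, 1, 1, 1], [1, 1, 0, 0, 3, 3, 2, 2], [0, 1, 1, 0, 3, 0], [1, 1, 0, 1, 0, 1], [0, 1, 1, 2, 3, 2], [3, 0, 0, 1, 1, 1], [1, 0, 3, 3, 2, 3], [0, 0, 0, 1, 1, 1], [1, 0, 3, 3, 3, 0], [0, 0, 1, 1, 2, 1, 2], [0, 1, 1, 0, 0, 1, 1], [0, 1, 1, 0, 3, 0], [3, 3, 3, 0, 3, 2, 2], [2, 2, 1, 1, 2, 2], [2, 1, 1, 2, 3, 2, 1, 0], [3, 3, 0, 3, 3], [2, 1, 1, 2, 3, 0], [2, 1, 1, 1, 1], [3, 3, 0, 0, 0, 1], [1, 1, 1,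 0, 1, 2], [2, 3, 2, 2, 1, 1, 1], [0, 0, 0, 3, 3, 0, 3, 0], [3, 3, 0, 1, 2, 3], [3, 3, 0, 1, 2, 3], [3, 0, 1, 1], [0, 3, 0, 3, 0, 0, 0], [3, 3, 3, 2, 2, 3, 0], [2, 1, 0, 3, 0, 1, 1], [0, 3, 0, 1, 0], [2, 1, 2, 1, 0, 3], [3, 0, 0, 0, 1, 1, 2, 2], [2, 2, 3, 2, 1, 1, 1, 0], [3, 3, 0, 3, 3], [3, 3, 3, 3, 0, 3, 0], [1, 1, 1, 2, 2, 1], [0, 0, 0, 3, 2, 2, 1], [0, 3, 3, 3, 0, 0, 1], [1, 1, 2, 3, 2, 1], [2, 3, 3, 3, 0, 1], [0, 1, 1, 0, 1, 0, 1], [2, 2, 1, 2, 3], [2, 2, 1, 0], [1, 0, 3, 2, 1], [1, 0, 1, 2, 2, 3, 3], [3, 2, 2, 1, 0, 1, 2], [1, 2, 2, 3, 2, 3], [2, 1, 2, 1, 0], [3, 3, 3, 0, 1, 1, 0], [2, 1, 1, 2, 2], [3, 3, 0, 1, 0], [2, 1, 1, 0, 1, 2, 3], [1, 2, 1, 1], [3, 2, 1,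 2, 1, 1], [2, 3, 3, 3, 3, 0, 0], [0, 0, 0, 1, 2, 3, 0], [0, 0, 0, 1, 1, 1], [3, 3, 0, 1, 0], [3, 3, 0, 3, 0, 0, 0], [3, 3, 0, 1, 0], [3, 0, 0, 1, 1, 1], [3, 2, 3, 3, 0, 1, 0], [3, 2, 1, 1, 0, 0, 1], [0, 1, 1, 1, 1, 1], [0, 1, 2, 2, 1], [3, 0, 1, 0, 3, 2, 3], [2, 2, 3, 2, 2, 1], [2, 3, 3, 2, 1], [1, 1, 2, 3, 2, 1, 0], [1, 1, 1, 1, 0], [1, 2, 1, 2, 3], [2, 1, 2, 1], [1, 2, 2, 3, 3, 2], [0, 3, 0, 0, 1, 2, 2, 1], [1, 2, 2, 1, 0, 1], [3, 3, 2, 1, 2, 3, 0, 0], [1, 0, 0, 1, 1], [2, 1, 0, 0, 0, 3, 3], [1, 0, 3, 0, 1], [1, 1, 0, 0, 0], [1, 2, 3, 3, 3, 2], [3, 2, 1, 0, 3, 3, 3, 0], [1, 2, 3, 0, 3, 0, 0], [0, 3, 2, 1, 2, 2, 1], [0, 0, 1, 1, 2, 3, 2], [1, 1, 1, 0], [1, 2, 2, 1,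 0], [3, 0, 0, 1, 2, 1], [2, 2, 3, 2, 3, 2], [0, 0, 0, 3, 2, 1, 1], [3, 0, 3, 2, 3, 2], [0, 0, 3, 3, 3, 3], [2, 1, 2, 1], [3, 3, 0, 3, 2, 1], [3, 2, 1, 0, 0, 1, 2], [2, 1, 1, 2, 2, 1, 1], [3, 3, 2, 1, 1], [2, 3, 3, 0, 1], [1, 1, 1, 2, 3, 0, 1], [2, 3, 3, 0, 1], [2, 2, 1, 1, 1, 1], [1, 0, 3, 0, 1], [1, 1, 2, 1, 1], [1, 2, 2, 3, 2, 2], [2, 2, 3, 2, 1, 2], [3, 2, 3, 3, 3, 3], [1, 2, 3, 2], [1, 1, 0, 0, 3, 2], [2, 1, 2, 1, 1, 2], [3, 3, 2, 3, 0, 3, 0], [1, 2, 3, 2, 1, 0, 0], [2, 3, 3, 3, 3, 3, 0], [1, 0, 0, 1, 0, 0, 1], [0, 1, 0, 0, 1], [1, 2, 2, 1, 0, 1, 1], [1, 1, 2, 1], [1, 2], [1, 2, 3, 0, 0, 1], [2, 2, 1, 1, 1, 0, 1, 0], [0, 1, 2, 3, 2], [1, 0, 1, 2, 2, 1, 0], [3, 2,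 2, 1, 2], [3, 2, 1, 2, 1, 2], [0, 0, 3, 0, 3, 3], [1, 0, 1, 1, 2], [1, 1, 1, 0, 0, 1], [2, 2, 1, 0, 3, 0], [1, 0, 3, 0], [3, 3, 0, 1, 0, 1], [3, 2, 1, 2, 1, 2], [3, 2, 1, 2, 3, 2], [1, 1, 1, 0, 3, 0, 0], [3, 3, 3, 3, 0], [3, 0, 1, 0, 1, 0], [1, 2, 1, 0, 1, 0], [1, 2, 2, 3, 2, 3], [2, 1, 1, 0, 3, 2], [1, 1, 2, 1], [3, 0, 3, 0, 0, 1], [3, 0, 1, 0, 1, 0], [2, 2, 3, 2, 3, 2], [0, 1, 0, 3, 3, 0, 0], [1, 0, 3, 2, 1], [1, 2, 3, 0, 3, 0], [1, 2, 2, 3, 2, 1], [1, 2, 1, 2, 2, 1], [1, 2, 1, 0, 0, 1], [0, 1, 2, 3, 3, 0], [0, 3, 3, 0, 0, 1, 0], [3, 0, 0, 3, 2, 2], [2, 1, 0, 1, 0], [1, 1, 0], [0, 3, 0, 1, 0, 0, 0], [1, 2, 3, 0], [1, 0, 0, 1, 0, 1], [1, 2, 3, 3, 0], [3, 3, 0, 0, 0,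 3, 0, 0], [0, 3, 2, 1, 0], [2, 2, 3, 3, 2], [0, 1, 0, 0, 0, 1], [2, 1, 2, 2, 1, 0], [1, 0, 0, 1], [0, 0, 0, 3], [0, 3, 3, 3, 2, 1], [0, 1, 0, 3, 2, 1], [0, 3, 0, 1, 0, 0, 0], [1, 2, 2, 1, 0, 0, 0], [0, 1, 0, 1, 0], [2, 2, 3, 3, 3], [3], [0, 3, 3, 3], [2, 3, 0, 1, 0, 1, 2, 3], [2, 2, 3, 3, 3, 3, 2], [2, 1, 1, 1, 0, 0], [0, 3, 0], [0, 3, 0], [0, 0, 1, 1, 1, 0, 0], [3, 2, 3, 0, 0], [0, 3, 3, 0, 0], [3, 2, 3, 0, 0], [1, 1, 0], [2, 3, 2, 3, 3], [0, 0, 1, 0, 1, 2], [3, 2, 3, 2, 3, 0], [0, 1, 1, 2, 2], [0, 3, 0, 0, 3, 0], [3, 2, 2, 3, 3], [3, 3, 3, 2, 1], [3, 2, 2, 1, 0, 1], [1, 0, 3, 2, 1, 1, 0], [1, 0, 1, 2, 2], [0, 0, 3, 3, 2, 2, 1, 0], [2, 3, 0, 1], [2, 2, 1, 1, 0, 0],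 [2, 2, 1, 1, 2, 3], [0, 0, 1, 0], [0, 0, 3, 3], [0, 0, 0], [3, 3, 3, 3, 0, 3, 2], [3, 2, 3, 3], [3, 3, 2, 2, 1, 0], [2, 2, 3, 0], [1, 0, 1, 0, 1, 1, 0], [0, 1, 2, 3, 3, 0, 3, 0], [2, 1, 2, 2, 3], [1, 2, 1, 0, 1, 1, 1], [2, 3], [1, 1, 1, 0, 1, 1], [3, 2, 1, 2], [3, 2, 1, 2, 2, 3, 2], [2, 3, 3, 2, 1, 2, 2], [1, 1, 0, 0, 1, 2, 2], [0, 3, 3, 3, 3, 2], [1, 0, 0, 1, 1, 1, 0], [2, 1, 1, 0, 1], [0, 3, 2, 3, 3, 2], [3], [2, 2, 3, 0], [1, 2, 1, 1, 1, 2, 1, 1], [2, 1, 1, 2, 1, 0], [2, 1, 1, 0, 1], [1, 1, 2, 3, 3, 0, 1, 0], [0, 0, 1, 1, 1, 1, 1, 2], [1, 1, 0, 3], [2, 1, 1, 0, 1, 1], [0, 1, 1, 1, 1], [2, 3, 0], [2, 3, 2, 3], [1, 2, 3, 3, 3], [3, 2, 1, 0, 3], [0, 0, 1, 2, 2, 3, 3],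 [0, 0, 1, 0, 1], [1, 1, 1, 0, 1, 0], [2, 3, 3, 3, 3], [0, 0, 3, 2, 1], [0, 0, 0, 1, 0, 0], [1, 0, 0, 3, 2, 1], [3, 0, 0, 3, 2, 1], [2, 3, 0, 1, 2, 3], [2, 3, 2, 3], [0, 0, 3, 2, 1], [3, 0, 3, 0, 1], [3, 3, 2, 1, 1, 1, 0], [0, 1, 0, 1, 1, 2, 2], [1, 0, 1, 0, 0], [1, 2, 2, 3], [1, 0], [2, 1, 0, 1, 1, 0, 1, 0], [1, 0, 1, 1, 0], [2, 3, 0, 3], [2, 3, 0, 1, 1, 0], [2, 3, 0, 1, 1, 0], [2, 3, 2, 3], [3, 2, 3, 2, 3], [1, 1, 0, 1, 0], [1, 1, 2, 3, 3, 3], [1, 1, 1, 0, 3, 0, 0, 0], [2, 3, 3, 2, 1, 0], [3, 0, 0, 1, 1, 0, 0, 0], [3, 3, 0, 3, 0, 1], [3, 2, 1, 0, 0, 0, 3, 0], [3, 2, 2, 3, 3, 2], [2, 3, 3, 0], [0, 0, 0, 1, 0, 1, 2], [3, 3, 2, 2, 1, 1, 1], [1, 1, 1, 1, 1, 0, 0], [2, 3,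 2, 1, 0], [2, 2, 1, 0, 0, 0], [0, 1, 0, 0], [2, 1, 1, 0, 1, 1], [1, 1, 2, 3, 3, 2], [0, 0, 3, 3, 3, 0], [2, 3, 2, 1, 0], [2, 1, 1, 1, 1, 0, 0], [2, 3, 2, 3, 0, 3, 0], [1, 2, 2, 3, 3, 0, 1, 0], [1, 0, 1, 0, 3], [3, 0, 3, 3, 0, 0], [1, 2, 3, 3, 3], [0, 0, 0, 1, 0, 0], [1, 2, 3, 0, 1, 0], [3, 0, 3, 3, 0, 0], [2, 2, 1, 0, 3, 3, 2], [1, 0, 1, 2, 3, 0], [1, 0, 0, 1, 1, 2, 2], [0, 0, 0, 1, 2, 1, 1, 0], [3, 2, 3, 0, 0, 3], [0, 3, 3, 2, 3, 0], [1, 0, 1, 2, 3], [1, 2, 3, 0, 3, 3, 2], [0, 3, 2, 1, 2, 1], [0, 3, 2, 2, 3, 3], [3, 2, 1, 0, 0, 1, 1, 0], [0, 1, 0, 0, 1, 0, 0], [1, 2, 3], [0, 1, 1, 0], [0, 0, 1, 1, 2, 3], [2, 1, 0], [3, 0, 0, 0, 3], [3, 2, 1, 2, 3], [3, 2, 1, 1, 1, 0,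 0], [0, 1, 2, 1], [3, 2, 3, 2, 3], [1, 0, 1, 0], [0, 1, 0, 0, 0, 1], [3, 0, 3, 0], [2, 3, 2, 2, 3, 0, 1, 0], [2, 3, 3, 2, 1, 0], [3, 2, 3, 2], [0, 0, 3, 2, 3, 0], [1, 1, 0, 1, 0, 0], [3, 2, 3, 3, 2, 1], [2, 2, 1, 2, 3, 3, 2], [0, 3, 0, 1], [2, 1, 0, 3, 3], [1, 0, 1, 1, 1, 1], [1, 1, 2, 3], [1, 2, 3, 2, 3], [1, 2, 1, 0, 1, 1], [0, 3, 0, 1], [2, 1, 0, 0, 0, 3, 0], [1, 1, 0, 3, 0], [0, 3, 3, 3, 3], [2, 3, 3, 3, 2], [0, 0, 1, 1, 2, 1, 1], [1, 0, 1, 2, 1], [1, 1, 1, 1, 0, 1, 0], [1, 0, 0, 0, 1, 0, 0, 1], [2, 3, 0, 3, 0, 1], [1, 1, 2, 3], [1, 2, 3, 2, 1, 0], [1, 1, 0, 1, 2, 3], [2, 3, 2, 2, 1, 0], [2, 1, 0, 0, 1, 1, 0], [2, 1, 2, 3], [2], [0, 1, 2, 1, 1, 1], [2, 1, 0, 0],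 [0, 3, 3, 2, 2, 1, 1], [0, 3, 2, 3, 3], [2, 1, 0, 0], [2, 1, 1, 1, 2, 3], [1, 2, 3, 0, 0, 1, 0, 0], [2, 1, 2, 1, 0, 0], [2, 3, 2], [2, 3, 3, 2, 2], [1, 0, 1, 2, 1], [2, 2, 3, 3, 2], [2, 1, 2, 1, 1, 0], [1, 0, 0, 1, 1, 2, 1], [0, 3, 3, 2, 1, 1, 0], [0, 3, 3, 0, 0], [2, 1, 0, 1, 2, 3], [3, 0, 1, 1, 0, 3, 0], [1, 1, 2, 2], [0, 1, 1, 0, 1], [1, 1, 1, 1], [1, 2, 3, 3, 0, 3, 0], [2, 3, 2, 1, 2, 3], [3, 3, 0, 3, 0, 0], [0, 0, 3, 0, 1, 2, 2], [2, 1, 2, 3, 0], [3, 3, 0, 0, 1, 1, 1], [2, 2, 1], [0, 3, 0, 1], [2, 1, 1, 2, 3, 3], [3, 3, 0, 3, 2, 3], [2, 2, 3, 2, 2], [2, 3, 3, 3, 2, 1], [1, 2, 1, 0, 0, 1, 1, 1], [3, 2, 3, 3, 0, 1], [2, 1, 2, 2, 1, 1], [3, 0, 1, 1, 2, 3, 2], [1, 1,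 0, 0, 1, 0], [0, 1, 0, 1, 1, 0, 0, 0], [3, 3, 0, 3, 0, 0], [3, 3, 2, 1, 2, 1, 1], [1, 1, 0], [3, 0, 1, 0, 0, 0], [1, 0, 1, 1, 2, 2], [2, 1, 1, 0], [0, 1, 1, 1, 1, 1, 2], [2, 2, 3, 0, 1, 1, 0], [2, 3, 2, 1, 0, 3], [3, 3, 3, 2, 2], [2, 1, 1, 0], [2, 2, 3, 2, 1, 0], [0, 0, 3], [2, 3, 2, 3, 0, 0, 1], [2, 3, 2], [1, 0, 1, 2, 1], [0, 3, 3, 2, 3], [1, 2, 3, 2, 1, 1], [2, 2, 1, 0, 1], [1, 2, 2, 3, 3, 3, 3], [1, 2, 1, 1, 1, 0, 0, 0], [2, 2, 3, 2, 1, 0, 1], [2, 1, 0, 3, 3, 0, 3], [3, 2, 1, 1, 2], [1, 1, 0, 1, 1, 0], [0, 1, 2, 2, 1, 1], [0, 1, 1, 2, 3, 0, 3], [0, 3, 3, 0, 0, 0, 1], [3, 2, 1], [2, 1, 0, 3], [2, 2, 1, 1, 0, 1, 0], [0, 0, 0, 3, 0, 1, 0], [3, 2, 1, 1, 1, 0], [0, 0,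 1, 1, 0, 0, 0], [2, 3, 3, 3, 2], [1, 0, 0, 3, 2, 1], [0, 3, 3, 0, 0, 3, 0], [2, 3, 0, 3, 2], [1, 2, 1, 2, 2, 3, 2], [1, 1, 1, 0, 1, 2, 2], [3, 2, 3, 3, 3, 0, 0], [3, 2, 1, 2, 2, 1, 0], [2, 2, 3, 2, 3, 0, 1], [3, 2, 2, 3, 3, 2, 1], [2, 3, 3, 3, 0, 0], [2, 3, 0, 0, 3], [2, 1, 1, 1, 0, 1], [1, 1, 2, 3], [2, 2, 3, 3, 0, 3, 0], [1, 2, 1, 2, 3, 3, 2], [3, 3, 3, 3, 3, 0, 0], [1, 2, 3, 2, 3, 2, 1, 0], [3, 2, 2, 1, 1, 1], [1, 2, 1, 1, 0, 1, 1], [1, 2, 1, 0], [2, 1, 1, 0, 1, 2], [3, 0, 1, 0, 1, 0, 1], [3, 0, 3, 3, 3, 0, 1, 0], [0, 3, 3, 3, 0, 1], [3, 2, 1, 1, 2, 1], [3, 0, 0, 1, 0, 1, 1], [0, 0, 1, 0, 0, 1, 1], [1], [2, 3, 2, 3, 2, 3, 0, 0], [0, 0, 1], [2, 3, 0, 3, 2], [2, 3,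 3, 2, 3, 3, 2], [1, 1, 0, 1, 0], [3, 2, 3, 0, 1, 0, 1, 0], [0, 1, 0, 0], [1, 1, 2, 3, 0], [0, 1, 0, 1, 2], [1, 1, 2, 1, 1, 0, 0], [1, 1, 2, 2], [0, 3, 0, 1, 1], [2, 3, 2, 1, 0], [3, 2, 3, 0, 3], [3, 2, 1, 0, 0, 0, 3], [3, 3, 3, 2, 2, 1, 0, 3], [0, 3, 0, 1, 1], [3, 3, 2, 3, 2, 1, 0, 0], [2, 1, 2, 3, 0], [1, 2, 3, 3], [1, 1, 1, 1], [2, 2, 1, 1, 0, 0], [2, 2, 1], [3, 2, 2, 1, 2, 1], [1, 2, 3, 0, 1, 0], [2, 3, 2, 3, 2, 3, 2], [1, 2, 3, 3], [1, 0, 1, 1, 1, 1, 2], [0, 0, 1, 1, 2, 1, 1], [2, 2, 1], [0, 3, 3, 0, 3], [2, 1, 1, 1, 0, 1], [3, 2, 1, 0, 1], [3, 0, 1, 2, 1, 1], [2, 2, 1, 0, 1, 0], [1, 1, 2, 2, 1, 0, 0], [2, 1, 0], [2, 3, 2, 2, 1, 0], [0, 1, 1, 1, 2], [2, 1, 0, 3,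 0, 0, 1], [0, 0, 1], [0, 3, 3, 0], [1, 1, 0, 0, 1, 0], [3, 2, 1, 2], [1, 2, 3, 0, 1, 0, 1], [2, 3, 3, 2, 2], [3, 0, 1, 0, 0, 3, 0, 0], [1, 0, 3, 0, 0, 3], [3, 2, 3, 2, 2, 1], [1, 1, 2, 1, 0], [2, 3, 0, 1, 0, 0, 0], [2, 1], [0, 0, 3, 3, 2, 3], [2, 1, 1, 0, 0], [2, 3, 0, 1, 0, 1, 0], [0, 0, 1, 0, 1, 1], [2, 1, 2, 2, 1, 0], [3, 3, 2, 2, 1], [3, 3, 0, 3, 3, 0], [2, 2, 1, 2, 1], [1, 1, 0, 1, 1, 0, 0], [2, 2, 1, 1, 2, 2, 1, 1], [2, 1, 1, 2, 1], [3, 3, 2, 2, 1], [1, 0, 0, 1], [3, 0, 1, 1, 2], [0, 3, 2, 3, 0, 1, 0], [1, 2, 2, 1, 0, 1, 0], [3, 2, 3, 0, 0, 1], [1, 0, 1, 2], [2, 3, 2, 3, 0], [1, 2, 2, 3, 0, 3, 0], [0, 0, 3, 3, 0], [1, 1, 0, 3, 2, 3, 0], [1, 1, 2, 3, 3], [1, 0,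 1, 1, 1, 2], [1, 0, 3, 3, 0, 3], [1, 1, 0, 1], [0, 1, 0, 0, 3, 0, 0], [0, 3, 3, 3, 0, 0, 0], [0, 3, 3, 0, 0, 1], [1, 1, 0, 3, 0, 3], [2, 2, 1, 2, 1], [2, 3, 3, 0, 1, 2, 3], [0, 3, 3, 3, 0, 0, 0], [3, 3, 3, 3, 0, 3, 0, 0], [3, 0, 1, 1, 2], [2, 1, 2, 3, 2], [2, 1, 0, 1, 2, 2, 1, 0], [3, 3, 3, 2, 2, 1, 2, 1], [2, 3, 0, 1, 0, 0, 0], [3, 3, 3, 2, 1], [1, 1, 1, 2], [2, 2], [3, 0, 0, 1, 0, 3, 0, 0], [3, 0, 1], [0, 0, 0, 1, 0, 1, 0], [2, 3, 2, 3, 0, 3], [0, 0, 3, 0, 1, 0], [2, 2, 1, 2, 3, 0], [1, 1, 2, 1, 0, 1], [0, 3], [0, 0, 0, 3, 0, 0, 1], [0, 0, 3, 2, 3, 2, 1, 0], [1, 0, 3, 0, 0], [2, 3, 3, 2, 2, 1, 1], [2, 2, 1, 1, 1, 0], [1, 0, 3, 0, 1, 2], [2, 1, 1, 2, 3, 2, 3, 0], [0,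 0, 0], [0, 0, 1, 2, 3, 3, 2], [2, 3, 3, 2, 1, 1, 1], [0, 3, 0, 3, 3, 2], [0, 0, 1, 2, 2, 3, 2], [2, 3, 3, 3, 2, 2], [3, 0, 1, 2, 2, 1, 0], [1, 0, 0, 1, 0, 0, 0], [1, 0, 1, 2], [2, 1, 1, 2, 3], [2, 3, 2, 1, 0, 1], [2, 1, 2, 3, 3], [0, 0, 3, 0, 3], [3, 2, 3, 3], [2, 2, 1, 1, 0], [1, 1, 0, 1], [1, 2, 2, 1, 1], [1, 0, 1, 2, 2, 1, 2], [0, 3], [3, 2, 3, 0, 0], [1, 0, 3, 0, 3, 2, 1], [3, 0, 1, 1, 2], [2, 3, 3, 0, 3, 2], [0, 0, 1, 0], [2, 1, 1, 2, 1], [0, 1, 0, 1, 1, 1], [2, 1, 2, 3, 2, 1, 1, 0], [1, 0, 1, 2, 2, 1, 1], [3, 3, 0, 3, 0, 1, 1], [3, 2, 3, 2, 2, 1], [2, 1, 1, 0, 0, 0, 1, 0], [0, 1, 0, 1, 0, 1], [1, 1], [0, 0, 3, 3, 2, 3], [3, 3, 2, 1, 1, 1], [2, 3, 2, 2, 1, 0, 0],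 [2, 1, 1, 2], [2, 3, 0], [1, 2, 2, 1, 1, 0, 1, 0], [0, 1, 0, 3, 3], [3, 2, 3, 0, 3, 2, 3], [2, 1, 1, 1, 1, 1, 2, 2], [0, 0, 3, 3, 0, 1], [1, 1], [1, 1], [0, 3, 3, 3, 0, 1, 0], [0, 1, 2, 3, 3, 3, 3], [2, 1, 2, 1, 1, 1, 1], [2, 2, 1, 1, 0, 3, 0, 0], [3, 3, 2, 2, 1, 0, 3], [3, 3, 2, 1, 2, 2], [2, 3, 2, 2], [0, 1, 2, 1, 1], [3, 0, 0, 1, 2], [2, 1, 1, 0, 0], [2, 3, 3, 2, 3, 3], [3, 3, 2, 1, 2, 3, 0], [2, 1, 0, 1], [2, 3, 0, 3], [3, 2, 3, 2, 1, 0, 0], [3, 2, 1, 0, 1, 0], [1, 2, 2, 1], [0, 0, 3, 2, 2], [1, 2, 2, 1], [1, 1, 0, 1, 1, 2], [0, 0, 3, 3, 2, 3, 3], [1, 0, 0, 1], [1, 2, 3, 3, 2, 2], [0, 0, 1, 2, 1, 0, 1], [2, 2, 1, 2, 1, 1], [3, 0, 0, 1, 2], [0, 0, 0, 1, 2, 2, 1],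 [0, 0, 0, 3, 2], [1, 1, 1, 2, 1, 1, 0], [3, 2, 1, 0, 3], [3, 0, 0, 1, 2, 3, 2], [0, 0, 3, 3, 2], [3, 0, 0, 1, 0, 0, 1], [1, 2, 3, 2, 1, 1, 1, 2], [3, 2, 2, 3, 3, 3], [2, 1, 1, 2], [0, 3, 2, 1, 2], [2, 3, 2, 1, 1, 2], [0, 3, 2, 1, 2], [2, 2], [1, 0, 3, 0, 1, 2], [1, 0, 0, 1, 1, 1, 1], [1, 0, 3, 3, 3, 2], [2, 2, 1, 0, 0, 0], [3, 0, 0, 3, 2], [3, 2, 1, 2, 1, 0, 0], [1, 2, 2, 1, 1, 0, 0, 0], [2, 3, 0, 1], [2, 1, 1, 2], [1, 1, 1, 0, 0], [0, 3, 0, 0, 3, 0, 3, 0], [0, 0, 1, 0, 1], [0, 1, 0, 3, 3, 2], [2, 1, 0, 0, 0, 1, 1], [3, 2], [3, 3, 2, 2, 1, 0], [1, 0, 3, 2], [1, 1, 0, 1], [2, 1, 2, 1, 0, 1], [0, 0, 1, 1, 0, 0], [1, 0, 3, 2], [0, 0, 1, 0, 0, 0, 1, 1], [0, 0, 3, 0, 3],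 [2, 3, 2, 1], [3, 2, 3, 3], [1, 0, 0, 3, 2, 1, 2], [2, 3, 0, 1], [3, 0, 3, 0], [0, 0, 1, 0, 1], [1, 2, 2, 1, 0, 0, 1, 1], [3, 3, 3, 3, 0, 0], [1, 1, 2, 1, 0], [2, 1, 1, 1, 0], [2, 2, 1, 2, 1, 1, 0, 0], [3, 2, 3, 2, 3, 0, 1], [0, 0, 0, 3, 3], [0, 3, 3, 0, 0, 0], [2, 1, 1, 1, 0], [3, 3, 0, 3, 2], [0, 0, 3, 2, 1, 1], [0, 3, 2, 3, 3, 0, 1, 0], [2, 2, 1, 2, 2], [0, 3, 0, 0, 1, 0, 3], [0, 0, 3, 2, 2, 3, 0], [0, 3, 3, 3, 0, 3], [0, 3, 3, 3, 3], [2, 2, 3, 3, 2, 1], [0, 0, 3, 3, 0, 3, 0], [0, 0, 3, 2, 1, 1], [0, 3, 2, 2, 3, 0, 1], [3, 2, 2, 3, 3, 0, 1], [2, 3, 2, 2, 1, 2], [0, 0, 0, 1, 2, 2], [1, 1, 0, 3, 0], [3, 3, 3, 0, 1], [3, 3, 2, 3, 2, 3, 0, 0], [1, 1, 1, 2, 2], [0, 0,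 0, 1, 0], [0, 3, 0, 1, 0, 3], [2, 3, 3, 3, 0, 3, 2], [1, 0, 3, 0, 1, 2, 2, 1], [2, 1, 0, 0, 0, 3], [1, 2, 1, 1, 1], [0, 3, 0, 1, 0, 0, 0], [0, 3, 0, 1, 0, 3], [2, 1, 2, 2, 3, 2, 1, 0], [2, 1, 2], [1, 1, 1, 0, 0, 1, 0, 1], [2, 2, 1, 1, 2, 3, 0], [1, 1, 1, 1, 1], [0, 0, 0, 1, 0], [2, 1, 1, 1, 0], [2, 1, 2, 1, 2, 3], [0, 3, 3, 3], [2, 3, 2, 1, 2, 1, 1], [3, 3, 3, 0, 0, 1, 0], [3, 3, 0, 0, 0, 3, 0], [1, 0, 3, 2, 1, 0, 3, 0], [2, 2, 1, 0, 3], [3, 2, 2, 3, 0, 0], [3, 2, 2, 3, 0, 0], [2, 1, 2, 3, 2, 1, 0], [0, 0, 3, 0, 0, 0], [2, 2, 1, 2, 3, 0], [3, 3, 2, 2, 1, 1], [1, 2, 3, 2, 2, 1], [1, 1, 1, 1, 1, 2], [1, 1, 2, 3, 0, 3], [0, 0, 0, 1, 0, 3], [3, 3, 0, 3, 0, 0], [3, 0, 1,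 1, 1], [0, 0, 3, 0, 0, 0], [3, 3, 0, 3, 3], [2, 2, 1, 1, 1, 0], [2, 1, 1, 1, 2, 2], [0, 0, 0, 1, 0, 3], [0, 0, 3, 3], [3, 2, 1, 1, 0, 0, 0], [0, 0, 3, 0, 1, 0], [2, 3, 0, 1, 1, 0, 3, 0], [3, 3, 3, 2, 1], [0, 0, 3], [1, 2, 1, 1, 1], [3, 2, 1, 0, 3, 2, 2], [0, 3, 3, 0, 1, 0], [0, 3, 0, 1, 2, 3, 0], [2, 2, 3, 2, 1, 0], [2, 3, 2, 3, 3, 2, 1], [0, 3, 0, 1, 2, 2], [2, 3, 2, 1, 1, 1, 0], [1, 1, 0, 3, 0, 3], [0, 0, 3, 3], [0, 3, 3, 3], [2, 1, 1, 2, 1, 0], [0, 0, 0, 1, 2, 2], [3, 0, 1, 0, 0, 0], [2, 1, 2, 1, 0], [1, 2, 3, 2, 1, 1], [1, 2, 1, 0, 3], [1, 2, 2, 3, 3], [1, 2, 2, 3, 2, 2, 3, 0], [1, 2, 1, 2, 2], [0, 3, 3, 0, 3, 0, 0, 0], [1, 1, 0, 0, 0, 3], [2, 2, 1, 1, 1], [1, 1,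 1, 2, 3], [0, 1, 0, 3, 0, 0], [1, 1, 1, 1, 0], [0, 1, 1, 1, 2, 2, 1], [1, 2, 3, 2, 1, 1, 0], [2, 3, 2, 2, 3, 2], [1, 1, 0, 0, 3, 2, 1], [0, 1, 0, 3, 0, 0], [0, 3, 3, 3, 3], [0, 0, 0, 3, 0, 0], [1, 2, 3, 0, 0], [1, 2, 3, 2, 2, 1, 1], [3, 3, 0, 3, 3, 0, 1], [1, 1, 1, 0, 1, 0], [2, 3, 3, 3, 0, 0], [3, 3, 2, 1, 2, 2, 1], [0, 0, 0, 3, 0, 0], [3, 2, 1, 0, 1, 1, 2], [1, 0, 3, 0, 1, 1], [0, 3, 2, 3, 0, 0], [1, 2, 3, 2, 1, 0], [2, 3, 0, 0, 3], [3, 3, 0, 3, 2, 1], [1, 2, 1, 0], [3, 3, 2, 1, 1, 1], [1, 2, 1, 2, 2], [2, 2, 3, 0, 0, 1], [1, 1, 1, 2, 3, 0], [2, 3, 2, 2, 1, 2, 3], [1, 2, 2, 1, 1, 0, 0], [1, 2, 1, 2, 2], [3, 3, 3, 3, 3, 0, 0], [2, 3, 3, 0], [1, 0, 3, 3, 0], [1, 0, 3,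 3, 3, 0], [1, 2, 1, 0, 3], [1, 2, 2, 3, 2, 1, 1], [0, 0, 3, 3, 3], [2, 2, 3, 2, 2, 1], [3, 2, 1], [2, 2, 1, 0, 3], [2, 3, 2, 1, 2, 1, 0], [3, 2, 1, 0, 3, 0], [3, 2, 1, 1, 0, 0], [1, 1, 2, 3, 2, 3, 0], [2, 2, 1, 1, 1], [3, 2, 1, 0, 0, 1, 1], [3, 3, 0, 3, 3, 0, 1], [1, 1, 0, 0, 0], [1, 2, 3, 0, 0], [2, 2, 1, 0, 0, 0], [1, 1, 1, 1], [1, 0, 3, 3, 3, 0, 0], [1, 0, 1, 2], [1, 0, 1, 2, 1, 2, 3], [1, 2, 2, 3, 0, 1, 0], [1, 1, 2, 1], [0, 1, 0, 0], [2, 2, 3, 0, 0, 1], [2, 1, 0, 1, 2, 1, 1], [2, 2], [2, 3, 3, 3, 0], [0, 0, 3, 0, 3], [0, 3, 3, 0, 3], [3, 2, 1, 0, 3, 0], [3, 0, 1, 1, 0], [2, 2, 3, 0, 1, 0], [1, 1, 1, 0, 1], [1, 1, 0, 1, 2], [1, 2, 1, 2, 3, 2], [2, 1, 0, 0, 0, 1,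 2, 1], [3, 3, 0, 3, 0], [3, 0, 3, 3, 0], [0, 1, 1, 2], [3, 3, 2, 3, 0, 1, 0], [0, 1, 1, 2], [3, 3, 2, 3, 3, 0], [1, 1, 1, 0, 1], [3, 0, 3], [0, 1, 0, 3], [0, 1], [2, 1, 1, 0, 0, 0], [3, 0, 1, 0, 1, 2], [3, 3, 2, 1, 1, 0, 0], [2, 2, 3, 3, 0, 3], [1, 0, 1, 0, 1, 1, 1], [3, 0, 3, 0, 1, 0], [2, 3, 0, 1, 2, 2], [0, 3, 2, 1, 1, 2], [3, 0, 0, 0], [0, 1, 0, 0, 3, 3, 0, 0], [3, 0, 3, 2, 2, 1, 0], [0, 3, 0, 1, 0, 0], [1, 2, 3, 3, 0, 3, 2], [2, 1, 2, 1, 2], [0, 1, 2, 1, 0], [3, 0], [3, 0, 1, 2], [3, 3, 0, 1, 0, 1, 0], [0, 3, 2, 1], [0, 1, 0], [0, 1, 2, 1, 0, 1], [0, 1, 0], [0, 3, 0, 3], [2, 1, 0, 0, 1, 1, 1, 1], [1, 0, 3, 0, 1, 2, 1], [2, 2, 1, 2, 3, 2], [3, 0, 0, 3, 0, 3, 0],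 [3, 3, 0, 0, 1], [0, 0, 3, 3, 2, 1], [0, 3, 3, 0, 1], [3, 2, 1, 1, 1, 2, 1], [0, 0, 1, 0, 3, 2], [0, 3, 2, 3, 0], [3, 0, 3, 3, 2, 2], [3, 2, 2, 3], [3, 3, 3], [3, 2, 2, 3, 0, 3, 0], [1, 2, 1, 1, 0, 0, 1, 0], [0, 3, 2, 3, 0], [2, 1, 0, 1, 2, 3, 0], [1, 0, 0, 0, 1], [3, 3, 0, 0, 3, 0], [1, 0, 1, 1, 0, 1, 0], [2, 1, 1, 0, 1, 0], [0, 3, 2, 2], [0, 3, 2, 3, 2, 1, 0], [1, 0, 3, 3], [2, 2, 3, 0, 1], [1, 0, 0, 1, 2, 2], [3, 0, 1, 1, 1, 0, 1], [3, 2, 1, 1, 1, 2], [1, 0, 3, 0, 0, 0], [2, 2, 3, 0, 1], [2, 3, 0, 0, 1, 2], [3, 2, 2, 1, 2, 3, 3], [0, 1, 2, 3, 3, 2], [1, 2, 1, 1, 0, 0], [1, 0, 1, 0, 0, 0], [3, 2, 1, 2, 3, 0], [1, 1, 1, 0, 3, 2, 3, 0], [3, 3, 2, 3, 0, 3], [3, 0, 1,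 0, 0], [3, 2, 2, 1, 0, 0, 0], [3, 3, 3, 0, 3, 0, 0], [2, 3, 3, 3], [2, 3, 3, 2, 2, 3, 0], [3, 3, 2, 2, 1, 2, 1], [1, 0, 0, 0, 3, 2], [0, 1, 2, 1, 1, 2], [0, 1, 1, 1], [0, 1, 1, 1, 1, 2], [3, 3, 3, 0, 3, 0, 0], [3, 2, 2, 1], [0, 1, 2, 2], [3, 2, 2, 1], [0, 0, 1, 1, 2, 3, 0], [1, 2, 3, 0, 1, 0, 0, 0], [0, 1, 1, 1, 0], [2, 3, 0, 0, 0], [1, 2, 2, 1, 1, 0], [2, 3, 3], [1, 1, 0, 1, 1], [2, 3, 3, 0, 3, 0], [1, 2, 2], [0, 3, 3, 2, 1], [1, 0, 3], [1, 1, 0, 0, 3, 0, 0, 1], [0, 0, 3, 2, 2, 1, 2], [3, 2, 2, 1, 1, 2, 3], [1, 0, 0, 1, 0], [2, 2, 3, 3, 0, 1, 0], [1, 0, 3], [3, 2, 3, 3, 3, 2, 1], [3, 2, 3, 0, 1], [0, 1, 2, 3, 0], [0, 1, 0, 3], [0, 1, 2, 2], [3, 2, 1, 2, 2, 1, 1], [3,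 0, 1, 1, 1, 2], [3, 0, 0, 3], [1, 0, 3, 0, 3, 0], [3, 0, 1, 1, 0], [0, 1, 2, 3], [3, 2, 1, 1, 0], [1, 2, 2, 1, 0, 1, 2], [2, 2, 3, 0, 1, 0], [2, 3, 3, 2, 1, 2], [0, 3, 0, 3, 0, 1], [0, 1, 2, 1, 0], [3, 2, 3], [1, 0, 0, 1, 1, 1], [2, 3, 0, 1, 2, 1], [3, 3, 0, 3, 0], [2, 1, 2, 2, 1, 0, 3, 0], [1, 0, 0, 1, 2, 3, 0], [0, 3, 2, 2, 1, 0, 3], [2, 3, 0, 1, 0, 1], [0, 1, 2, 2, 1, 1, 0], [0, 1, 2, 3, 0, 3], [1, 2, 3, 3, 0, 1, 0], [3, 2, 1, 1, 0], [0, 1, 1, 2, 3], [3, 0, 0, 1, 1, 2, 3], [2, 3, 0, 3, 3, 2], [0, 0, 1, 1, 1, 2, 2], [0, 1, 0, 1, 1, 0], [2, 3, 0, 0, 0], [1, 2, 2, 1, 0, 0], [2, 1, 0, 1, 1, 1], [2, 3, 2, 1, 1], [2, 3, 2, 2, 3, 0], [0, 3, 2, 1, 0, 3], [3, 3, 2, 1, 1, 1,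 0, 0], [1, 0, 0, 1, 2, 2], [0, 1, 1, 0, 3, 2], [2, 3, 2, 1, 1], [3, 3], [3, 0, 0, 1], [0, 0, 1, 1, 1, 0], [2, 2, 3, 3, 3, 3], [0, 1, 1, 1, 0, 1], [1, 0, 0, 1, 0], [3, 0, 0, 3, 2, 3, 0], [3, 2, 1, 1, 0, 1], [3, 0, 1, 0, 0, 1], [1, 2, 1], [3, 3, 3, 3, 2], [0, 1, 2, 1, 2, 2], [1, 2, 1, 0, 1], [1, 0, 0, 3, 3, 0], [1, 1, 2, 1, 0, 0], [2, 3, 0, 0, 1], [3, 2, 3, 3, 3, 0, 1], [1, 1, 2, 2, 1], [1, 1, 0, 0, 1], [3, 0, 0, 0, 1, 2], [1, 2, 2, 1, 2, 1], [3, 3, 2, 3, 0, 1, 0], [2, 3, 0, 3, 0, 0], [2, 1, 2, 2, 1], [2, 3, 0, 3, 0, 1, 2], [0, 3, 0, 1, 0, 1], [0, 1, 2, 2, 1, 0], [1, 2, 1, 2, 3, 3], [2, 1, 0, 3, 0], [1, 2, 3, 2, 1], [0, 0, 1, 0, 3, 0, 0], [2, 2, 3, 3, 2, 2, 1, 0], [1,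 1, 0, 0], [2, 2, 1, 2, 2, 3, 2], [1, 1, 2, 2, 1, 1], [1, 1, 0, 3, 0, 0], [1, 1, 0, 1, 2], [0, 1, 1], [2, 1, 1, 1, 0, 3, 2, 3], [0, 1, 1, 2], [3, 2, 3, 3, 0, 0], [1, 1, 0, 3, 0, 0], [3, 3, 0, 1, 2, 3, 0], [0, 1, 2, 3, 3, 2, 1], [3, 3, 2, 1, 2, 1, 2], [2, 2, 3, 2, 1], [3, 0, 3, 0, 1, 0], [1, 2, 3, 2, 1], [0, 3, 0, 3, 2], [0, 3, 3, 0, 0, 1, 0, 0], [3, 3, 3, 0, 1, 0], [3, 2, 3, 3, 2], [3, 3, 0, 3, 0, 0, 1], [1, 2, 1], [3, 2, 2, 1, 2, 3], [3, 2, 2, 1, 0, 0], [3, 3, 0, 0], [2, 3, 2, 3, 2], [0, 3, 2, 1, 0, 1, 1, 2], [3, 3, 0, 1, 0, 3], [1, 2, 1, 0, 1, 1, 2], [0, 3, 2, 1, 0, 1, 0], [2, 1, 2, 2, 1], [1, 2, 1, 1, 0, 0, 0], [0, 0, 3, 0, 0, 1], [3, 3, 3, 0, 0, 0], [0, 0, 3, 0, 3,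 0, 0], [3, 3, 3, 0, 0, 0], [1, 2, 1, 0, 0, 1, 1], [3, 0, 1, 2, 3, 3, 0], [0, 0, 0, 1, 2, 1], [1, 2, 1, 2, 2, 1, 0, 1], [0, 0, 1, 2, 2, 1], [3, 3, 0, 1, 0, 3], [3, 0, 0, 3, 0], [0, 1, 2, 2, 3, 3], [2, 1, 2, 3, 0, 1, 0], [3, 0], [2, 3, 0, 3, 3, 0, 0], [3, 3, 3, 0, 3], [1, 0, 0, 0, 1], [0, 3, 3, 0, 3, 0, 1, 1], [3, 2, 3, 3, 3, 3, 2], [2, 2, 3, 2, 3], [0, 1, 2, 2, 1, 2, 3], [3, 3, 3, 0, 1, 0], [0, 0, 1, 0, 1, 0], [0, 1, 1, 1, 1, 0], [2, 2, 3, 2, 1], [1, 0, 0, 3, 0, 0], [3, 3, 3, 0, 1, 0], [3, 3, 0, 1, 2, 2], [1, 1, 1, 2, 3, 3, 0, 1], [2, 2, 1, 1, 2, 1], [0, 0, 3, 0, 3, 2, 3], [2, 1, 0, 3, 0, 1, 2], [3, 2, 2], [1, 2, 3, 2, 3, 0], [1, 1, 2], [0, 1, 1, 1, 2, 3, 0], [2, 2, 3,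 2, 1, 1], [3, 0, 3, 2, 1, 2], [0, 1, 0, 3, 0, 1, 1], [3, 3, 0, 1], [2, 3, 2, 2, 1], [1, 1, 2, 1, 1, 0], [3, 2, 2, 1, 0, 0, 0], [0, 3, 3, 3, 0, 0], [1, 2, 1, 1, 2, 1], [3, 2, 2, 1, 1, 1, 0], [0, 0, 1, 1, 1, 1], [2, 2, 1, 1, 2, 1, 1], [3, 2, 2, 1, 1, 1, 0], [3, 0, 0, 3, 3], [0, 0, 1, 1, 1, 1], [2, 1, 0, 0, 3, 0, 0, 0], [3, 0, 0, 1, 0, 1], [3, 0, 0, 3, 0, 0, 0], [2, 3, 2, 1, 1, 1, 2], [1, 1, 1, 2, 1, 0, 1], [3, 2, 3, 0, 1, 0, 0, 0], [1, 1, 1, 1, 2], [0, 1, 0, 3, 0, 1], [3, 3, 2, 2, 3, 3, 3], [3, 0, 0, 3, 3, 2], [2, 1, 0, 0, 1, 0], [3, 3, 2, 1], [0, 0, 0, 3, 0, 1], [1, 0, 0, 0, 1, 0, 1, 0], [3, 0, 3], [0, 1, 2, 1, 1, 1, 0], [0, 3, 2, 2, 1, 1], [1, 0, 0, 0], [1, 1, 0, 0],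 [0, 3, 0, 3, 2], [1, 0, 1, 2, 3, 2, 1], [2, 3, 0, 0], [3, 2, 3, 0, 1], [3, 3, 0, 1, 1, 1], [2, 3, 3, 0, 0, 1, 0], [3, 2, 3, 3, 2, 2, 1, 1], [0, 1, 0, 0, 0, 3, 3], [1, 0, 1, 0, 1, 1, 2], [1, 1, 0, 0, 0, 1, 0], [3, 2, 2], [0, 1, 2, 1, 2, 3], [2, 1, 1, 1], [3, 3, 2, 3, 3], [0, 0, 1, 1, 1, 1, 1], [0, 0, 1, 2, 1, 1], [3, 0, 3, 0, 1, 2, 3, 0], [2, 3, 0, 3, 3, 2, 3], [3, 0, 0, 3, 0, 3], [0, 0, 0, 3, 3, 2, 3], [3, 0, 0, 3, 0, 3], [2, 2, 1, 0, 0, 1, 1], [3, 0, 0, 1, 0], [1, 2, 1, 1, 2, 1, 1], [1, 1, 1, 2, 3, 0, 0], [3, 3, 2, 3, 3], [0, 3, 3, 0, 1], [1, 1, 0, 0, 3, 3], [1, 1, 2, 3, 3, 0], [3, 0, 0, 3, 0, 3], [0, 3, 0, 3, 2, 1], [3, 3, 0, 1, 0, 0, 0], [1, 2, 1], [0, 1, 1, 1, 2,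 3], [3, 0, 0, 3], [3, 2, 2, 1, 1, 0], [0, 0, 1, 0, 0, 0], [3, 0, 3, 0, 1, 2, 2], [1, 0, 1], [2, 2, 3, 3], [0, 3, 2, 1, 1, 0, 0, 1], [1, 0, 1], [0, 0, 0, 3, 3, 0, 0], [0, 0, 1, 0, 1, 0, 1], [2, 3, 2, 1, 1], [3, 2, 3, 0, 1], [0, 3, 0, 3, 2], [1, 0, 3, 0, 3], [3, 0, 3, 3, 0, 3], [3, 0, 3], [3, 3, 2, 3], [2, 3, 3, 0, 0, 1, 2], [1, 1, 2, 1, 1, 1], [1, 0, 0, 0, 1, 0], [2, 1, 2, 1, 1], [0, 1, 2, 3, 0, 0], [3, 3, 0], [3, 3, 3, 0, 0], [2, 3, 3, 2, 1, 1], [3, 3, 0, 0, 1, 0], [3, 3, 3, 3, 0, 0, 0], [0, 0, 3, 2, 1, 1, 0], [0, 0, 1, 1, 1], [2, 1, 2, 1, 2, 2, 1], [1, 0, 3, 3, 3], [3, 3, 3, 3, 0, 0, 0], [3, 3, 3, 0, 0, 1], [2, 3, 2, 3, 3, 3, 3], [1, 0, 0, 3, 0, 0, 0], [3, 3, 0, 1,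 1, 0], [2, 1, 0, 3, 2, 2], [3, 0, 1, 2, 3], [3, 3, 2, 3, 3, 2], [1, 2, 1, 1, 1, 1], [3, 0, 0, 1, 2, 1, 1], [3, 0, 3, 2, 1, 0, 1, 0], [3, 0, 1, 0], [2, 2, 1, 0, 1, 2], [2, 1, 1, 2, 1, 1], [2, 3, 3, 0, 1, 0], [2, 1, 1, 0, 0, 0], [0, 1, 0, 0, 0, 1, 2], [0, 3, 2, 3, 0, 1], [3, 3, 3, 0, 3, 0], [0, 0, 3, 0, 3, 2], [3, 0, 0, 3, 3, 2, 1], [0, 0, 3, 0, 1, 2], [0, 0, 0, 1, 1, 2, 2], [0, 0, 1, 2, 3, 0], [1, 0, 0, 3, 3], [3, 0, 1, 0], [2, 1, 2, 2, 1, 0, 1], [0, 3, 3, 3, 2, 2, 1], [3, 3, 3, 3], [0, 3, 0, 0, 1, 0, 1, 1], [0, 0, 0, 1], [1, 2, 1, 0, 0, 1, 2], [1, 1, 2, 1, 1, 2, 2], [3, 3, 3, 3, 0, 3], [1, 2, 1, 1, 2, 3, 0, 1], [3, 0, 0, 0, 3, 3, 0, 0], [0, 1, 0, 1, 1, 0, 0], [3, 2,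 3, 2, 1, 1], [3, 3, 0], [1, 2, 1, 2, 3, 2], [0, 3, 0, 0, 0], [1, 0, 3, 0, 1, 0, 1], [0, 0, 1, 2, 2], [1, 0, 0, 3, 2, 2, 1], [1, 1, 2, 3, 3, 0, 1], [2, 2, 1, 1, 2, 1, 0], [0, 0, 3, 0, 0], [0, 3, 0, 0, 0], [0, 0, 1, 2, 2], [3, 2, 2, 1, 1, 2, 1], [0, 3, 2, 2, 1, 1, 0, 0], [0, 1], [2, 2, 1, 0, 0], [3, 0, 1, 0, 1, 1, 0], [0, 1], [3, 3, 2, 2, 3], [0, 1, 1, 1, 0, 1, 2, 2], [3, 0, 0, 1, 0, 0, 0], [3, 2, 1, 0, 1, 1, 1], [3, 3, 0, 0, 3, 0], [0, 1, 1, 0, 1, 0], [0, 1, 1, 0, 0, 0], [0, 3, 0, 0, 3, 2, 1], [3, 3, 3], [3, 3, 0, 3], [0, 3, 0, 0, 1, 0, 1], [0, 0, 1, 0, 3], [0, 3, 2, 1, 1, 2], [0, 0, 3, 2, 1, 0], [2, 3, 2, 1, 1, 0, 0, 0], [0, 3, 2, 2, 1, 0, 0, 0], [1, 0, 3, 2, 1, 1],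 [2, 1, 1, 0, 0, 0], [1, 0, 3, 0, 1, 0, 3], [3, 3, 2, 3, 2, 1], [3, 0, 1, 1, 2, 3, 3, 2], [2, 3, 2, 3, 0, 1], [3, 3, 2, 1, 0], [3, 0, 3, 2], [3, 3, 2, 1, 0], [3, 0, 3, 2], [2, 2, 1, 2, 2, 1], [3, 2, 3, 2, 3, 0, 0], [3, 0, 3, 0, 0, 1, 0, 0], [3, 3, 3, 2, 3, 2], [1, 0, 0, 0, 1, 0], [2, 2, 3, 3, 3, 3, 3], [2, 3, 0, 0, 1, 0, 3], [1, 1, 1, 0, 1, 0, 1], [1, 1, 0, 3, 3, 3, 0], [2, 3, 0, 3, 3], [3, 3, 3, 0, 0, 1], [2, 3, 3, 2, 2, 3, 0, 1], [0, 3, 2, 2, 1], [1, 1, 2, 1, 2], [1, 1, 2, 1, 1, 1], [0, 0, 0, 3, 2, 1], [3, 2, 2, 1, 1], [1, 2, 2, 1, 2, 3], [3, 0, 0, 0, 3, 0], [1, 1, 2, 2, 3, 2, 3], [3, 2, 3, 3, 0, 0, 1], [0, 3, 0, 0, 0, 3, 0, 0], [3, 0, 3, 0, 0, 0, 3], [3, 3, 3, 3, 3,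 2], [3, 0, 0, 0, 1, 1, 0, 0], [3, 0, 3, 3], [3, 0, 3, 2], [3, 0, 1, 2, 3], [0, 1, 0, 0, 0], [3, 3, 2, 2, 3, 0], [0, 1, 2, 1, 1, 2], [3, 0, 0, 1, 0, 1, 1, 0], [1, 0, 0, 3, 0, 0, 0], [3, 0, 1, 0], [3, 2, 1, 0, 3, 0, 0], [0, 1, 1, 1], [0, 3, 2, 2, 1], [0, 1, 1, 1], [1, 0, 1, 1], [3, 0, 1, 2], [0, 0, 0, 1, 1, 0, 0, 0], [1, 2, 2, 1, 2], [0, 1, 0, 3, 0], [0, 3, 0, 3, 0, 1], [1, 0, 3, 2, 3, 0, 1, 0], [0, 1, 1, 1, 0, 1, 0], [2, 3, 2, 3, 2, 1], [1, 0, 0, 0, 1, 0, 1], [2, 2, 1, 0, 0, 1], [3, 0, 1, 1, 1, 0, 0], [3, 0, 1, 0, 1, 1], [0, 1, 0, 0, 1, 0], [2, 3, 3, 2, 1, 1], [3, 3, 3, 2, 1, 2], [1, 1, 1, 0, 3, 0], [3, 0, 3, 0, 1, 1, 0], [1, 1, 1, 2, 3, 2], [3, 3, 3, 3, 0, 0, 0], [1,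 0, 0, 1, 1, 1], [1, 1, 1, 1, 1, 2, 2, 1], [3, 2, 1, 0, 0, 1], [2, 3, 3, 0, 0], [2, 1, 0, 1, 1, 0, 0, 1], [1, 2, 2, 3, 2], [3, 3, 3, 2], [3, 2, 3], [3, 2, 3], [0, 1, 1, 0, 1, 0], [1, 0, 1, 1, 1, 0, 0], [2, 3, 0, 1, 1, 2, 2, 1], [2, 2, 1, 0, 3, 0, 0], [3, 0, 0], [0, 1, 0, 3], [1, 2, 2, 1, 1, 1, 0], [3, 3], [1, 0, 3, 3], [3, 0, 0], [3, 3, 0, 3, 3, 2], [2, 1, 2, 3, 3, 0, 1], [1, 2, 2, 1, 2, 1, 0], [0, 1, 2, 3, 0, 0], [3, 0, 1, 1, 1, 0, 1, 0], [3, 0, 1, 0, 3, 0], [1, 1, 1, 1, 2, 2], [2, 3, 0, 3, 3, 3], [1, 2, 2, 1, 1, 1], [3, 3, 3, 3, 3], [3, 0, 1, 1, 2, 1, 1], [2, 1, 2, 1, 1], [1, 2, 2, 1, 2, 2], [2, 3, 3, 0, 3, 0, 0, 0], [1, 2, 2, 3, 3, 2, 1], [0, 3, 0, 1, 0, 1], [2, 1,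 0, 3, 0, 1], [0, 3, 0, 3, 3], [0, 0, 3, 2, 2, 1], [1, 2, 1, 2], [1, 1, 2, 3, 2], [3, 3, 3, 3, 3], [1, 1, 1, 0, 1, 2, 1], [2, 2, 3, 3, 0, 1], [0, 0, 1, 1, 1], [0, 3, 2, 1, 2, 3, 0, 0], [0, 1, 2, 2, 1, 0, 3, 0], [2, 2, 1, 2, 2, 1, 2], [1, 2, 1, 1, 2, 2], [2, 2, 3, 0, 0], [1, 0, 0, 3, 0, 1, 0], [2, 3, 2, 3, 3, 0], [1, 2, 1, 1, 2, 3, 0], [3, 0, 0, 0, 1], [0, 3, 3, 2, 1, 1], [0, 1, 1], [1, 2, 2, 1, 0, 3], [1, 2, 2, 1, 2, 3, 0], [2, 1, 1, 2, 3, 0, 1], [3, 0, 3, 0, 0, 0], [2, 2, 3, 3, 0, 1], [2, 1, 2, 1, 1], [0, 1, 1, 2, 1, 2], [3, 0, 0, 1, 2, 2], [1, 0, 3, 3, 3], [1, 0, 0, 3, 3], [1, 1, 1, 1, 2, 2, 1], [2, 2, 3, 3, 3, 3, 0], [0, 0, 3, 2, 2, 1], [2, 1, 1, 1, 1], [3, 3, 0],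 [1, 1, 2, 2, 1, 1, 1], [1, 1, 2, 2, 1, 2, 3, 0], [3, 2, 1, 0, 1, 2, 1], [0, 3, 0, 0, 1, 2], [3, 3, 2, 3], [0, 1, 0, 0, 1, 1], [3, 2, 2, 1, 0, 0], [3, 2, 2, 3, 2], [0, 1, 1, 2, 1, 1], [0, 1, 1, 2, 1, 1], [0, 1, 1, 2, 1, 1], [2, 2, 1, 2, 1, 2, 3], [2, 1, 1, 1, 1], [0, 3, 2, 1, 1], [0, 3, 0, 3, 2, 2, 3, 0], [3, 2, 2, 1, 0, 3, 0], [2, 2, 3, 3, 3, 0, 0], [2, 2, 1, 2, 1, 0], [2, 1, 1, 1, 1, 1], [3, 3, 3, 3], [2, 1, 0, 1, 2, 1], [3, 2, 2, 3, 2], [2, 2, 3, 3, 3, 2], [3, 3, 3, 2, 2, 3], [0, 1, 1, 0, 0, 0], [2, 2, 3, 2], [0, 1, 2, 2, 1, 0, 1], [1, 0, 1, 1, 0, 0, 0], [2, 1, 1, 0, 1, 0], [2, 2, 3, 2], [2, 3, 2, 1, 2], [1, 2, 1, 1, 1, 1], [3, 0, 0, 1, 0, 3], [0, 0, 0, 1, 1, 1], [3,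 0, 1, 0, 3], [1, 0, 0, 3, 0, 0], [3, 3, 3], [0, 0, 3, 0, 0, 1], [3, 3, 3, 3], [2, 2, 3, 2, 2, 1, 2], [3, 3, 0, 1], [3, 2, 1, 1, 0, 3, 0], [3, 3, 2, 3, 0, 0, 0], [2, 3, 3, 2, 1, 2, 1, 2], [2, 3, 3, 3, 0, 1, 0], [1, 2, 1, 1, 1, 0], [2, 2, 1, 2, 2, 1], [3, 3, 3, 0, 0], [1, 0, 0, 0, 3, 3], [0, 3, 0, 3, 2, 3], [0, 1, 1, 0, 0, 3, 2, 1], [0, 1, 2, 2, 1], [0, 1, 2, 2, 3, 2, 2], [2, 1, 1, 0, 3, 0, 0], [1, 1, 0, 3, 3, 0, 0], [0, 1, 1, 1, 1, 1], [1, 0, 3, 3, 3, 3], [3, 3, 0, 3, 2, 2], [3, 0, 3, 2, 2, 3, 0], [1, 0, 0, 3, 2, 1, 1], [3, 3, 0, 3, 2, 2], [2, 3, 0, 3, 0, 0], [0, 3, 0, 3, 3], [1, 2, 3, 3, 3, 3, 0], [0, 1, 1, 2, 1, 0, 1, 1], [3, 3, 2, 1], [3, 3, 3, 3, 3, 2], [0, 1, 0,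 3, 0, 1], [1, 1, 0, 3, 2, 1], [2, 2, 3, 0, 0], [0, 3, 0, 3, 0, 0], [2, 3, 2, 2, 1, 1, 1, 0], [1, 2, 2, 1, 0], [3, 3, 0, 0, 1, 0, 0], [0, 3, 0, 3, 0, 0], [2, 3, 3, 3, 3, 3], [3, 3, 3, 2, 3, 2], [0, 0, 1, 1, 1], [3, 0, 3, 0, 0], [1, 1, 2, 1, 1], [3, 0, 3, 3], [3, 0, 3, 3], [3, 3, 0, 3, 2, 3, 0], [0, 1, 0, 0, 1], [0, 1, 2, 3, 2], [0, 1, 2, 1, 0, 0], [0, 1, 0, 3, 3, 0], [3, 3, 3, 2, 1, 1, 0], [2, 2, 1, 2, 1, 0, 0], [1, 1, 1, 1, 1, 2, 2], [2, 3, 0, 0, 0, 1, 1, 1], [1, 1, 1, 2, 1, 0], [2, 1, 1, 1, 1, 1], [3, 3, 0, 1, 0, 1], [3, 3, 3, 0, 0], [3, 0, 0, 1, 0], [3, 3, 2, 2, 3, 0, 1], [1, 1, 2, 1, 2], [1, 2, 1, 2, 3, 2], [3, 0, 3, 3, 0, 3, 0], [3, 3, 0, 0, 0, 1], [1, 2, 1, 1, 0,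 1, 0], [2, 1, 1, 2, 2, 1], [2, 2, 1, 0, 3, 2, 3], [3, 3, 0, 1], [2, 1, 1, 2, 2, 1], [3, 0], [2, 2, 3, 0, 3, 0], [0, 0, 1, 0, 0, 0], [2, 3, 3, 3, 3, 0, 0], [2, 2, 1, 0, 3, 0], [3, 0, 0, 1, 0, 3], [0, 0, 3, 0, 1, 1], [3, 2, 1, 2, 2], [0, 0, 1, 2], [2, 1, 0, 0, 0], [2, 1, 0, 1, 0], [3, 2, 1, 1, 1], [0, 3, 0, 1, 0, 1, 0], [3, 2, 2, 3, 0, 3], [0, 1, 1, 0, 1, 1], [0, 3, 2, 3], [0, 0, 0, 1, 0, 1, 0, 1], [0, 0, 1, 2], [0, 3, 2, 2, 1, 1, 0], [1, 0, 0, 3, 2, 2], [0, 0, 3, 2], [3, 2, 1, 1], [3, 2, 2, 1, 1, 2], [1, 2, 3, 3, 2, 3], [1, 0, 3, 2, 1, 2], [1, 2, 3, 3, 3, 3, 2], [0, 0, 1, 0, 0], [3, 2, 2, 1, 0], [3, 3, 2], [1, 0, 0, 1, 1, 0, 0], [0, 0], [3, 0, 3, 3, 3, 0], [0, 0, 1, 1,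 0], [3, 3, 2, 2, 3, 0, 0, 1], [3, 0, 3, 3, 0, 1, 1], [1, 0, 0, 1, 0, 1], [2, 2, 1, 2, 1, 1, 1], [0, 0, 3, 2], [2, 2, 3, 3, 0, 0], [3, 3, 2, 1, 2], [3, 0, 3, 3, 3, 0], [0, 3, 2, 1, 0], [2, 1, 2, 2, 3, 2, 1], [1, 1, 2, 2, 3, 2, 1], [2, 2, 3, 3, 2, 3], [3, 3, 2, 3, 3, 2, 2], [1, 2, 3, 0, 1], [2, 3, 0, 1, 2, 3, 0], [0, 1, 0, 3, 2, 3, 0], [3, 3, 2, 1, 0, 0], [0, 0, 3, 3, 0, 3], [0, 1, 0, 1], [0, 3, 0, 0, 0, 3], [0, 1, 2, 3, 3], [0, 3, 3], [0, 0, 1, 0, 1, 2], [3, 2, 3, 2, 3, 2, 1, 0], [2, 3, 0, 3, 0], [3, 2, 1, 0], [1, 0, 3, 0, 0, 1], [0, 0, 0, 1, 0, 0, 0], [3, 3, 0, 0, 1], [3, 2, 1, 2, 2], [3, 3, 0, 3, 3, 3], [1, 0, 1, 1, 1], [1, 2, 3, 3, 3, 3], [0, 0, 1, 0, 1, 1, 0], [0,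 3, 3, 2, 3, 3], [2, 1, 1], [0, 1, 0, 1], [0, 0, 1, 2, 3], [3, 0, 3, 0, 1, 0, 0, 1], [0, 0, 3, 3, 2, 2], [0, 3, 2, 1, 0, 1], [0, 1, 1, 1, 1, 0, 1], [2, 3], [2, 3, 0, 0, 3, 2, 1], [3, 0, 1, 1, 2, 3], [3, 3, 0, 3, 2, 3, 3], [0, 3, 2, 1, 1, 0, 0], [3, 3, 3, 2, 3, 0], [0, 0, 1, 0, 0], [0, 0, 1, 2, 1, 1, 0], [2, 1, 0, 0, 1], [0, 1, 0, 1], [0, 3, 0, 1, 1, 0], [0, 3, 3, 2], [0, 3, 3, 2, 1, 2, 3], [0, 1, 2, 2, 1, 0, 0], [3], [3, 0, 3, 3, 2], [0, 0, 3, 2], [1, 1, 0, 0, 1, 1, 1], [0, 0, 1, 2, 3], [3, 2, 1, 2, 3, 0], [0, 3, 2, 1, 0, 0], [1, 2, 3, 0], [0, 3, 2, 1, 2, 3], [1, 1, 1], [0, 1, 0, 1, 2, 3], [3, 0, 3, 0, 1, 1], [1, 2, 1, 1, 0, 0], [1, 1, 2, 2, 1, 0], [1, 1, 1, 1, 0, 0],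 [2, 1, 0, 0, 1, 1, 1], [0, 1, 1, 1, 1, 2], [0, 0, 1, 1, 2, 2], [3, 0, 0, 1, 1, 2, 1, 1], [2, 1, 0, 3, 0, 1, 0, 1], [1, 0, 1, 0, 3, 3], [1, 1, 1], [2, 1, 1, 2, 1, 2], [3, 2, 2, 1, 1, 0, 0], [0, 3, 2, 1, 1, 0], [2, 3, 0, 3, 0, 1, 1, 0], [1, 0, 0, 0, 3, 2], [2, 1, 2, 3, 3, 0, 1, 0], [0, 1, 2, 1, 0, 0, 0], [1, 1, 1, 0, 1], [3, 2, 1, 1, 0, 1, 1], [3, 2, 3, 2, 1, 0], [0, 1, 2, 1, 0, 1, 0], [1, 0], [2, 2, 3, 3, 3], [1, 2, 2], [1, 2, 3, 3, 2], [0, 1, 1, 2, 3, 0], [3, 3, 2, 2, 3, 3], [0, 1, 0, 1, 2, 3, 3], [1, 1, 1, 1, 0, 0], [1, 0, 0, 0, 1, 2], [2, 3, 3], [2, 3, 3, 3, 0, 0, 1], [3, 0, 0, 0], [3, 3, 2, 2, 1, 0, 1], [0, 0, 1, 2, 1, 2, 3], [0, 3, 2, 1, 0], [2, 3, 0, 1, 0], [2,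 3, 0, 1, 0], [0, 0, 1, 2], [3, 3, 2, 1, 2, 3], [0, 1, 1, 2, 2], [2, 3, 3, 0, 0, 1], [0, 3, 2], [0, 3, 0, 0, 0, 1, 0], [0, 1, 1, 2, 3, 3, 2], [1, 1, 1, 2, 3, 0, 0, 1], [1, 0, 1, 0, 1, 0], [3, 2, 1, 0], [0, 1, 2, 3], [1, 1, 2, 2, 1, 2, 3], [1, 0, 3, 2, 1, 0, 0], [0, 3, 2, 1, 1, 0], [2, 1, 1, 1, 0, 0, 0], [0, 1, 0], [3, 3, 2, 3, 2], [1, 0, 3, 0, 0, 1], [2, 1, 1, 0, 0, 1, 1], [3, 0, 1, 2, 1], [0, 3, 0, 0, 3], [0, 0, 3, 0, 0, 0, 1, 0], [3, 0, 3, 3, 2, 3], [3, 2, 2, 3, 0], [3, 0, 3, 3, 0], [3, 2, 2, 3, 2, 1, 0], [3, 2, 1, 0], [1, 2, 2, 1, 0, 0], [1, 0, 1, 1, 1, 0, 1, 0], [1, 0], [1, 1, 0, 1, 1], [0, 1, 0, 0, 1, 1, 0], [1, 2, 2, 1, 0, 0, 1], [0, 3, 2, 2, 3, 0, 0, 1], [2, 3],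 [0, 3, 2, 2], [0, 0, 1, 1, 2, 3], [3, 2, 3, 2], [1, 0, 1, 0, 3], [3, 3, 2, 1, 2], [1, 2, 3, 3, 0, 0], [0, 1, 2, 1], [2, 1, 1, 1, 2, 1, 1], [0, 3, 0, 0], [3, 0, 1, 2, 3, 2], [2, 3, 2, 1, 0, 0], [0, 3, 3, 3, 2], [1, 0, 1, 2, 1, 1], [2, 1, 1, 0, 0, 1], [0, 1, 1, 2, 1], [1, 2, 3, 3, 2, 3, 3], [0, 1, 1, 2, 1], [3, 2, 1, 2, 1, 1, 2], [3, 0, 0, 3, 0, 3, 3], [0, 3, 2, 3], [3, 2, 1, 0, 3, 0, 1, 1], [2, 3, 3, 2, 3, 0, 1], [1, 1, 2, 2, 1], [0, 0, 1, 2, 3, 0, 1, 0], [2, 1, 0, 3, 2, 3], [0, 0, 1, 0, 3, 0], [1, 1, 0, 0, 1], [1, 1, 2, 1, 0, 0], [3, 0, 1, 1, 2, 2, 1], [2, 3, 0, 3, 2, 3], [2, 2, 1, 2, 1, 2, 2], [3, 3, 3, 0, 3, 3], [0, 0, 1, 0, 0, 1], [3, 3, 2], [1, 0, 0, 0, 1, 1], [3,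 3, 0, 1, 1], [2], [2], [1, 1, 0, 3, 2], [3, 3, 0, 1, 1], [1, 0, 1, 0, 1, 2, 1], [1, 1, 0, 0, 0, 3, 0], [2, 2, 1, 0, 1, 1], [3, 2, 2, 3, 2, 2, 1, 0], [0, 0, 1, 2, 1, 0, 0], [2, 1, 0, 0], [0, 3, 2, 3, 0, 0, 0], [0, 3, 0], [1, 1, 0, 3, 2, 3], [3, 0, 1, 2, 3, 2, 1], [0, 0, 3, 0, 3, 0, 1], [2, 2, 3, 0, 3, 0, 0, 1], [1, 2, 3, 2, 1], [2, 1, 2, 1, 0, 0], [2, 1, 0, 1, 0], [1, 1, 0, 3, 0, 1, 0, 3], [0, 0, 0, 3, 0], [1, 1, 1, 2, 2, 3, 3], [0, 0, 0, 1, 1, 0, 0], [3, 2, 1, 2, 1, 0], [3, 3, 3, 3, 3, 0], [3, 3, 3, 3, 2], [0, 3, 2, 1], [0, 3, 3, 2, 2, 1, 0], [3, 2, 3, 2, 1], [2, 3, 2, 3, 0, 0], [3, 0, 3, 3, 2, 3, 0, 1, 0], [2, 2, 1, 1, 2], [3, 0, 0, 0, 1, 1, 1], [2, 1, 0, 3, 0, 0],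 [0, 3, 2, 1], [2, 3, 2, 3, 0, 0], [0, 1, 2, 2, 3, 2], [1, 0, 0, 3, 3, 0, 1], [2, 3, 0, 3, 0], [0, 3, 0, 0, 1, 0, 0], [0, 1, 1, 1, 0, 0], [1, 1, 2, 2, 1, 1], [3, 3, 3, 0, 3], [2, 1, 1, 1, 0, 1, 0], [2, 3, 2, 2, 1, 0, 1], [2, 2, 3, 2, 3], [0, 0], [2, 3, 0, 3, 0, 1], [0, 1, 1, 0, 1], [2, 2, 1, 1, 1, 0, 0], [0, 0, 1, 0, 0], [0, 3, 2, 2, 3, 3, 3], [3, 3, 2, 1, 2, 1, 1], [0, 1, 0, 1, 1], [3, 3, 3, 0, 0, 0], [0, 0], [2, 1, 0, 0, 1], [0, 3, 2, 3], [2, 1, 1], [2, 1, 0, 0, 1], [1, 2, 3, 0, 3], [1, 0, 0, 3, 3, 0, 0], [0, 3, 2, 2, 1, 2], [0, 3, 3, 3, 2], [0, 3, 2, 1, 0, 3, 0], [1, 2, 1, 0, 1], [0, 1, 0, 0, 0, 3, 0], [3, 3, 2, 1, 0, 3, 0], [0, 1, 0, 3, 2], [2, 3, 2, 2, 1], [3, 2,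 2, 1, 0, 3], [2, 3, 0, 3, 3, 0], [2, 3, 0, 0, 1], [3, 2, 1, 1, 2], [1, 1, 2, 2, 1], [2, 2, 1, 1, 0, 0, 0], [3, 3, 3, 0, 3, 0, 0], [2, 2, 3, 3, 2, 1, 1], [0, 3, 0, 0], [1, 1, 1], [1, 0, 1, 1, 0, 0, 1], [3, 2, 1, 1, 2], [0, 3, 0, 1, 1, 1, 0, 0], [1, 0, 3, 0, 3, 0, 1, 0], [1, 1, 0, 3, 2], [3, 3, 2, 2, 3, 0, 0], [3, 0, 0, 0, 1, 0, 1, 0], [2, 3, 0, 0, 3, 0, 3, 0], [0, 0, 1, 2, 3, 2], [0, 1, 0, 3, 2], [1, 2, 1, 1, 2], [3, 2, 3, 2, 3, 0, 3], [2, 1, 0, 3], [1, 1, 2], [0, 3, 0, 1, 2], [0, 3, 3, 0, 0, 0, 1], [0, 3, 0, 1, 2], [1, 2, 1, 1, 2], [0, 0, 1, 0, 3, 0], [3, 0, 0, 0], [0, 3, 3, 3, 2], [2, 3, 3, 3, 3, 0, 0, 0], [3, 0, 0, 3, 0, 1, 0], [2, 2, 1, 1], [2, 2, 3, 0, 1, 0], [0,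 3, 2], [0, 3, 2], [2, 3, 2, 3, 2], [2, 1, 2, 3, 0, 1], [1, 1, 2, 2], [2, 1, 2, 3, 3, 3, 3], [2, 1, 0, 1, 0, 3, 3], [3, 3, 0, 3, 0], [2, 1, 1, 1, 0, 0, 0], [1, 0, 1, 0, 0, 0], [3, 2, 1, 2, 1, 0], [0, 3, 3, 0, 1], [2, 3, 2, 1, 2, 2, 1], [0, 1, 2, 2, 1, 2], [0, 0, 3, 2, 1, 2], [3, 3, 2], [2, 3, 2, 1, 2, 2], [1, 1, 1, 1, 2], [3, 2, 1, 2, 3, 3], [0, 1, 2], [1, 2, 3, 0, 0, 0], [0, 3, 2, 1, 0, 3], [0, 1, 2], [3, 0, 3, 3, 3], [3, 2, 3, 2, 1], [0, 1, 1, 1, 2], [3, 3, 0, 1, 1, 2], [1, 2, 2, 3, 0, 0, 1], [2, 1, 0, 1, 1, 2], [2, 1, 2, 3, 0, 0], [3, 0, 3, 2, 1], [3, 0, 1, 2, 1, 2, 3], [3, 2, 2, 3, 0, 1, 0], [0, 3, 0, 3, 0], [0, 3, 2, 2, 1, 2, 1], [3, 2, 1, 1, 1], [2, 2, 1, 2], [3,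 3, 3, 0, 3, 0, 0, 1], [3, 3, 0, 1, 2], [3, 0, 3, 3, 0, 1], [1, 1, 0, 0, 1, 1], [0, 3, 2, 1, 1, 0, 1], [3, 0, 3, 3, 0, 1], [1, 1, 1, 2, 1, 1], [3, 0, 0, 1, 2, 2, 1], [1, 1, 2, 3, 0, 0], [0, 1, 0, 0, 1, 2, 2], [3, 2, 1, 2, 2, 1], [0, 3, 3, 2, 1, 2], [2, 1, 0, 3, 3, 3, 0], [1, 2, 3, 3, 0], [0, 3, 3, 0, 0, 1, 2], [3, 3, 2, 2], [0, 1, 2, 3, 3, 3], [0, 1, 0, 1, 0], [2, 3, 3, 3, 2, 2, 1], [3, 2, 3, 2, 3, 2], [0, 1, 0, 1, 1, 2], [1, 1, 1, 2, 1], [2, 1], [1, 1, 1, 2, 1], [0, 3, 0, 0, 3, 2, 2], [2, 1, 0, 3, 3, 2], [0, 3, 2, 3, 0, 1], [2, 1, 2, 1, 2], [0, 3, 2, 3, 2, 1], [0, 3, 0, 0, 3, 0, 3], [1, 1, 2, 1, 2, 2, 1], [1, 1, 2, 3, 0, 0], [1, 0, 3, 3, 0, 0, 1, 0], [2, 1, 0, 0, 1,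 1], [2, 3, 3, 0, 1, 0], [0, 3, 0, 1, 2, 1], [1, 2, 1, 1, 0, 0, 1], [1, 0, 3, 0, 3, 0, 0], [0, 1, 0, 3, 2, 2], [2, 2, 1, 2, 1, 1, 0], [2, 3, 2, 2, 1, 2, 1], [2, 1, 1, 0, 3, 0], [3, 2, 2, 3, 3], [3, 2, 3, 0, 0, 0], [1, 2, 2, 3, 0, 3, 0, 0], [2, 3, 3, 0, 3, 0, 0], [0, 3, 3], [1, 1, 1, 0, 3, 0, 1], [3, 3, 0, 0, 1], [0, 1, 0, 1, 0, 0, 0], [0, 3, 0, 3], [3, 2, 2, 3, 3, 3, 3], [3, 0, 1, 1, 1, 1, 0], [0, 3, 2, 2, 3, 0], [3, 2, 3, 2, 1, 1], [3, 0, 3, 2, 2], [2, 1, 2, 3, 0, 0], [0, 0, 0, 1, 1, 1, 0], [2, 1, 1, 0, 0, 1, 0], [3, 2, 3, 0, 3, 3, 0, 0], [3, 0, 1, 1, 2, 3], [3, 3, 0, 0, 3], [0, 0, 3, 2, 2, 1, 0], [3, 0, 3, 2, 3, 0], [3, 3, 2, 1, 1, 0], [3, 3, 2, 2, 3, 0, 3, 0], [0,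 0, 0, 1], [3, 2, 1, 2, 3, 0, 1, 0], [0, 0, 1, 1, 1, 0, 1], [2, 1], [2, 2, 3, 3, 0], [1, 0, 3, 0, 0], [3, 2, 2, 3, 0, 1], [3, 2, 2, 3, 0, 1], [2, 1, 2, 3, 0, 0], [0, 3, 3, 0, 3, 0], [0, 0, 1, 0], [0, 0, 1, 1, 1, 0, 1], [3, 0, 1, 1, 2, 2], [1, 1, 1, 0, 0, 0, 3], [0, 0, 1, 2, 1], [0, 1, 1, 1, 1], [2, 3, 0, 0, 1, 0], [2, 3, 2, 3, 0, 1], [3, 0, 1, 0, 1], [3, 0, 3, 2, 1], [1, 0, 1, 0, 3, 0, 0], [0, 3, 2, 1, 0, 0], [1, 1, 2, 2, 3, 3], [0, 3, 2, 3, 2], [0, 1, 1, 1, 2, 3, 0, 0], [3, 2, 1, 1], [1, 0, 1, 0, 3, 0, 0], [0, 3, 2, 3, 2], [0, 0, 1, 2, 3, 0, 3], [1, 1, 2, 2, 1, 0, 1], [0, 1, 0, 3, 0, 3], [2, 3, 0, 0, 1, 2, 2], [3, 0, 3, 2, 1], [1, 1, 1, 0, 0, 0], [2, 3, 3, 3, 3], [0,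 0, 3, 3, 0, 1], [0, 3, 0, 0, 1], [2, 1, 1, 0, 0], [0, 1, 0, 1, 0], [1, 0, 1, 0, 0, 1], [1, 2, 2], [2, 3, 3, 2, 3, 0, 1, 0], [1, 1, 2, 3, 0, 0, 1], [1, 0, 1, 0, 0], [3, 2, 3, 0, 3, 0], [1, 2, 1, 1, 0, 3, 2], [0, 3, 0, 0, 1], [0, 0, 3, 2, 2], [1, 1, 1, 0, 0, 0], [2, 3, 0, 0, 1, 0], [3, 0, 1, 0, 1], [0, 3, 0, 3, 3, 0], [1, 2, 2, 1, 0, 3, 0], [3, 0, 3, 3, 0, 1], [1, 1, 1, 2], [0, 0, 3, 3, 0, 1, 1], [0, 3, 2, 1, 2], [2, 1, 1, 2, 1, 0, 0], [0, 1, 0, 3, 0, 1, 1, 0], [3, 2, 3, 0, 3, 0, 1], [3, 3, 2, 1, 0], [3, 0, 1, 2], [1, 0, 1, 0, 3, 2, 3], [3, 0, 0, 1, 0, 0], [0, 3, 2, 3, 3, 2, 2], [0, 1, 2, 3, 0, 1, 0], [3, 2, 1, 1], [3, 0, 3, 2, 2], [2, 2, 1, 2, 1, 2], [0, 0, 1, 2, 1],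 [3, 3, 2, 3, 2], [3, 2, 1, 0, 0, 1], [3, 0, 0, 3, 3, 2, 2], [3, 0, 0, 1, 0, 0], [2, 2, 1, 0, 0], [1, 2, 2, 1, 1], [0], [2, 3, 0, 0, 0], [2, 2, 3, 2, 3, 0, 0], [1, 0, 1, 2, 1, 0, 0], [3, 0, 1, 2, 1], [3, 0, 3, 3, 2], [2, 1, 2, 3, 3, 0, 1], [3, 0, 1, 0, 1], [3, 3, 2, 2, 3, 2], [2, 1, 0, 0, 0], [1, 1, 2, 1, 0], [2, 1, 0, 1, 0, 1], [1, 2, 2, 1, 1, 1], [2, 1, 1, 0, 0, 3, 2, 2], [1, 0, 0, 0, 3, 2, 1, 1], [2, 1, 0, 0, 1, 2], [3, 0, 1, 0, 0, 1, 1], [1, 1, 0, 3, 0, 1, 1], [2, 1, 1, 2, 3, 3, 0], [0, 0, 0, 1, 0, 1], [3, 3, 3, 3, 0, 0], [3, 3, 2, 1, 0, 0, 1], [1, 1, 0, 3, 3, 0], [1, 2, 3, 3, 0, 1], [1, 2, 3, 3, 3, 0, 0], [1, 1, 2, 3, 2], [0, 3, 3, 2, 2, 3, 0, 1], [3, 0, 0, 3, 0,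 0], [2, 1, 0, 3, 0, 1], [3, 3, 0, 1, 0, 1, 1], [2, 1, 0, 1, 0, 1], [0, 3, 2, 3, 0, 1, 0], [3, 3, 3, 0], [3, 0, 1, 0, 1, 1, 0, 0], [1, 0, 1, 0, 3, 3, 0, 0], [0, 3, 3, 0, 1, 0, 1], [2, 1, 0, 3, 0], [3, 3, 3, 0], [3, 0, 1, 2, 3, 2], [0, 3, 2, 3, 3], [2, 2, 1, 2], [2, 1, 2, 1, 1, 1, 0, 0], [2, 1, 2, 3, 2], [1, 1, 0, 3, 0], [1, 1, 2, 3, 0, 3, 0], [1, 2, 2, 1, 1, 1], [2, 1, 2, 3, 2], [3, 0, 3, 0, 0, 0], [2, 1, 0, 3, 0], [2, 1, 1, 0, 1, 2, 1], [3, 0, 1, 1, 0, 0, 0], [3, 3, 3, 0, 0, 3, 0], [0, 1, 2, 3, 0, 0], [0, 1, 2, 2, 3, 2, 1], [3, 0, 1], [0, 0, 3, 3, 0, 3], [1, 0, 1, 1, 1, 1], [3, 3, 0, 0], [0, 3, 0, 0, 3, 2], [0, 1, 1, 0, 0, 3, 0, 0], [2, 2, 3, 0, 3, 2], [3, 3, 3, 3, 2],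 [0, 3, 3], [0, 3, 0, 0, 1, 0], [0, 3, 0, 3, 3, 2], [1, 1, 0, 3, 3, 3, 3], [0, 0, 1, 0, 0, 1, 0], [3, 3, 3, 3, 3], [2, 2, 1, 1, 1, 0], [0, 0, 3, 0, 0], [2, 1, 0, 1, 2, 1], [3, 3, 3, 0, 1], [3, 0, 1], [0, 1, 1, 0, 0, 0], [2, 1, 2, 3, 3], [0, 1, 1, 1, 0, 0], [2, 1, 1, 1, 0, 1, 0], [0, 0, 1, 0, 3], [3, 3, 0, 0], [3, 3, 3, 0, 3], [1, 1, 2, 1, 0, 3], [1, 1, 1, 1, 0], [2, 1, 0, 0, 0], [0, 1, 0, 3, 2, 3], [1, 2, 3, 0, 0, 3], [2, 2, 3, 0, 3, 0, 0], [1, 2, 3, 3, 2, 1], [3, 2, 1, 1, 1], [2, 1, 1, 0, 0, 1], [0, 3, 2, 1, 2, 3, 2], [2, 3, 0, 3, 3], [0, 1, 0, 3, 3], [1, 0, 3, 3, 3, 3], [1, 1, 0, 3, 0, 1], [3, 0, 0, 3, 0, 0], [0, 3, 2, 1, 0, 0, 1], [3, 2, 1, 2, 3, 0, 0], [1, 2, 3, 3,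 0, 1], [1, 2, 2, 1, 0, 3], [3, 3, 2, 2, 3, 3], [0, 3, 0, 3, 0, 1, 2], [1, 1, 2], [0, 1, 0, 3, 2, 1], [1, 0, 1, 2, 3, 2], [3, 0, 3, 2, 1, 2], [0, 1, 1, 1, 1], [2, 2, 1, 1, 1, 1], [1, 1, 1, 1, 1], [3, 3, 2, 1, 1], [2, 1, 2, 1, 2], [3, 0, 1, 1, 0, 0, 0], [1, 1, 0, 0, 0, 3, 3], [3, 2, 3, 0, 0, 0], [2, 2, 1, 1], [0, 1, 0, 3, 0], [2, 1, 1, 1], [3, 2, 1], [1, 1, 2, 1, 1, 1, 0], [0, 3, 2, 1, 1], [1, 2, 3, 0, 3, 3], [0, 3, 0, 0], [1, 2, 3, 0, 3, 0, 0], [0, 1, 2, 1, 0, 0], [2, 1, 1, 0, 0, 1], [1, 0, 1, 0, 3, 0], [3, 0, 0, 0, 1], [3, 2, 1, 2, 3, 0, 0], []]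

end Cfsg.Agent.Lib.Helper26
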