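import Cfsg.Agent.Lib.Helper26.Orbits

set_option autoImplicit false
set_option maxRecDepth 1000000

namespace Cfsg.Agent.Lib.Helper26

open Cfsg

def duadStabG0 : PermData := ⟨[23, 15, 19, 14, 3, 4, 11, 10, 16, 13, 1, 20, 7, 6, 12, 17, 5, 2, 22, 8, 18, 21, 9, 0], [23, 10, 17, 4, 5, 16, 13, 12, 19, 22, 7, 6, 14, 9, 3, 1, 8, 15, 20, 2, 11, 21, 18, 0]⟩
def duadStabG1 : PermData := ⟨[23, 11, 9, 18, 14, 4, 20, 8, 13, 2, 16, 5, 21, 10, 15, 17, 12, 22, 1, 7, 19, 6, 3, 0], [23, 18, 9, 22, 5, 11, 21, 19, 7, 2, 13, 1, 16, 8, 4, 14, 10, 15, 3, 20, 6, 12, 17, 0]⟩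
def duadStabG2 : PermData := ⟨[23, 10, 17, 4, 5, 16, 13, 12, 19, 22, 7, 6, 14, 9, 3, 1, 8, 15, 20, 2, 11, 21, 18, 0], [23, 15, 19, 14, 3, 4, 11, 10, 16, 13, 1, 20, 7, 6, 12, 17, 5, 2, 22, 8, 18, 21, 9, 0]⟩
def duadStabG3 : PermData := ⟨[23, 18, 9, 22, 5, 11, 21, 19, 7, 2, 13, 1, 16, 8, 4, 14, 10, 15, 3, 20, 6, 12, 17, 0], [23, 11, 9, 18, 14, 4, 20, 8, 13, 2, 16, 5, 21, 10, 15, 17, 12, 22, 1, 7, 19, 6, 3, 0]⟩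

/-- generators (with inverses) of the stabiliser of the duad `∞, 0`. -/
def duadStabGens : List PermData := [duadStabG0, duadStabG1, duadStabG2, duadStabG3]

def duadReps : List ℕ := [6291456, 12582912, 8388609]

def duadWords : List (List ℕ) := [[], [3, 0, 0, 0], [], [2, 2], [0, 1, 2, 2, 3], [2, 2], [2, 3, 0, 0], [2, 1, 0, 3], [1, 0, 0, 1], [3, 0, 3, 0], [1, 1], [0, 1, 1], [2], [1, 1], [2, 2, 3, 3, 0], [0, 1, 0, 1], [1, 1, 2, 3], [3, 0, 0, 1, 1, 0], [0, 0, 1, 2], [1, 0, 0, 1, 0, 0], [1, 2, 2, 3, 0], [1, 1, 0, 0], [3, 3, 2], [3, 3, 2, 2], [1, 1, 0, 0], [2, 3, 2, 1], [0, 0, 0, 1, 0], [0, 3, 2, 1, 0], [2, 3], [1, 2, 3, 0], [0, 3, 2, 2, 1, 1], [0, 0, 1, 0, 0], [3, 3, 2, 3, 3, 0], [0, 3, 0, 1, 0], [1, 2, 3], [3, 3], [0, 1],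 [3, 2, 2, 3, 0], [2, 3, 0, 0, 0], [1, 0, 0, 3, 3, 0], [2, 3, 0, 0], [3, 2, 1, 2, 3], [2, 3, 0], [1, 2, 2, 2, 3], [2, 3], [0, 0], [3, 2, 3, 0, 1, 2], [0, 0], [3, 0, 0, 3], [1, 0, 0, 1, 0], [0, 1, 1, 0], [2, 1, 0], [0, 1, 0, 3], [3, 3, 3, 3, 2], [2, 3, 2, 2], [0, 1, 2, 1], [2, 2, 2, 1, 2], [3, 0, 0, 0], [0, 0, 1], [1, 1, 1, 0, 0], [1, 1, 1, 2, 1, 0], [3], [3, 3, 0, 0, 0], [0, 3, 0, 1, 2], [1, 0, 3, 2, 1], [2, 3, 0, 0, 1, 0], [0, 0, 0, 0], [2, 1, 1, 0], [2, 2, 2], [2, 1, 1], [0, 1, 0], [1, 2, 2, 3], [2, 3, 3, 0, 3], [1, 1, 0, 1, 1, 0], [0, 1, 2], [0, 1], [1, 2, 3, 3], [1, 2, 1, 0, 1], [2, 1, 1, 1], [1, 2, 1, 0], [3, 3, 0, 0, 1], [0, 1, 1, 1, 1], [0, 0, 3], [3, 2, 1, 0, 1], [3, 3, 3, 2], [1, 2, 1, 2], [1, 2, 3, 2, 2], [1, 2,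 1], [2, 1, 2], [0, 0, 3, 2], [2, 3, 0, 1, 0], [0, 0, 1, 1], [0, 0, 1, 1], [0], [1, 1, 0], [3, 0, 3], [1, 2, 2, 3, 0, 0], [0, 1, 2, 3, 0], [3, 3, 0], [2, 2, 1, 0], [1, 1, 2, 2, 1], [3, 3, 3, 3, 0], [2, 2, 1, 0, 0], [2, 3, 0, 0, 3], [1, 2, 1, 2, 2], [0, 0, 1, 0], [2, 3, 3, 0], [0, 1, 0, 0, 1], [0, 0, 1, 0], [3, 2, 1, 0, 0], [2, 3, 3, 2], [1, 1, 2, 3, 0, 0], [0, 3, 2, 1, 0, 0], [3, 2, 1, 0], [2, 3, 3, 0, 0, 0], [3, 2, 1, 2], [3, 0, 0], [0, 1, 2, 2], [0, 0, 3, 0], [1, 0, 3], [2, 1, 0, 0], [3, 3, 0, 1, 1, 0], [0, 3, 0, 0, 0], [1, 1, 2, 2], [0, 3, 0], [0, 0, 0, 1], [3, 2, 3, 3, 0], [0, 3, 0, 0], [1, 2, 3, 0, 0], [0, 3, 2], [2, 1, 0, 0], [1, 2, 3, 2, 1], [1, 1, 1, 1], [1, 1, 0, 0, 1, 0], [2, 2, 1, 2], [1, 0, 3, 0], [3, 2, 1, 1],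 [0, 0, 1, 1, 0], [0, 0, 0], [1, 0, 0, 0], [1, 2, 2], [3, 3, 0, 1, 0], [2, 3, 2, 2, 1], [3, 0, 0, 1], [3, 0, 0, 1, 2], [3, 0, 0, 1, 0, 0], [2, 2, 2, 1, 1], [3, 2, 2], [2, 2, 1, 1], [1, 0, 0], [3, 3, 3, 0, 3], [3, 3, 0, 0, 3], [3, 0, 0, 1, 0], [2, 3, 0, 1], [0, 0, 0, 0, 1, 0], [0, 3, 3, 2, 2], [1, 2, 2, 1, 1], [1, 2, 1, 1], [3, 3, 0, 1], [0, 3, 3], [2, 3, 2, 3, 2], [1, 0, 1], [3, 3, 2, 3, 0], [0, 3, 3, 0], [2, 1, 1, 2, 1, 1], [1, 0, 1, 0, 0], [2, 3, 0, 1], [2, 2, 1], [3, 2, 1], [1, 0, 1, 0], [1, 2, 2, 2], [2, 1], [1, 0, 3, 3], [0, 0, 3, 3, 2, 2], [3, 2, 3, 0, 0], [3, 0, 3, 2], [3, 3, 0, 1, 2], [0, 1, 0, 1], [0, 3, 2, 1], [3, 2, 3, 0], [2, 3, 2], [2, 1], [2, 2, 1, 2, 1], [0, 1, 2, 2, 2], [2, 2, 2, 3], [3, 3, 2, 2, 1, 0], [1,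 1, 0, 1, 0], [1, 1, 2, 1, 1], [0, 0, 3, 3, 0], [3, 2, 3, 2], [3, 2], [1, 1, 1, 2, 3], [2, 2, 3, 0, 0, 0], [1, 0, 0, 1, 1, 0], [3, 0, 0, 0, 1], [3, 3, 0, 1, 0, 0], [3, 0, 1, 1], [1, 1, 2, 1, 0], [2, 2, 3, 0], [1, 1, 0, 3, 3], [1, 2, 3, 3, 0], [3, 2], [3, 3, 3, 0, 1], [2, 3, 0, 1, 2], [2, 2, 3, 2, 2], [3, 0, 1, 1, 0], [2, 1, 2, 1], [1], [2, 2, 3, 2], [0, 3, 2, 3, 2], [1, 0], [2, 3, 0, 3], [2, 1, 0, 0, 1], [3, 3, 0, 3], [1, 1, 1, 0], [0, 0, 0, 1, 2], [0, 1, 2, 3], [2, 1, 2, 1, 1], [0, 3, 2, 1, 1, 0], [3, 2, 2, 1, 0], [2, 1, 2, 2], [3, 0], [3, 2, 2, 1], [3, 3, 3, 0], [0, 1, 1, 2, 3], [2, 2, 3, 2, 1], [0, 3], [1, 0], [2, 3, 0, 3, 2], [1, 2, 2, 1], [2, 2, 3, 0, 0], [1, 2], [2, 2, 2, 1, 0], [3, 2, 2, 1, 1], [3, 0, 1, 0], [1, 1,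 1], [3, 0, 1, 0, 0], [3, 2, 1, 1, 0], [2, 1, 0, 1], [2, 1, 2, 3], [3, 0, 1, 2], [1, 2, 3, 3, 2], [0, 1, 2, 1], [0, 1, 0, 0], [1, 0, 1, 1, 0], [0, 1, 2, 1, 0], [2, 3, 3], [3, 0, 1, 2, 2], [1, 2], [2, 3, 2, 3, 0], [3, 0, 1], [2, 2, 3], [0, 3, 3, 3, 2], [], [0, 1, 1], [0, 3, 0, 0, 0], [2, 1, 1], [0, 1, 0], [2], [3], [0, 0, 0, 1, 0], [1, 0, 1], [1, 2, 1], [1, 0, 0, 1, 0], [0, 0, 1], [1, 1, 2], [1, 0, 0], [0], [3, 0, 0], [1, 2, 3, 0, 0], [0, 0, 0], [2, 2, 1], [3, 0, 1], [1], [2, 2, 3, 0, 0], [1, 1, 1]]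

end Cfsg.Agent.Lib.Helper26
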