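import Cfsg.Agent.Lib.Helper76.E8m_TLAdefs
import Cfsg.Prelude.Def_ChevE8

/-! # E8m hive (S2107), leaf T-LA, block k = 0 (rows 0-59), part 1: rows 15-29 (helper26) -/

set_option autoImplicit false
set_option maxRecDepth 100000

namespace Cfsg.Agent.Lib.Helper76.E8m

open Cfsg Cfsg.Lie

theorem tla_b0_1_0 : tla_rows chevE8 15 3 = true := by decide +kernel

theorem tla_b0_1_1 : tla_rows chevE8 18 3 = true := by decide +kernel

theorem tla_b0_1_2 : tla_rows chevE8 21 3 = true := by decide +kernel

theorem tla_b0_1_3 : tla_rows chevE8 24 3 = true := by decide +kernel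

theorem tla_b0_1_4 : tla_rows chevE8 27 3 = true := by decide +kernel

theorem tla_b0_part1 : ∀ a, 15 ≤ a → a < 30 → tla_row chevE8 a = true := by
  intro a hlo hhi
  by_cases h0 : a < 18
  · exact tla_rows_spec chevE8 15 3 tla_b0_1_0 a (by omega) (by omega)
  by_cases h1 : a < 21
  · exact tla_rows_spec chevE8 18 3 tla_b0_1_1 a (by omega) (by omega)
  by_cases h2 : a < 24
  · exact tla_rows_spec chevE8 21 3 tla_b0_1_2 a (by omega) (by omega)
  by_cases h3 : a < 27
  · exact tla_rows_spec chevE8 24 3 tla_b0_1_3 a (by omega) (by omega)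
  exact tla_rows_spec chevE8 27 3 tla_b0_1_4 a (by omega) (by omega)

end Cfsg.Agent.Lib.Helper76.E8m
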