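import Cfsg.Agent.Lib.Helper76.E8m_TLAdefs
import Cfsg.Prelude.Def_ChevE8

/-! # E8m hive (S2107), leaf T-LA, block k = 0 (rows 0-59), part 2: rows 30-44 (helper26) -/

set_option autoImplicit false
set_option maxRecDepth 100000

namespace Cfsg.Agent.Lib.Helper76.E8m

open Cfsg Cfsg.Lie

theorem tla_b0_2_0 : tla_rows chevE8 30 3 = true := by decide +kernel

theorem tla_b0_2_1 : tla_rows chevE8 33 3 = true := by decide +kernel

theorem tla_b0_2_2 : tla_rows chevE8 36 3 = true := by decide +kernel

theorem tla_b0_2_3 : tla_rows chevE8 39 3 = true := by decide +kernel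

theorem tla_b0_2_4 : tla_rows chevE8 42 3 = true := by decide +kernel

theorem tla_b0_part2 : ∀ a, 30 ≤ a → a < 45 → tla_row chevE8 a = true := by
  intro a hlo hhi
  by_cases h0 : a < 33
  · exact tla_rows_spec chevE8 30 3 tla_b0_2_0 a (by omega) (by omega)
  by_cases h1 : a < 36
  · exact tla_rows_spec chevE8 33 3 tla_b0_2_1 a (by omega) (by omega)
  by_cases h2 : a < 39
  · exact tla_rows_spec chevE8 36 3 tla_b0_2_2 a (by omega) (by omega)
  by_cases h3 : a < 42
  · exact tla_rows_spec chevE8 39 3 tla_b0_2_3 a (by omega) (by omega)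
  exact tla_rows_spec chevE8 42 3 tla_b0_2_4 a (by omega) (by omega)

end Cfsg.Agent.Lib.Helper76.E8m
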