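import Cfsg.Agent.Lib.Helper26.E8m_TLA_b0p0
import Cfsg.Agent.Lib.Helper26.E8m_TLA_b0p1
import Cfsg.Agent.Lib.Helper26.E8m_TLA_b0p2
import Cfsg.Agent.Lib.Helper26.E8m_TLA_b0p3

/-! # E8m hive (S2107), leaf T-LA, block k = 0: rows 0-59 of `TabLA chevE8` (helper26) -/

set_option autoImplicit false

namespace Cfsg.Agent.Lib.Helper76.E8m

open Cfsg Cfsg.Lie

theorem tla_block0 : ∀ a, 0 ≤ a → a < 60 → tla_row chevE8 a = true := by
  intro a _ h2
  by_cases h0 : a < 15
  · exact tla_b0_part0 a (by omega) h0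
  by_cases h1 : a < 30
  · exact tla_b0_part1 a (by omega) h1
  by_cases h3 : a < 45
  · exact tla_b0_part2 a (by omega) h3
  exact tla_b0_part3 a (by omega) h2

end Cfsg.Agent.Lib.Helper76.E8m
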