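import Mathlib
import Cfsg.Prelude.Def_Sporadic_a

set_option autoImplicit false

namespace Cfsg.Agent.Lib.Helper26

open Cfsg

/-- index of a point: `some x ↦ x.val`, `none ↦ 23`. -/
def idx : GolayPt → ℕ
  | none => 23
  | some x => x.val

/-- the point of index `i`. -/
def pt (i : ℕ) : GolayPt := if i = 23 then none else some ((i : ℕ) : ZMod 23)

theorem idx_lt (p : GolayPt) : idx p < 24 := by
  cases p with
  | none => decide
  | some x =>
    have : x.val < 23 := ZMod.val_lt x
    simp only [idx]
    omega

theorem pt_idx (p : GolayPt) : pt (idx p) = p := by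
  cases p with
  | none => simp [pt, idx]
  | some x =>
    have : x.val < 23 := ZMod.val_lt x
    have h : x.val ≠ 23 := by omega
    simp only [pt, idx, h, if_false]
    congr 1
    exact ZMod.natCast_zmod_val x

theorem idx_pt (i : ℕ) (h : i < 24) : idx (pt i) = i := by
  by_cases h23 : i = 23
  · subst h23
    simp [pt, idx]
  · have : i < 23 := by omega
    simp only [pt, h23, if_false, idx]
    exact ZMod.val_natCast_of_lt this

theorem idx_injective : Function.Injective idx := by
  intro p q h
  rw [← pt_idx p, ← pt_idx q, h]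

theorem sum_golayPt {M : Type*} [AddCommMonoid M] (f : ℕ → M) :
    ∑ p : GolayPt, f (idx p) = ∑ i ∈ Finset.range 24, f i := by
  rw [Fintype.sum_option, Finset.sum_range_succ, add_comm]
  exact congrArg (· + f 23) (Fin.sum_univ_eq_sum_range f 23)

/-- decode a bit mask to a set of points. -/
def dec (m : ℕ) : Finset GolayPt := Finset.univ.filter (fun p => m.testBit (idx p) = true)

theorem mem_dec {m : ℕ} {p : GolayPt} : p ∈ dec m ↔ m.testBit (idx p) = true := by
  simp [dec]

theorem dec_land (m n : ℕ) : dec (m &&& n) = dec m ∩ dec n := by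
  ext p
  simp [mem_dec, Nat.testBit_land]

theorem dec_xor (m n : ℕ) : dec (m ^^^ n) = symmDiff (dec m) (dec n) := by
  ext p
  simp only [mem_dec, Nat.testBit_xor, Finset.mem_symmDiff]
  cases m.testBit (idx p) <;> cases n.testBit (idx p) <;> simp

theorem dec_lor (m n : ℕ) : dec (m ||| n) = dec m ∪ dec n := by
  ext p
  simp [mem_dec, Nat.testBit_lor]

theorem dec_zero : dec 0 = ∅ := by
  ext p
  simp [mem_dec]

/-- little-endian bits to number. -/
def ofBitsL : List Bool → ℕ
  | [] => 0
  | b :: bs => b.toNat + 2 * ofBitsL bs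

theorem testBit_ofBitsL (l : List Bool) (i : ℕ) : (ofBitsL l).testBit i = l.getD i false := by
  induction l generalizing i with
  | nil => simp [ofBitsL]
  | cons b bs ih =>
    cases i with
    | zero =>
      rw [Nat.testBit_zero]
      cases b <;> simp [ofBitsL, Nat.add_mul_mod_self_left]
    | succ i =>
      rw [Nat.testBit_succ]
      have : (ofBitsL (b :: bs)) / 2 = ofBitsL bs := by
        cases b <;> simp [ofBitsL] <;> omega
      rw [this, ih]
      simp

theorem ofBitsL_lt (l : List Bool) : ofBitsL l < 2 ^ l.length := by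
  induction l with
  | nil => simp [ofBitsL]
  | cons b bs ih =>
    have : b.toNat ≤ 1 := by cases b <;> simp
    simp only [ofBitsL, List.length_cons, pow_succ]
    omega

/-- number of one bits among the lowest `k` bits. -/
def pc : ℕ → ℕ → ℕ
  | 0, _ => 0
  | k + 1, m => m % 2 + pc k (m / 2)

theorem pc_eq_sum (k m : ℕ) :
    pc k m = ∑ i ∈ Finset.range k, if m.testBit i = true then 1 else 0 := by
  induction k generalizing m with
  | zero => simp [pc]
  | succ k ih =>
    rw [pc, ih, Finset.sum_range_succ', Nat.testBit_zero]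
    simp only [Nat.testBit_succ]
    have h2 : m % 2 = 0 ∨ m % 2 = 1 := by omega
    rcases h2 with h | h <;> simp [h, add_comm]

theorem card_dec (m : ℕ) : (dec m).card = pc 24 m := by
  rw [pc_eq_sum, dec, Finset.card_filter]
  exact sum_golayPt (fun i => if m.testBit i = true then 1 else 0)

theorem dec_injOn {m n : ℕ} (hm : m < 2 ^ 24) (hn : n < 2 ^ 24) (h : dec m = dec n) : m = n := by
  apply Nat.eq_of_testBit_eq
  intro i
  by_cases hi : i < 24
  · have := Finset.ext_iff.mp h (pt i)
    simp only [mem_dec, idx_pt i hi] at this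
    cases h1 : m.testBit i <;> cases h2 : n.testBit i <;> simp_all
  · have h24 : 24 ≤ i := by omega
    rw [Nat.testBit_lt_two_pow (lt_of_lt_of_le hm (Nat.pow_le_pow_right (by norm_num) h24)),
      Nat.testBit_lt_two_pow (lt_of_lt_of_le hn (Nat.pow_le_pow_right (by norm_num) h24))]

/-- encode a set of points as a bit mask. -/
def enc (s : Finset GolayPt) : ℕ :=
  ofBitsL ((List.range 24).map (fun i => decide (pt i ∈ s)))

theorem enc_lt (s : Finset GolayPt) : enc s < 2 ^ 24 := by
  have := ofBitsL_lt ((List.range 24).map (fun i => decide (pt i ∈ s)))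
  simpa [enc] using this

theorem testBit_enc (s : Finset GolayPt) (i : ℕ) (hi : i < 24) :
    (enc s).testBit i = decide (pt i ∈ s) := by
  rw [enc, testBit_ofBitsL]
  rw [List.getD_eq_getElem _ _ (by simpa using hi)]
  simp

theorem dec_enc (s : Finset GolayPt) : dec (enc s) = s := by
  ext p
  rw [mem_dec, testBit_enc s _ (idx_lt p), pt_idx]
  simp

theorem enc_dec (m : ℕ) (hm : m < 2 ^ 24) : enc (dec m) = m :=
  dec_injOn (enc_lt _) hm (dec_enc _)

end Cfsg.Agent.Lib.Helper26
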