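import Mathlib

set_option autoImplicit false

/-! A subgroup permuting the members of an injective finite family acts on the index set. -/

namespace Cfsg.Agent.Lib.Helper26

section
variable {G X : Type*} [Group G] [MulAction G X] {n : ℕ} (D : Fin n → X)
  (hD : Function.Injective D) (H : Subgroup G) (hH : ∀ g ∈ H, ∀ i, ∃ i', g • D i = D i')

/-- the index of the image. -/
noncomputable def famIdx (g : H) (i : Fin n) : Fin n := Classical.choose (hH g.1 g.2 i)

theorem famIdx_spec (g : H) (i : Fin n) : g.1 • D i = D (famIdx D H hH g i) :=
  Classical.choose_spec (hH g.1 g.2 i)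

include hD in
theorem famIdx_unique (g : H) (i j : Fin n) (h : g.1 • D i = D j) : famIdx D H hH g i = j := by
  apply hD
  rw [← famIdx_spec D H hH g i, h]

/-- the action on indices. -/
@[reducible] noncomputable def famMulAction : MulAction H (Fin n) where
  smul g i := famIdx D H hH g i
  one_smul i := famIdx_unique D hD H hH 1 i i (one_smul _ _)
  mul_smul a b i := by
    apply famIdx_unique D hD H hH
    show (a.1 * b.1) • D i = _
    rw [mul_smul, famIdx_spec D H hH b i, famIdx_spec D H hH a]
    rfl

/-- the permutation representation on indices. -/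
noncomputable def famHom : H →* Equiv.Perm (Fin n) :=
  @MulAction.toPermHom H (Fin n) _ (famMulAction D hD H hH)

theorem famHom_spec (g : H) (i : Fin n) : g.1 • D i = D (famHom D hD H hH g i) :=
  famIdx_spec D H hH g i

include hD in
theorem famHom_eq_one_iff (g : H) : famHom D hD H hH g = 1 ↔ ∀ i, g.1 • D i = D i := by
  constructor
  · intro h i
    rw [famHom_spec D hD H hH g i, h]
    rfl
  · intro h
    apply Equiv.ext
    intro i
    apply hD
    rw [← famHom_spec D hD H hH g i, h i]
    rfl

end

end Cfsg.Agent.Lib.Helper26
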