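import Mathlib

set_option autoImplicit false

/-! The collineation group of the Fano plane, realised on `Fin 7` with the labels `1, …, 7` in
binary, maps into `GL (Fin 3) (ZMod 2)`. -/

namespace Cfsg.Agent.Lib.Helper26.Fano

/-- the space. -/
abbrev V : Type := Fin 3 → ZMod 2

/-- the nonzero vector with label `i + 1` in binary. -/
def ι (i : Fin 7) : V := fun c => (((i.val + 1) / 2 ^ c.val % 2 : ℕ) : ZMod 2)

/-- the number of a vector. -/
def toN (v : V) : ℕ := (v 0).val + 2 * (v 1).val + 4 * (v 2).val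

/-- the index of a nonzero vector. -/
def ιinv (v : V) : Fin 7 := ⟨(toN v + 6) % 7, Nat.mod_lt _ (by norm_num)⟩

theorem ι_ne_zero : ∀ i : Fin 7, ι i ≠ 0 := by decide

theorem ι_ιinv : ∀ v : V, v ≠ 0 → ι (ιinv v) = v := by decide

theorem ιinv_ι : ∀ i : Fin 7, ιinv (ι i) = i := by decide

theorem ι_injective : Function.Injective ι := by
  intro i j h
  rw [← ιinv_ι i, ← ιinv_ι j, h]

theorem add_self : ∀ v : V, v + v = 0 := by decide

theorem eq_add_of_sum_zero : ∀ a b c : V, a + b + c = 0 → c = a + b := by decide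

theorem eq_of_add_eq_zero : ∀ a b : V, a + b = 0 → a = b := by decide

/-- `σ` preserves collinearity. -/
def IsCol (σ : Equiv.Perm (Fin 7)) : Prop :=
  ∀ i j k : Fin 7, ι i + ι j + ι k = 0 ↔ ι (σ i) + ι (σ j) + ι (σ k) = 0

/-- the collineation group. -/
def colGroup : Subgroup (Equiv.Perm (Fin 7)) where
  carrier := {σ | IsCol σ}
  one_mem' := fun _ _ _ => Iff.rfl
  mul_mem' := by
    intro a b ha hb i j k
    rw [hb i j k, ha (b i) (b j) (b k)]
    rfl
  inv_mem' := by
    intro a ha i j k
    have := ha (a⁻¹ i) (a⁻¹ j) (a⁻¹ k)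
    simp only [Equiv.Perm.coe_inv, Equiv.apply_symm_apply] at this
    exact this.symm

/-- the extension of a permutation of the nonzero vectors. -/
def L (σ : Equiv.Perm (Fin 7)) (v : V) : V := if v = 0 then 0 else ι (σ (ιinv v))

theorem L_zero (σ : Equiv.Perm (Fin 7)) : L σ 0 = 0 := by simp [L]

theorem L_of_ne {σ : Equiv.Perm (Fin 7)} {v : V} (hv : v ≠ 0) : L σ v = ι (σ (ιinv v)) := by
  simp [L, hv]

theorem L_ne_zero {σ : Equiv.Perm (Fin 7)} {v : V} (hv : v ≠ 0) : L σ v ≠ 0 := by
  rw [L_of_ne hv]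
  exact ι_ne_zero _

theorem L_ι (σ : Equiv.Perm (Fin 7)) (i : Fin 7) : L σ (ι i) = ι (σ i) := by
  rw [L_of_ne (ι_ne_zero i), ιinv_ι]

theorem L_one (v : V) : L 1 v = v := by
  by_cases hv : v = 0
  · rw [hv, L_zero]
  · rw [L_of_ne hv, Equiv.Perm.one_apply, ι_ιinv v hv]

theorem L_mul (σ τ : Equiv.Perm (Fin 7)) (v : V) : L (σ * τ) v = L σ (L τ v) := by
  by_cases hv : v = 0
  · rw [hv, L_zero, L_zero, L_zero]
  · rw [L_of_ne hv, L_of_ne hv, L_ι, Equiv.Perm.mul_apply]

theorem L_add {σ : Equiv.Perm (Fin 7)} (hσ : IsCol σ) (v w : V) : L σ (v + w) = L σ v + L σ w := by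
  by_cases hv : v = 0
  · rw [hv, zero_add, L_zero, zero_add]
  by_cases hw : w = 0
  · rw [hw, add_zero, L_zero, add_zero]
  by_cases hvw : v + w = 0
  · have : v = w := eq_of_add_eq_zero v w hvw
    rw [hvw, L_zero, this, add_self]
  · rw [L_of_ne hv, L_of_ne hw, L_of_ne hvw]
    apply eq_add_of_sum_zero
    rw [← hσ, ι_ιinv v hv, ι_ιinv w hw, ι_ιinv _ hvw, add_self]

/-- the linear automorphism of a collineation. -/
def linOf (σ : colGroup) : V ≃ₗ[ZMod 2] V where
  toFun := L σ.1
  invFun := L (σ⁻¹ : colGroup).1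
  map_add' := L_add σ.2
  map_smul' := by
    intro c v
    have hc : c = 0 ∨ c = 1 := by
      revert c
      decide
    rcases hc with rfl | rfl
    · simp [L_zero]
    · simp
  left_inv := by
    intro v
    rw [← L_mul]
    have : (σ⁻¹ : colGroup).1 * σ.1 = 1 := by
      rw [← Subgroup.coe_mul, inv_mul_cancel]
      rfl
    rw [this, L_one]
  right_inv := by
    intro v
    rw [← L_mul]
    have : σ.1 * (σ⁻¹ : colGroup).1 = 1 := by
      rw [← Subgroup.coe_mul, mul_inv_cancel]
      rfl
    rw [this, L_one]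

/-- collineations as linear automorphisms. -/
def linHom : colGroup →* (V ≃ₗ[ZMod 2] V) where
  toFun := linOf
  map_one' := by
    apply LinearEquiv.ext
    intro v
    exact L_one v
  map_mul' := by
    intro a b
    apply LinearEquiv.ext
    intro v
    exact L_mul a.1 b.1 v

theorem linHom_injective : Function.Injective linHom := by
  rw [injective_iff_map_eq_one]
  intro σ hσ
  apply Subtype.ext
  apply Equiv.ext
  intro i
  have := LinearEquiv.congr_fun hσ (ι i)
  have h2 : L σ.1 (ι i) = ι i := this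
  rw [L_ι] at h2
  exact ι_injective h2

/-- linear automorphisms against matrices. -/
noncomputable def glEquiv : (V ≃ₗ[ZMod 2] V) ≃* GL (Fin 3) (ZMod 2) :=
  (LinearMap.GeneralLinearGroup.generalLinearEquiv (ZMod 2) V).symm.trans
    Matrix.GeneralLinearGroup.toLin.symm

/-- collineations as matrices. -/
noncomputable def glHom : colGroup →* GL (Fin 3) (ZMod 2) :=
  glEquiv.toMonoidHom.comp linHom

theorem glHom_injective : Function.Injective glHom := by
  intro a b h
  exact linHom_injective (glEquiv.injective h)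

theorem card_GL : Nat.card (GL (Fin 3) (ZMod 2)) = 168 := by
  rw [Matrix.card_GL_field]
  simp [Fin.prod_univ_three]

end Cfsg.Agent.Lib.Helper26.Fano
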