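import Cfsg.Agent.Lib.Helper26.McLData
import Cfsg.Agent.Lib.Conway.Trans6
import Cfsg.Agent.S1578

/-! The McLaughlin configuration for the standard pair `u0 = (5, 1^23)`, `v0 = (4, 4, 0^22)`:
the 275 vectors and the transitivity of the stabiliser of `u0`, `v0` on them. -/

set_option autoImplicit false

namespace Cfsg.Agent.Lib.Helper26.McL

open Cfsg Cfsg.Agent.Lib.Helper93.Leech Cfsg.Agent.Lib.Helper93.Golay
open Cfsg.Agent.Lib.Golay.LeechBasis Cfsg.Agent.Lib.Conway
open Cfsg.Agent.Lib.Helper26.CoTab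

/-- the standard vector of sum of squares 48 -/
abbrev U0 : leechLattice := L5
/-- the standard minimal vector -/
abbrev V0 : leechLattice := Cfsg.Spor.leechU

set_option maxRecDepth 100000 in
theorem u0L_eq : ∀ p, vecOfList u0L p = (U0 : Vec) p := by decide +kernel

set_option maxRecDepth 100000 in
theorem v0L_eq : ∀ p, vecOfList v0L p = (V0 : Vec) p := by decide +kernel

theorem U0_coe : (U0 : Vec) = vecOfList u0L := (funext u0L_eq).symm
theorem V0_coe : (V0 : Vec) = vecOfList v0L := (funext v0L_eq).symm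

theorem u0L_length : u0L.length = 24 := by decide
theorem v0L_length : v0L.length = 24 := by decide

set_option maxRecDepth 100000 in
theorem U0_norm : sqNorm (U0 : Vec) = 48 := by
  rw [U0_coe, sqNorm_vecOfList _ u0L_length]; decide +kernel

set_option maxRecDepth 100000 in
theorem V0_norm : sqNorm (V0 : Vec) = 32 := by
  rw [V0_coe, sqNorm_vecOfList _ v0L_length]; decide +kernel

/-! ### the 552 companions of `u0` -/

set_option maxRecDepth 100000 in
theorem Y552_props : ∀ l ∈ Y552, l.length = 24 ∧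
    LeechCond (vecOfList l) (vecOfList l (ptOf 0)) ∧ dotL l l = 32 ∧ dotL u0L l = 24 := by
  decide +kernel

set_option maxRecDepth 100000 in
theorem Y552c_chain : Y552c.IsChain (· < ·) := by decide +kernel

set_option maxRecDepth 100000 in
theorem Y552c_enc : ∀ c ∈ Y552c, encV (decV c) = c := by decide +kernel

theorem Y552_nodup : Y552.Nodup := nodup_map_decV Y552c (nodup_of_chain _ Y552c_chain) Y552c_enc

theorem Y552_length : Y552.length = 552 := by decide +kernel

theorem Y552_mem (l : List ℤ) (hl : l ∈ Y552) : vecOfList l ∈ leechLattice :=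
  mem_of_leechCond (Y552_props l hl).2.1

/-- the minimal vectors `x` with `u0 - x` minimal -/
theorem Yset_eq : {w : Vec | w ∈ leechLattice ∧ sqNorm w = 32 ∧ dotInt (U0 : Vec) w = 24} =
    listSet Y552 := by
  apply eq_listSet
  · intro l hl
    obtain ⟨h1, h2, h3, h4⟩ := Y552_props l hl
    refine ⟨mem_of_leechCond h2, ?_, ?_⟩
    · rw [sqNorm_vecOfList l h1, h3]
    · rw [U0_coe, dotInt_vecOfList _ _ u0L_length, h4]
  · rw [Y552_length]; exact Cfsg.Agent.S1578.census
  · exact fun l hl => (Y552_props l hl).1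
  · exact Y552_nodup
  · rw [Y552_length]; norm_num

/-! ### the 275 vectors -/

/-- the companions having scalar product 16 with `v0` -/
def XF : List (List ℤ) := Y552.filter (fun l => dotL v0L l = 16)

set_option maxRecDepth 100000 in
theorem XF_length : XF.length = 275 := by decide +kernel

theorem XF_sub (l : List ℤ) (hl : l ∈ XF) : l ∈ Y552 ∧ dotL v0L l = 16 := by
  have := List.mem_filter.mp hl
  exact ⟨this.1, by simpa using this.2⟩

theorem XF_nodup : XF.Nodup := Y552_nodup.filter _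

theorem XF_len (l : List ℤ) (hl : l ∈ XF) : l.length = 24 := (Y552_props l (XF_sub l hl).1).1

theorem XF_mem (l : List ℤ) (hl : l ∈ XF) : vecOfList l ∈ leechLattice :=
  Y552_mem l (XF_sub l hl).1

theorem sqNorm_sub (x y : Vec) : sqNorm (x - y) = sqNorm x - 2 * dotInt x y + sqNorm y := by
  unfold sqNorm dotInt
  rw [Finset.mul_sum, ← Finset.sum_sub_distrib, ← Finset.sum_add_distrib]
  apply Finset.sum_congr rfl
  intro i _
  simp only [Pi.sub_apply]
  ring

/-- the set of the McLaughlin configuration of the standard pair -/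
def X0 : Set leechLattice :=
  {x | sqNorm (x : Vec) = 32 ∧ sqNorm ((U0 : Vec) - (x : Vec)) = 32 ∧ dotInt (V0 : Vec) (x : Vec) = 16}

theorem mem_X0_iff (x : leechLattice) : x ∈ X0 ↔ (x : Vec) ∈ listSet XF := by
  constructor
  · rintro ⟨h1, h2, h3⟩
    have hd : dotInt (U0 : Vec) (x : Vec) = 24 := by
      rw [sqNorm_sub, U0_norm, h1] at h2
      omega
    have hY : (x : Vec) ∈ {w : Vec | w ∈ leechLattice ∧ sqNorm w = 32 ∧ dotInt (U0 : Vec) w = 24} :=
      ⟨x.2, h1, hd⟩
    rw [Yset_eq] at hY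
    obtain ⟨l, hl, hlx⟩ := hY
    refine ⟨l, List.mem_filter.mpr ⟨hl, ?_⟩, hlx⟩
    rw [decide_eq_true_iff, ← dotInt_vecOfList _ _ v0L_length, ← V0_coe, hlx]
    exact h3
  · rintro ⟨l, hl, hlx⟩
    obtain ⟨hlY, hd⟩ := XF_sub l hl
    obtain ⟨h1, h2, h3, h4⟩ := Y552_props l hlY
    have hn : sqNorm (x : Vec) = 32 := by rw [← hlx, sqNorm_vecOfList l h1, h3]
    refine ⟨hn, ?_, ?_⟩
    · rw [sqNorm_sub, U0_norm, hn, ← hlx, U0_coe, dotInt_vecOfList _ _ u0L_length, h4]
      norm_num
    · rw [← hlx, V0_coe, dotInt_vecOfList _ _ v0L_length, hd]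

theorem X0_eq : X0 = {x : leechLattice | (x : Vec) ∈ listSet XF} := by
  ext x; exact mem_X0_iff x

theorem ncard_X0 : X0.ncard = 275 := by
  rw [X0_eq, ncard_subtype_listSet XF XF_mem XF_len XF_nodup, XF_length]

/-! ### transitivity -/

set_option maxRecDepth 100000 in
theorem g1_ok : g1.ok := by decide +kernel
set_option maxRecDepth 100000 in
theorem g2_ok : g2.ok := by decide +kernel

set_option maxRecDepth 100000 in
theorem gens_fix : applyC g1.Tt u0L = u0L ∧ applyC g1.Tt v0L = v0L ∧
    applyC g2.Tt u0L = u0L ∧ applyC g2.Tt v0L = v0L := by decide +kernel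

set_option maxRecDepth 100000 in
theorem tree_ok : edgesOK [g1.Tt, g2.Tt] XB 1 edges275 = true := by decide +kernel

/-- the stabiliser of the standard pair -/
def H0 : Subgroup Co0 := MulAction.stabilizer Co0 U0 ⊓ MulAction.stabilizer Co0 V0

theorem mem_H0_of_fix (d : GenData) (h : d.ok) (hu : applyC d.Tt u0L = u0L)
    (hv : applyC d.Tt v0L = v0L) : d.aut h ∈ H0 := by
  have hU : U0 = ⟨vecOfList u0L, by rw [← U0_coe]; exact U0.2⟩ := Subtype.ext U0_coe
  have hV : V0 = ⟨vecOfList v0L, by rw [← V0_coe]; exact V0.2⟩ := Subtype.ext V0_coe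
  refine Subgroup.mem_inf.mpr ⟨?_, ?_⟩
  · rw [MulAction.mem_stabilizer_iff]
    apply Subtype.ext
    conv_lhs => rw [hU]
    rw [GenData.aut_smul_list d h u0L u0L_length, hu, U0_coe]
  · rw [MulAction.mem_stabilizer_iff]
    apply Subtype.ext
    conv_lhs => rw [hV]
    rw [GenData.aut_smul_list d h v0L v0L_length, hv, V0_coe]

theorem gens_spec : ∀ Tt ∈ [g1.Tt, g2.Tt], ∃ g ∈ H0, ∀ (x : List ℤ) (_ : x.length = 24)
    (hm : vecOfList x ∈ leechLattice),
    ((g • (⟨vecOfList x, hm⟩ : leechLattice) : leechLattice) : Vec) = vecOfList (applyC Tt x) := by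
  intro Tt hTt
  simp only [List.mem_cons, List.not_mem_nil, or_false] at hTt
  rcases hTt with rfl | rfl
  · exact ⟨g1.aut g1_ok, mem_H0_of_fix g1 g1_ok gens_fix.1 gens_fix.2.1,
      fun x hx hm => GenData.aut_smul_list g1 g1_ok x hx hm⟩
  · exact ⟨g2.aut g2_ok, mem_H0_of_fix g2 g2_ok gens_fix.2.2.1 gens_fix.2.2.2,
      fun x hx hm => GenData.aut_smul_list g2 g2_ok x hx hm⟩

theorem edges_length : edges275.length + 1 = XB.length := by decide +kernel

set_option maxRecDepth 100000 in
theorem XBc_nodup : XBc.Nodup := by decide +kernel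

set_option maxRecDepth 100000 in
theorem XBc_enc : ∀ c ∈ XBc, encV (decV c) = c := by decide +kernel

theorem XB_nodup : XB.Nodup := nodup_map_decV XBc XBc_nodup XBc_enc

theorem XB_length : XB.length = 275 := by decide +kernel

theorem XB_len (l : List ℤ) (hl : l ∈ XB) : l.length = 24 := by
  obtain ⟨c, _, rfl⟩ := List.mem_map.mp hl
  exact decV_length c

set_option maxRecDepth 100000 in
theorem XB_root : XB.getD 0 [] ∈ XF := by decide +kernel

theorem XB_root_mem : vecOfList (XB.getD 0 []) ∈ leechLattice := XF_mem _ XB_root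

/-- the first vector of the tree -/
def R0 : leechLattice := ⟨vecOfList (XB.getD 0 []), XB_root_mem⟩

theorem R0_mem : R0 ∈ X0 := (mem_X0_iff R0).mpr ⟨_, XB_root, rfl⟩

/-- the configuration is invariant under the stabiliser -/
theorem smul_mem_X0 (g : Co0) (hg : g ∈ H0) (x : leechLattice) (hx : x ∈ X0) : g • x ∈ X0 := by
  obtain ⟨h1, h2, h3⟩ := hx
  have hgU : g • U0 = U0 := MulAction.mem_stabilizer_iff.mp hg.1
  have hgV : g • V0 = V0 := MulAction.mem_stabilizer_iff.mp hg.2
  refine ⟨by rw [co0_norm]; exact h1, ?_, ?_⟩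
  · have e : (U0 : Vec) - ((g • x : leechLattice) : Vec) = ((g • (U0 - x) : leechLattice) : Vec) := by
      have : g • (U0 - x) = g • U0 - g • x := (co0Hom g).map_sub U0 x
      rw [this, hgU]; rfl
    rw [e, co0_norm]
    exact h2
  · have := Cfsg.Agent.Lib.Helper26.LeechDot.co0_dot g V0 x
    rw [hgV] at this
    rw [this]; exact h3

/-- the vectors of the tree are exactly the configuration -/
theorem listSet_XB : listSet XB = listSet XF := by
  apply Set.eq_of_subset_of_ncard_le
  · rintro w ⟨l, hl, rfl⟩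
    obtain ⟨i, hi, rfl⟩ := List.mem_iff_getElem.mp hl
    obtain ⟨hm, g, hg, hgr⟩ := tree_reach H0 [g1.Tt, g2.Tt] XB edges275 gens_spec XB_len
      edges_length XB_root_mem tree_ok i hi
    have h := smul_mem_X0 g hg R0 R0_mem
    have h' := (mem_X0_iff _).mp h
    have e : ((g • R0 : leechLattice) : Vec) = vecOfList XB[i] := by
      show ((g • (⟨vecOfList (XB.getD 0 []), XB_root_mem⟩ : leechLattice) : leechLattice) : Vec) = _
      rw [hgr]
      show vecOfList (XB.getD i []) = vecOfList XB[i]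
      rw [List.getD_eq_getElem _ _ hi]
    rw [← e]; exact h'
  · rw [ncard_listSet XB XB_len XB_nodup, ncard_listSet XF XF_len XF_nodup, XB_length, XF_length]
  · rw [listSet_eq]; exact Finset.finite_toSet _

/-- every vector of the configuration is the image of the first one under the stabiliser -/
theorem reach_X0 (x : leechLattice) (hx : x ∈ X0) : ∃ g ∈ H0, g • R0 = x := by
  have hx' := (mem_X0_iff x).mp hx
  rw [← listSet_XB] at hx'
  obtain ⟨l, hl, hlx⟩ := hx'
  obtain ⟨i, hi, rfl⟩ := List.mem_iff_getElem.mp hl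
  obtain ⟨hm, g, hg, hgr⟩ := tree_reach H0 [g1.Tt, g2.Tt] XB edges275 gens_spec XB_len edges_length
    XB_root_mem tree_ok i hi
  refine ⟨g, hg, ?_⟩
  show g • (⟨vecOfList (XB.getD 0 []), XB_root_mem⟩ : leechLattice) = x
  rw [hgr]
  apply Subtype.ext
  rw [← hlx]
  show vecOfList (XB.getD i []) = vecOfList XB[i]
  rw [List.getD_eq_getElem _ _ hi]

theorem trans_X0 (x x' : leechLattice) (hx : x ∈ X0) (hx' : x' ∈ X0) :
    ∃ g : Co0, g • U0 = U0 ∧ g • V0 = V0 ∧ g • x = x' := by
  obtain ⟨g, hg, hgx⟩ := reach_X0 x hx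
  obtain ⟨g', hg', hgx'⟩ := reach_X0 x' hx'
  have h := H0.mul_mem hg' (H0.inv_mem hg)
  refine ⟨g' * g⁻¹, MulAction.mem_stabilizer_iff.mp h.1, MulAction.mem_stabilizer_iff.mp h.2, ?_⟩
  rw [mul_smul, ← hgx, inv_smul_smul, hgx']

end Cfsg.Agent.Lib.Helper26.McL
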