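import Cfsg.Agent.Lib.Helper26.HSData
import Cfsg.Agent.Lib.Helper26.CoOrbit
import Cfsg.Agent.Lib.Helper26.McL275
import Cfsg.Agent.Lib.Conway.HSMain

/-! The Higman-Sims configuration of the standard pair `VH = (5, 1^23)`, `WH = -(1, 5, 1^22)`:
the 100 vectors, the transitivity of the stabiliser of the pair on them, the rank 3 property at
`XH = (4, 4, 0^22)`, and an involution of the stabiliser without fixed vectors among the 100. -/

set_option autoImplicit false

namespace Cfsg.Agent.Lib.Helper26.HSD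

open Cfsg Cfsg.Agent.Lib.Helper93.Leech Cfsg.Agent.Lib.Helper93.Golay
open Cfsg.Agent.Lib.Golay.LeechBasis Cfsg.Agent.Lib.Conway
open Cfsg.Agent.Lib.Conway.HS (VH WH XH vh wh xh Om G2 mem_G2 smul_mem_Om H83 H84 facts)
open Cfsg.Agent.Lib.Helper26.CoTab

set_option maxRecDepth 100000 in
theorem vhL_eq : ∀ p, vecOfList vhL p = vh p := by decide +kernel
set_option maxRecDepth 100000 in
theorem whL_eq : ∀ p, vecOfList whL p = wh p := by decide +kernel
set_option maxRecDepth 100000 in
theorem xhL_eq : ∀ p, vecOfList xhL p = xh p := by decide +kernel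

theorem VH_coe : (VH : Vec) = vecOfList vhL := (funext vhL_eq).symm
theorem WH_coe : (WH : Vec) = vecOfList whL := (funext whL_eq).symm
theorem XH_coe : (XH : Vec) = vecOfList xhL := (funext xhL_eq).symm

theorem vhL_length : vhL.length = 24 := by decide
theorem whL_length : whL.length = 24 := by decide
theorem xhL_length : xhL.length = 24 := by decide

theorem VH_eq : VH = ⟨vecOfList vhL, by rw [← VH_coe]; exact VH.2⟩ := Subtype.ext VH_coe
theorem WH_eq : WH = ⟨vecOfList whL, by rw [← WH_coe]; exact WH.2⟩ := Subtype.ext WH_coe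
theorem XH_eq : XH = ⟨vecOfList xhL, by rw [← XH_coe]; exact XH.2⟩ := Subtype.ext XH_coe

/-! ### the 552 companions of `VH` -/

theorem census_VH :
    {w : Vec | w ∈ leechLattice ∧ sqNorm w = 32 ∧ dotInt (VH : Vec) w = 24}.ncard = 552 := by
  obtain ⟨g, hg⟩ := trans6 L5 VH Cfsg.Agent.Lib.Helper26.McL.U0_norm facts.1
  rw [← hg, Cfsg.Agent.Lib.Helper26.LeechDot.ncard_dot_congr]
  exact Cfsg.Agent.S1578.census

set_option maxRecDepth 100000 in
theorem Y552_props : ∀ l ∈ Y552, l.length = 24 ∧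
    LeechCond (vecOfList l) (vecOfList l (ptOf 0)) ∧ dotL l l = 32 ∧ dotL vhL l = 24 := by
  decide +kernel

set_option maxRecDepth 100000 in
theorem Y552c_chain : Y552c.IsChain (· < ·) := by decide +kernel

set_option maxRecDepth 100000 in
theorem Y552c_enc : ∀ c ∈ Y552c, encV (decV c) = c := by decide +kernel

theorem Y552_nodup : Y552.Nodup := nodup_map_decV Y552c (nodup_of_chain _ Y552c_chain) Y552c_enc

theorem Y552_length : Y552.length = 552 := by decide +kernel

theorem Y552_mem (l : List ℤ) (hl : l ∈ Y552) : vecOfList l ∈ leechLattice :=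
  mem_of_leechCond (Y552_props l hl).2.1

/-- the minimal vectors having scalar product 24 with `VH` -/
theorem Yset_eq : {w : Vec | w ∈ leechLattice ∧ sqNorm w = 32 ∧ dotInt (VH : Vec) w = 24} =
    listSet Y552 := by
  apply eq_listSet
  · intro l hl
    obtain ⟨h1, h2, h3, h4⟩ := Y552_props l hl
    refine ⟨mem_of_leechCond h2, ?_, ?_⟩
    · rw [sqNorm_vecOfList l h1, h3]
    · rw [VH_coe, dotInt_vecOfList _ _ vhL_length, h4]
  · rw [Y552_length]; exact census_VH
  · exact fun l hl => (Y552_props l hl).1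
  · exact Y552_nodup
  · rw [Y552_length]; norm_num

/-! ### the 100 vectors -/

/-- the companions having scalar product `-24` with `WH` -/
def XF : List (List ℤ) := Y552.filter (fun l => dotL whL l = -24)

set_option maxRecDepth 100000 in
theorem XF_length : XF.length = 100 := by decide +kernel

theorem XF_sub (l : List ℤ) (hl : l ∈ XF) : l ∈ Y552 ∧ dotL whL l = -24 := by
  have := List.mem_filter.mp hl
  exact ⟨this.1, by simpa using this.2⟩

theorem XF_nodup : XF.Nodup := Y552_nodup.filter _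

theorem XF_len (l : List ℤ) (hl : l ∈ XF) : l.length = 24 := (Y552_props l (XF_sub l hl).1).1

theorem XF_mem (l : List ℤ) (hl : l ∈ XF) : vecOfList l ∈ leechLattice :=
  Y552_mem l (XF_sub l hl).1

theorem mem_Om_iff (x : leechLattice) : x ∈ Om VH WH ↔ (x : Vec) ∈ listSet XF := by
  constructor
  · rintro ⟨h1, h2, h3⟩
    have hY : (x : Vec) ∈ {w : Vec | w ∈ leechLattice ∧ sqNorm w = 32 ∧ dotInt (VH : Vec) w = 24} :=
      ⟨x.2, h1, h2⟩
    rw [Yset_eq] at hY
    obtain ⟨l, hl, hlx⟩ := hY
    refine ⟨l, List.mem_filter.mpr ⟨hl, ?_⟩, hlx⟩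
    rw [decide_eq_true_iff, ← dotInt_vecOfList _ _ whL_length, ← WH_coe, hlx]
    exact h3
  · rintro ⟨l, hl, hlx⟩
    obtain ⟨hlY, hd⟩ := XF_sub l hl
    obtain ⟨h1, h2, h3, h4⟩ := Y552_props l hlY
    refine ⟨?_, ?_, ?_⟩
    · rw [← hlx, sqNorm_vecOfList l h1, h3]
    · rw [← hlx, VH_coe, dotInt_vecOfList _ _ vhL_length, h4]
    · rw [← hlx, WH_coe, dotInt_vecOfList _ _ whL_length, hd]

theorem Om_eq : Om VH WH = {x : leechLattice | (x : Vec) ∈ listSet XF} := by
  ext x; exact mem_Om_iff x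

theorem ncard_Om : (Om VH WH).ncard = 100 := by
  rw [Om_eq, ncard_subtype_listSet XF XF_mem XF_len XF_nodup, XF_length]

/-! ### transitivity -/

set_option maxRecDepth 100000 in
theorem h1_ok : h1.ok := by decide +kernel
set_option maxRecDepth 100000 in
theorem h2_ok : h2.ok := by decide +kernel

set_option maxRecDepth 100000 in
theorem gens_fix : applyC h1.Tt vhL = vhL ∧ applyC h1.Tt whL = whL ∧
    applyC h2.Tt vhL = vhL ∧ applyC h2.Tt whL = whL := by decide +kernel

set_option maxRecDepth 100000 in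
theorem tree_ok : edgesOK [h1.Tt, h2.Tt] XB 1 edges100 = true := by decide +kernel

theorem fix_of_applyC (d : GenData) (h : d.ok) (l : List ℤ) (hl : l.length = 24) (v : leechLattice)
    (hv : (v : Vec) = vecOfList l) (hf : applyC d.Tt l = l) : d.aut h • v = v := by
  have hm : vecOfList l ∈ leechLattice := by rw [← hv]; exact v.2
  have e : v = ⟨vecOfList l, hm⟩ := Subtype.ext hv
  apply Subtype.ext
  conv_lhs => rw [e]
  rw [GenData.aut_smul_list d h l hl, hf, hv]

theorem mem_G2_of_fix (d : GenData) (h : d.ok) (hu : applyC d.Tt vhL = vhL)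
    (hv : applyC d.Tt whL = whL) : d.aut h ∈ G2 VH WH :=
  mem_G2.mpr ⟨fix_of_applyC d h vhL vhL_length VH VH_coe hu,
    fix_of_applyC d h whL whL_length WH WH_coe hv⟩

theorem gens_spec : ∀ Tt ∈ [h1.Tt, h2.Tt], ∃ g ∈ G2 VH WH, ∀ (x : List ℤ) (_ : x.length = 24)
    (hm : vecOfList x ∈ leechLattice),
    ((g • (⟨vecOfList x, hm⟩ : leechLattice) : leechLattice) : Vec) = vecOfList (applyC Tt x) := by
  intro Tt hTt
  simp only [List.mem_cons, List.not_mem_nil, or_false] at hTt
  rcases hTt with rfl | rfl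
  · exact ⟨h1.aut h1_ok, mem_G2_of_fix h1 h1_ok gens_fix.1 gens_fix.2.1,
      fun x hx hm => GenData.aut_smul_list h1 h1_ok x hx hm⟩
  · exact ⟨h2.aut h2_ok, mem_G2_of_fix h2 h2_ok gens_fix.2.2.1 gens_fix.2.2.2,
      fun x hx hm => GenData.aut_smul_list h2 h2_ok x hx hm⟩

theorem edges_length : edges100.length + 1 = XB.length := by decide +kernel

set_option maxRecDepth 100000 in
theorem XBc_nodup : XBc.Nodup := by decide +kernel

set_option maxRecDepth 100000 in
theorem XBc_enc : ∀ c ∈ XBc, encV (decV c) = c := by decide +kernel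

theorem XB_nodup : XB.Nodup := nodup_map_decV XBc XBc_nodup XBc_enc

theorem XB_length : XB.length = 100 := by decide +kernel

theorem XB_len (l : List ℤ) (hl : l ∈ XB) : l.length = 24 := by
  obtain ⟨c, _, rfl⟩ := List.mem_map.mp hl
  exact decV_length c

set_option maxRecDepth 100000 in
theorem XB_root : XB.getD 0 [] = xhL := by decide +kernel

theorem XB_root_mem : vecOfList (XB.getD 0 []) ∈ leechLattice := by
  rw [XB_root, ← XH_coe]; exact XH.2

theorem root_eq : (⟨vecOfList (XB.getD 0 []), XB_root_mem⟩ : leechLattice) = XH := by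
  apply Subtype.ext
  show vecOfList (XB.getD 0 []) = _
  rw [XB_root, XH_coe]

theorem reach_Om : ∀ x ∈ Om VH WH, ∃ g ∈ G2 VH WH, g • XH = x := by
  have := tree_orbit (G2 VH WH) [h1.Tt, h2.Tt] XB edges100 gens_spec XB_len edges_length XB_root_mem
    tree_ok XB_nodup (Om VH WH) (fun g hg x hx => smul_mem_Om hg hx)
    (by rw [root_eq]; exact HS.XH_mem) XF (fun x hx => (mem_Om_iff x).mp hx) XF_len XF_nodup
    (by rw [XF_length, XB_length])
  rw [root_eq] at this
  exact this

/-- the statement S1583 at the standard pair -/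
theorem h83 : H83 := by
  refine ⟨ncard_Om, ?_⟩
  intro x hx x' hx'
  obtain ⟨g, hg, hgx⟩ := reach_Om x hx
  obtain ⟨g', hg', hgx'⟩ := reach_Om x' hx'
  have h := (G2 VH WH).mul_mem hg' ((G2 VH WH).inv_mem hg)
  refine ⟨g' * g⁻¹, (mem_G2.mp h).1, (mem_G2.mp h).2, ?_⟩
  rw [mul_smul, ← hgx, inv_smul_smul, hgx']

end Cfsg.Agent.Lib.Helper26.HSD
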