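import Cfsg.Agent.Lib.Helper26.HSRank3

/-! The Higman-Sims configuration of an arbitrary pair, from the configuration of the standard pair and
the transitivity of the stabiliser of a vector of sum of squares 48 on the minimal vectors having scalar
product `-16` with it (taken as a hypothesis). -/

set_option autoImplicit false

namespace Cfsg.Agent.Lib.Helper26.HSD

open Cfsg Cfsg.Agent.Lib.Helper93.Leech Cfsg.Agent.Lib.Helper93.Golay
open Cfsg.Agent.Lib.Golay.LeechBasis Cfsg.Agent.Lib.Conway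
open Cfsg.Agent.Lib.Conway.HS (VH WH XH vh wh xh Om G2 mem_G2 smul_mem_Om H83 H84 facts)
open Cfsg.Agent.Lib.Helper26.CoTab

/-- the transitivity of the stabiliser of a vector of sum of squares 48 on the minimal vectors having
scalar product `-16` with it -/
def H40 : Prop := ∀ u : leechLattice, sqNorm (u : Vec) = 48 →
  ∀ x ∈ {x : leechLattice | sqNorm (x : Vec) = 32 ∧ dotInt (u : Vec) (x : Vec) = -16},
  ∀ x' ∈ {x : leechLattice | sqNorm (x : Vec) = 32 ∧ dotInt (u : Vec) (x : Vec) = -16},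
  ∃ g : Co0, g • u = u ∧ g • x = x'

theorem mem_Om_smul (h : Co0) (v w x : leechLattice) : h • x ∈ Om (h • v) (h • w) ↔ x ∈ Om v w := by
  show (_ ∧ _ ∧ _) ↔ (_ ∧ _ ∧ _)
  rw [co0_norm, co0_dot, co0_dot]

theorem ncard_of_smul (h : Co0) (S T : Set leechLattice) (hST : ∀ y, h • y ∈ T ↔ y ∈ S) :
    T.ncard = S.ncard := by
  have : T = (fun y => h • y) '' S := by
    ext y
    constructor
    · intro hy
      exact ⟨h⁻¹ • y, (hST _).mp (by rw [smul_inv_smul]; exact hy), smul_inv_smul h y⟩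
    · rintro ⟨z, hz, rfl⟩
      exact (hST z).mpr hz
  rw [this, Set.ncard_image_of_injective _ (MulAction.injective h)]

theorem exists_std (h40 : H40) (v w : leechLattice) (hv : sqNorm (v : Vec) = 48)
    (hw : sqNorm (w : Vec) = 48) (hvw : dotInt (v : Vec) (w : Vec) = -32) :
    ∃ h : Co0, h • VH = v ∧ h • WH = w := by
  obtain ⟨g, h1, h2⟩ := HS.pair_trans h40 v w hv hw hvw
  exact ⟨g⁻¹, by rw [← h1, inv_smul_smul], by rw [← h2, inv_smul_smul]⟩

theorem mem_Om_inv (h : Co0) (x : leechLattice) (hx : x ∈ Om (h • VH) (h • WH)) :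
    h⁻¹ • x ∈ Om VH WH := by
  rw [← mem_Om_smul h, smul_inv_smul]; exact hx

theorem exists_std3 (h40 : H40) (v w x : leechLattice) (hv : sqNorm (v : Vec) = 48)
    (hw : sqNorm (w : Vec) = 48) (hvw : dotInt (v : Vec) (w : Vec) = -32) (hx : x ∈ Om v w) :
    ∃ h : Co0, h • VH = v ∧ h • WH = w ∧ h • XH = x := by
  obtain ⟨h, rfl, rfl⟩ := exists_std h40 v w hv hw hvw
  obtain ⟨g, hgV, hgW, hgx⟩ := h83.2 XH HS.XH_mem (h⁻¹ • x) (mem_Om_inv h x hx)
  refine ⟨h * g, ?_, ?_, ?_⟩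
  · rw [mul_smul, hgV]
  · rw [mul_smul, hgW]
  · rw [mul_smul, hgx, smul_inv_smul]

/-- the statement S1583 -/
theorem s1583 (h40 : H40) (v w : leechLattice) (hv : sqNorm (v : Vec) = 48)
    (hw : sqNorm (w : Vec) = 48) (hvw : dotInt (v : Vec) (w : Vec) = -32) :
    (Om v w).ncard = 100 ∧ ∀ x ∈ Om v w, ∀ x' ∈ Om v w,
      ∃ g : Co0, g • v = v ∧ g • w = w ∧ g • x = x' := by
  obtain ⟨h, rfl, rfl⟩ := exists_std h40 v w hv hw hvw
  refine ⟨?_, ?_⟩
  · rw [ncard_of_smul h (Om VH WH) _ (fun y => mem_Om_smul h VH WH y)]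
    exact h83.1
  · intro x hx x' hx'
    obtain ⟨g, hgV, hgW, hgx⟩ := h83.2 _ (mem_Om_inv h x hx) _ (mem_Om_inv h x' hx')
    refine ⟨h * g * h⁻¹, ?_, ?_, ?_⟩
    · rw [mul_smul, mul_smul, inv_smul_smul, hgV]
    · rw [mul_smul, mul_smul, inv_smul_smul, hgW]
    · rw [mul_smul, mul_smul, hgx, smul_inv_smul]

/-- the statement S1584 -/
theorem s1584 (h40 : H40) (v w x : leechLattice) (hv : sqNorm (v : Vec) = 48)
    (hw : sqNorm (w : Vec) = 48) (hvw : dotInt (v : Vec) (w : Vec) = -32) (hx : x ∈ Om v w) :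
    {y : leechLattice | y ∈ Om v w ∧ dotInt (x : Vec) (y : Vec) = 8}.ncard = 22 ∧
    {y : leechLattice | y ∈ Om v w ∧ y ≠ x ∧ dotInt (x : Vec) (y : Vec) ≠ 8}.ncard = 77 ∧
    ∀ y ∈ Om v w, ∀ y' ∈ Om v w, y ≠ x → y' ≠ x →
      (dotInt (x : Vec) (y : Vec) = 8 ↔ dotInt (x : Vec) (y' : Vec) = 8) →
      ∃ g : Co0, g • v = v ∧ g • w = w ∧ g • x = x ∧ g • y = y' := by
  obtain ⟨h, rfl, rfl, rfl⟩ := exists_std3 h40 v w x hv hw hvw hx
  have hdot : ∀ y : leechLattice, dotInt (XH : Vec) ((h⁻¹ • y : leechLattice) : Vec) =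
      dotInt ((h • XH : leechLattice) : Vec) (y : Vec) := by
    intro y
    have := co0_dot h XH (h⁻¹ • y)
    rw [smul_inv_smul] at this
    exact this.symm
  refine ⟨?_, ?_, ?_⟩
  · rw [ncard_of_smul h SetA _ (fun y => ?_)]
    · exact h84.1
    · show (h • y ∈ Om (h • VH) (h • WH) ∧ dotInt _ _ = 8) ↔ (y ∈ Om VH WH ∧ dotInt _ _ = 8)
      rw [mem_Om_smul, co0_dot]
  · rw [ncard_of_smul h SetB _ (fun y => ?_)]
    · exact h84.2.1
    · show (h • y ∈ Om (h • VH) (h • WH) ∧ h • y ≠ h • XH ∧ dotInt _ _ ≠ 8) ↔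
        (y ∈ Om VH WH ∧ y ≠ XH ∧ dotInt _ _ ≠ 8)
      rw [mem_Om_smul, co0_dot, (MulAction.injective h).ne_iff]
  · intro y hy y' hy' hne hne' hiff
    have hzne : h⁻¹ • y ≠ XH := fun hcon => hne (by rw [← hcon, smul_inv_smul])
    have hzne' : h⁻¹ • y' ≠ XH := fun hcon => hne' (by rw [← hcon, smul_inv_smul])
    obtain ⟨g, hgV, hgW, hgX, hgy⟩ := h84.2.2 _ (mem_Om_inv h y hy) _ (mem_Om_inv h y' hy') hzne hzne'
      (by rw [hdot, hdot]; exact hiff)
    refine ⟨h * g * h⁻¹, ?_, ?_, ?_, ?_⟩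
    · rw [mul_smul, mul_smul, inv_smul_smul, hgV]
    · rw [mul_smul, mul_smul, inv_smul_smul, hgW]
    · rw [mul_smul, mul_smul, inv_smul_smul, hgX]
    · rw [mul_smul, mul_smul, hgy, smul_inv_smul]

/-- the statement S1642 -/
theorem s1642 (h40 : H40) (v w : leechLattice) (hv : sqNorm (v : Vec) = 48)
    (hw : sqNorm (w : Vec) = 48) (hvw : dotInt (v : Vec) (w : Vec) = -32) :
    ∃ g : Co0, g • v = v ∧ g • w = w ∧ orderOf g = 2 ∧ ∀ x ∈ Om v w, g • x ≠ x := by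
  obtain ⟨h, rfl, rfl⟩ := exists_std h40 v w hv hw hvw
  obtain ⟨t, htV, htW, hord, hmove⟩ := invol_std
  refine ⟨h * t * h⁻¹, ?_, ?_, ?_, ?_⟩
  · rw [mul_smul, mul_smul, inv_smul_smul, htV]
  · rw [mul_smul, mul_smul, inv_smul_smul, htW]
  · rw [← hord, ← MulAut.conj_apply]
    exact (MulAut.conj h).orderOf_eq t
  · intro x hx hcon
    apply hmove _ (mem_Om_inv h x hx)
    rw [mul_smul, mul_smul] at hcon
    have := congrArg (fun z => h⁻¹ • z) hcon
    simp only [inv_smul_smul] at this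
    exact this

end Cfsg.Agent.Lib.Helper26.HSD
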