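import Cfsg.Agent.Lib.Helper26.HSGen
import Cfsg.Agent.S1640
import Cfsg.Prelude.Def_Spor_Conway

/-! The Higman-Sims group of the prelude (the automorphisms of the Leech lattice fixing `(-5, -1^23)` and
`(4, -4, 0^22)`) is isomorphic to the joint stabiliser of the standard pair `VH`, `WH`. -/

set_option autoImplicit false

namespace Cfsg.Agent.Lib.Helper26.HSD

open Cfsg Cfsg.Agent.Lib.Helper93.Leech Cfsg.Agent.Lib.Helper93.Golay
open Cfsg.Agent.Lib.Golay.LeechBasis Cfsg.Agent.Lib.Conway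
open Cfsg.Agent.Lib.Conway.HS (VH WH XH Om G2 mem_G2)

/-- the second vector of the pair attached to the vectors of the prelude -/
def Wp : leechLattice := -(Spor.leechV + Spor.leechU')

set_option maxRecDepth 100000 in
theorem prelude_facts : sqNorm Spor.vecV = 48 ∧ sqNorm (-(Spor.vecV + Spor.vecU')) = 48 ∧
    dotInt Spor.vecV (-(Spor.vecV + Spor.vecU')) = -32 := by
  unfold sqNorm dotInt; decide +kernel

theorem h40 : H40 := fun u hu => (Cfsg.Agent.S1640.result u hu).2

theorem mem_SporHS (f : Equiv.Perm leechLattice) :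
    f ∈ Spor.HS ↔ f ∈ Co0 ∧ f Spor.leechV = Spor.leechV ∧ f Spor.leechU' = Spor.leechU' := by
  unfold Spor.HS Spor.Co3
  simp only [Subgroup.mem_inf, MulAction.mem_stabilizer_iff, Equiv.Perm.smul_def, and_assoc]

/-- the group of the prelude as a joint stabiliser -/
def equivG2p : Spor.HS ≃* G2 Spor.leechV Wp where
  toFun f := ⟨⟨f.1, ((mem_SporHS f.1).mp f.2).1⟩, mem_G2.mpr (by
    obtain ⟨h0, h1, h2⟩ := (mem_SporHS f.1).mp f.2
    have e1 : (⟨f.1, h0⟩ : Co0) • Spor.leechV = Spor.leechV := h1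
    have e2 : (⟨f.1, h0⟩ : Co0) • Spor.leechU' = Spor.leechU' := h2
    refine ⟨e1, ?_⟩
    unfold Wp
    rw [co0_neg, co0_add, e1, e2])⟩
  invFun g := ⟨(g.1 : Equiv.Perm leechLattice), (mem_SporHS _).mpr (by
    obtain ⟨h1, h2⟩ := mem_G2.mp g.2
    refine ⟨g.1.2, h1, ?_⟩
    have e : Spor.leechU' = -Wp - Spor.leechV := by unfold Wp; abel
    show g.1 • Spor.leechU' = Spor.leechU'
    have h3 : g.1 • (-Wp - Spor.leechV) = -Wp - Spor.leechV := by
      rw [sub_eq_add_neg, co0_add, co0_neg, co0_neg, h1, h2, ← sub_eq_add_neg]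
    rw [e]; exact h3)⟩
  left_inv f := rfl
  right_inv g := rfl
  map_mul' f g := rfl

/-- the Higman-Sims group of the prelude is isomorphic to the joint stabiliser of the standard pair -/
theorem nonempty_equiv_std : Nonempty (Spor.HS ≃* G2 VH WH) := by
  obtain ⟨g, h1, h2⟩ := HS.pair_trans h40 Spor.leechV Wp prelude_facts.1 prelude_facts.2.1
    prelude_facts.2.2
  exact ⟨equivG2p.trans (HS.conjEquiv g h1 h2)⟩

end Cfsg.Agent.Lib.Helper26.HSD
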