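import Cfsg.Agent.Lib.Helper26.HS100

/-! The rank 3 property of the Higman-Sims configuration of the standard pair at `XH = (4, 4, 0^22)`,
and an involution of the stabiliser of the pair without fixed vectors among the 100. -/

set_option autoImplicit false

namespace Cfsg.Agent.Lib.Helper26.HSD

open Cfsg Cfsg.Agent.Lib.Helper93.Leech Cfsg.Agent.Lib.Helper93.Golay
open Cfsg.Agent.Lib.Golay.LeechBasis Cfsg.Agent.Lib.Conway
open Cfsg.Agent.Lib.Conway.HS (VH WH XH vh wh xh Om G2 mem_G2 smul_mem_Om H83 H84 facts)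
open Cfsg.Agent.Lib.Helper26.CoTab

/-- the stabiliser of the standard triple -/
def K3 : Subgroup Co0 := G2 VH WH ⊓ MulAction.stabilizer Co0 XH

theorem mem_K3 {g : Co0} : g ∈ K3 ↔ g • VH = VH ∧ g • WH = WH ∧ g • XH = XH := by
  unfold K3
  rw [Subgroup.mem_inf, mem_G2, MulAction.mem_stabilizer_iff, and_assoc]

set_option maxRecDepth 100000 in
theorem m1_ok : m1.ok := by decide +kernel
set_option maxRecDepth 100000 in
theorem m2_ok : m2.ok := by decide +kernel

set_option maxRecDepth 100000 in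
theorem mgens_fix : (applyC m1.Tt vhL = vhL ∧ applyC m1.Tt whL = whL ∧ applyC m1.Tt xhL = xhL) ∧
    (applyC m2.Tt vhL = vhL ∧ applyC m2.Tt whL = whL ∧ applyC m2.Tt xhL = xhL) := by decide +kernel

theorem mem_K3_of_fix (d : GenData) (h : d.ok) (hu : applyC d.Tt vhL = vhL)
    (hv : applyC d.Tt whL = whL) (hx : applyC d.Tt xhL = xhL) : d.aut h ∈ K3 :=
  mem_K3.mpr ⟨fix_of_applyC d h vhL vhL_length VH VH_coe hu,
    fix_of_applyC d h whL whL_length WH WH_coe hv, fix_of_applyC d h xhL xhL_length XH XH_coe hx⟩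

theorem mgens_spec : ∀ Tt ∈ [m1.Tt, m2.Tt], ∃ g ∈ K3, ∀ (x : List ℤ) (_ : x.length = 24)
    (hm : vecOfList x ∈ leechLattice),
    ((g • (⟨vecOfList x, hm⟩ : leechLattice) : leechLattice) : Vec) = vecOfList (applyC Tt x) := by
  intro Tt hTt
  simp only [List.mem_cons, List.not_mem_nil, or_false] at hTt
  rcases hTt with rfl | rfl
  · exact ⟨m1.aut m1_ok, mem_K3_of_fix m1 m1_ok mgens_fix.1.1 mgens_fix.1.2.1 mgens_fix.1.2.2,
      fun x hx hm => GenData.aut_smul_list m1 m1_ok x hx hm⟩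
  · exact ⟨m2.aut m2_ok, mem_K3_of_fix m2 m2_ok mgens_fix.2.1 mgens_fix.2.2.1 mgens_fix.2.2.2,
      fun x hx hm => GenData.aut_smul_list m2 m2_ok x hx hm⟩

/-! ### the two suborbits -/

/-- the vectors having scalar product 8 with `XH` -/
def SetA : Set leechLattice := {y | y ∈ Om VH WH ∧ dotInt (XH : Vec) (y : Vec) = 8}
/-- the other vectors -/
def SetB : Set leechLattice := {y | y ∈ Om VH WH ∧ y ≠ XH ∧ dotInt (XH : Vec) (y : Vec) ≠ 8}

/-- the list of the vectors of `SetA` -/
def DA : List (List ℤ) := XF.filter (fun l => dotL xhL l = 8)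
/-- the list of the vectors of `SetB` -/
def DB : List (List ℤ) := XF.filter (fun l => l ≠ xhL ∧ dotL xhL l ≠ 8)

theorem DA_sub (l : List ℤ) (hl : l ∈ DA) : l ∈ XF ∧ dotL xhL l = 8 := by
  have := List.mem_filter.mp hl
  exact ⟨this.1, by simpa using this.2⟩

theorem DB_sub (l : List ℤ) (hl : l ∈ DB) : l ∈ XF ∧ l ≠ xhL ∧ dotL xhL l ≠ 8 := by
  have := List.mem_filter.mp hl
  exact ⟨this.1, by simpa using this.2⟩

theorem DA_nodup : DA.Nodup := XF_nodup.filter _
theorem DB_nodup : DB.Nodup := XF_nodup.filter _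
theorem DA_len (l : List ℤ) (hl : l ∈ DA) : l.length = 24 := XF_len l (DA_sub l hl).1
theorem DB_len (l : List ℤ) (hl : l ∈ DB) : l.length = 24 := XF_len l (DB_sub l hl).1
theorem DA_mem (l : List ℤ) (hl : l ∈ DA) : vecOfList l ∈ leechLattice := XF_mem l (DA_sub l hl).1
theorem DB_mem (l : List ℤ) (hl : l ∈ DB) : vecOfList l ∈ leechLattice := XF_mem l (DB_sub l hl).1

theorem mem_SetA_iff (y : leechLattice) : y ∈ SetA ↔ (y : Vec) ∈ listSet DA := by
  constructor
  · rintro ⟨h1, h3⟩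
    obtain ⟨l, hl, hly⟩ := (mem_Om_iff y).mp h1
    refine ⟨l, List.mem_filter.mpr ⟨hl, ?_⟩, hly⟩
    rw [decide_eq_true_iff, ← dotInt_vecOfList _ _ xhL_length, ← XH_coe, hly]
    exact h3
  · rintro ⟨l, hl, hly⟩
    obtain ⟨h1, h3⟩ := DA_sub l hl
    refine ⟨(mem_Om_iff y).mpr ⟨l, h1, hly⟩, ?_⟩
    rw [← hly, XH_coe, dotInt_vecOfList _ _ xhL_length, h3]

theorem mem_SetB_iff (y : leechLattice) : y ∈ SetB ↔ (y : Vec) ∈ listSet DB := by
  constructor
  · rintro ⟨h1, h2, h3⟩
    obtain ⟨l, hl, hly⟩ := (mem_Om_iff y).mp h1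
    refine ⟨l, List.mem_filter.mpr ⟨hl, ?_⟩, hly⟩
    rw [decide_eq_true_iff]
    constructor
    · intro hcon
      apply h2
      apply Subtype.ext
      rw [← hly, hcon, XH_coe]
    · rw [← dotInt_vecOfList _ _ xhL_length, ← XH_coe, hly]
      exact h3
  · rintro ⟨l, hl, hly⟩
    obtain ⟨h1, h2, h3⟩ := DB_sub l hl
    refine ⟨(mem_Om_iff y).mpr ⟨l, h1, hly⟩, ?_, ?_⟩
    · intro hcon
      apply h2
      have : vecOfList l = vecOfList xhL := by rw [hly, hcon, XH_coe]
      exact vecOfList_injOn (XF_len l h1) xhL_length this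
    · rw [← hly, XH_coe, dotInt_vecOfList _ _ xhL_length]
      exact h3

theorem ncard_SetA : SetA.ncard = DA.length := by
  have : SetA = {x : leechLattice | (x : Vec) ∈ listSet DA} := by
    ext y; exact mem_SetA_iff y
  rw [this, ncard_subtype_listSet DA DA_mem DA_len DA_nodup]

theorem ncard_SetB : SetB.ncard = DB.length := by
  have : SetB = {x : leechLattice | (x : Vec) ∈ listSet DB} := by
    ext y; exact mem_SetB_iff y
  rw [this, ncard_subtype_listSet DB DB_mem DB_len DB_nodup]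

set_option maxRecDepth 100000 in
theorem DA_length : DA.length = 22 := by decide +kernel

set_option maxRecDepth 100000 in
theorem DB_length : DB.length = 77 := by decide +kernel

theorem dot_smul_XH (g : Co0) (hg : g ∈ K3) (y : leechLattice) :
    dotInt (XH : Vec) ((g • y : leechLattice) : Vec) = dotInt (XH : Vec) (y : Vec) := by
  have := Cfsg.Agent.Lib.Helper26.LeechDot.co0_dot g XH y
  rw [(mem_K3.mp hg).2.2] at this
  exact this

theorem smul_mem_SetA (g : Co0) (hg : g ∈ K3) (y : leechLattice) (hy : y ∈ SetA) : g • y ∈ SetA := by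
  obtain ⟨h1, h3⟩ := hy
  exact ⟨smul_mem_Om hg.1 h1, by rw [dot_smul_XH g hg]; exact h3⟩

theorem smul_mem_SetB (g : Co0) (hg : g ∈ K3) (y : leechLattice) (hy : y ∈ SetB) : g • y ∈ SetB := by
  obtain ⟨h1, h2, h3⟩ := hy
  refine ⟨smul_mem_Om hg.1 h1, ?_, by rw [dot_smul_XH g hg]; exact h3⟩
  intro hcon
  apply h2
  rw [← (mem_K3.mp hg).2.2] at hcon
  exact MulAction.injective g hcon

/-! ### the trees -/

set_option maxRecDepth 100000 in
theorem treeA_ok : edgesOK [m1.Tt, m2.Tt] AB 1 edgesA = true := by decide +kernel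

set_option maxRecDepth 100000 in
theorem treeB_ok : edgesOK [m1.Tt, m2.Tt] BB 1 edgesB = true := by decide +kernel

set_option maxRecDepth 100000 in
theorem ABc_nodup : ABc.Nodup := by decide +kernel
set_option maxRecDepth 100000 in
theorem ABc_enc : ∀ c ∈ ABc, encV (decV c) = c := by decide +kernel
set_option maxRecDepth 100000 in
theorem BBc_nodup : BBc.Nodup := by decide +kernel
set_option maxRecDepth 100000 in
theorem BBc_enc : ∀ c ∈ BBc, encV (decV c) = c := by decide +kernel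

theorem AB_nodup : AB.Nodup := nodup_map_decV ABc ABc_nodup ABc_enc
theorem BB_nodup : BB.Nodup := nodup_map_decV BBc BBc_nodup BBc_enc

theorem AB_len (l : List ℤ) (hl : l ∈ AB) : l.length = 24 := by
  obtain ⟨c, _, rfl⟩ := List.mem_map.mp hl
  exact decV_length c

theorem BB_len (l : List ℤ) (hl : l ∈ BB) : l.length = 24 := by
  obtain ⟨c, _, rfl⟩ := List.mem_map.mp hl
  exact decV_length c

theorem AB_length : AB.length = 22 := by decide +kernel
theorem BB_length : BB.length = 77 := by decide +kernel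
theorem edgesA_length : edgesA.length + 1 = AB.length := by decide +kernel
theorem edgesB_length : edgesB.length + 1 = BB.length := by decide +kernel

set_option maxRecDepth 100000 in
theorem AB_root : AB.getD 0 [] ∈ DA := by decide +kernel
set_option maxRecDepth 100000 in
theorem BB_root : BB.getD 0 [] ∈ DB := by decide +kernel

theorem AB_root_mem : vecOfList (AB.getD 0 []) ∈ leechLattice := DA_mem _ AB_root
theorem BB_root_mem : vecOfList (BB.getD 0 []) ∈ leechLattice := DB_mem _ BB_root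

theorem reach_SetA : ∀ y ∈ SetA, ∃ g ∈ K3,
    g • (⟨vecOfList (AB.getD 0 []), AB_root_mem⟩ : leechLattice) = y :=
  tree_orbit K3 [m1.Tt, m2.Tt] AB edgesA mgens_spec AB_len edgesA_length AB_root_mem treeA_ok AB_nodup
    SetA smul_mem_SetA ((mem_SetA_iff _).mpr ⟨_, AB_root, rfl⟩) DA
    (fun x hx => (mem_SetA_iff x).mp hx) DA_len DA_nodup (by rw [DA_length, AB_length])

theorem reach_SetB : ∀ y ∈ SetB, ∃ g ∈ K3,
    g • (⟨vecOfList (BB.getD 0 []), BB_root_mem⟩ : leechLattice) = y :=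
  tree_orbit K3 [m1.Tt, m2.Tt] BB edgesB mgens_spec BB_len edgesB_length BB_root_mem treeB_ok BB_nodup
    SetB smul_mem_SetB ((mem_SetB_iff _).mpr ⟨_, BB_root, rfl⟩) DB
    (fun x hx => (mem_SetB_iff x).mp hx) DB_len DB_nodup (by rw [DB_length, BB_length])

/-- the statement S1584 at the standard triple -/
theorem h84 : H84 := by
  refine ⟨?_, ?_, ?_⟩
  · show SetA.ncard = 22
    rw [ncard_SetA, DA_length]
  · show SetB.ncard = 77
    rw [ncard_SetB, DB_length]
  · intro y hy y' hy' hne hne' hiff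
    have key : ∀ g ∈ K3, ∀ g' ∈ K3, ∀ r : leechLattice, g • r = y → g' • r = y' →
        ∃ k : Co0, k • VH = VH ∧ k • WH = WH ∧ k • XH = XH ∧ k • y = y' := by
      intro g hg g' hg' r hgr hgr'
      have h := mem_K3.mp (K3.mul_mem hg' (K3.inv_mem hg))
      refine ⟨g' * g⁻¹, h.1, h.2.1, h.2.2, ?_⟩
      rw [mul_smul, ← hgr, inv_smul_smul, hgr']
    by_cases h8 : dotInt (XH : Vec) (y : Vec) = 8
    · obtain ⟨g, hg, hgr⟩ := reach_SetA y ⟨hy, h8⟩
      obtain ⟨g', hg', hgr'⟩ := reach_SetA y' ⟨hy', hiff.mp h8⟩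
      exact key g hg g' hg' _ hgr hgr'
    · obtain ⟨g, hg, hgr⟩ := reach_SetB y ⟨hy, hne, h8⟩
      obtain ⟨g', hg', hgr'⟩ := reach_SetB y' ⟨hy', hne', fun h => h8 (hiff.mpr h)⟩
      exact key g hg g' hg' _ hgr hgr'

/-! ### an involution without fixed vectors -/

set_option maxRecDepth 100000 in
theorem tI_ok : tI.ok := by decide +kernel

set_option maxRecDepth 100000 in
theorem tI_fix : applyC tI.Tt vhL = vhL ∧ applyC tI.Tt whL = whL := by decide +kernel

set_option maxRecDepth 100000 in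
theorem tI_move : ∀ l ∈ XF, (applyC tI.Tt l).length = 24 ∧ applyC tI.Tt l ≠ l := by decide +kernel

set_option maxRecDepth 100000 in
theorem tI_symm : tI.Tt' = tI.Tt := by decide +kernel

theorem aut_inv_smul (d : GenData) (h : d.ok) (v : leechLattice) :
    (((d.aut h)⁻¹ • v : leechLattice) : Vec) = lin (colVec d.Tt') v := rfl

theorem aut_sq_of_symm (d : GenData) (h : d.ok) (hs : d.Tt' = d.Tt) : d.aut h * d.aut h = 1 := by
  have e : (d.aut h)⁻¹ = d.aut h := by
    apply Subtype.ext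
    apply Equiv.ext
    intro v
    apply Subtype.ext
    show (((d.aut h)⁻¹ • v : leechLattice) : Vec) = ((d.aut h • v : leechLattice) : Vec)
    rw [aut_inv_smul, GenData.aut_smul, hs]
  have := inv_mul_cancel (d.aut h)
  rwa [e] at this

/-- the statement S1642 at the standard pair -/
theorem invol_std : ∃ g : Co0, g • VH = VH ∧ g • WH = WH ∧ orderOf g = 2 ∧
    ∀ x ∈ Om VH WH, g • x ≠ x := by
  have hmove : ∀ x ∈ Om VH WH, tI.aut tI_ok • x ≠ x := by
    intro x hx hcon
    obtain ⟨l, hl, hlx⟩ := (mem_Om_iff x).mp hx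
    have hm : vecOfList l ∈ leechLattice := by rw [hlx]; exact x.2
    have e : x = ⟨vecOfList l, hm⟩ := Subtype.ext hlx.symm
    have h1 := GenData.aut_smul_list tI tI_ok l (XF_len l hl) hm
    rw [← e, hcon, ← hlx] at h1
    exact (tI_move l hl).2 (vecOfList_injOn (XF_len l hl) (tI_move l hl).1 h1).symm
  have hG := mem_G2.mp (mem_G2_of_fix tI tI_ok tI_fix.1 tI_fix.2)
  refine ⟨tI.aut tI_ok, hG.1, hG.2, ?_, hmove⟩
  apply orderOf_eq_prime
  · rw [pow_two]; exact aut_sq_of_symm tI tI_ok tI_symm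
  · intro hcon
    apply hmove XH HS.XH_mem
    rw [hcon, one_smul]

end Cfsg.Agent.Lib.Helper26.HSD
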