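import Cfsg.Agent.Lib.Golay.LeechCount

/-! Counting the vectors of the Leech lattice of a given sum of squares (at most 35) with a given
inner product against a vector `(α, β^23)`, by fibring over (parity, code word) and big-number
generating functions with an exponent depending on the coordinate. -/

set_option autoImplicit false

namespace Cfsg.Agent.Lib.Helper26.LeechDot

open Cfsg Cfsg.Agent.Lib.Golay Cfsg.Agent.Lib.Golay.LeechCount Cfsg.Agent.Lib.Helper93.Leech

/-- counting lemma with an exponent depending on the coordinate -/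
theorem card_filter_piFinset' {ι : Type*} [Fintype ι] [DecidableEq ι] (S : ι → Finset ℤ)
    (e : ι → ℤ → ℕ) (Y : ℕ) (hY : (Fintype.piFinset S).card < Y) (k : ℕ) :
    ((Fintype.piFinset S).filter (fun x => ∑ i, e i (x i) = k)).card =
      (∏ i, ∑ v ∈ S i, Y ^ e i v) / Y ^ k % Y := by
  have h : ∏ i, ∑ v ∈ S i, Y ^ e i v = ∑ x ∈ Fintype.piFinset S, Y ^ (∑ i, e i (x i)) := by
    rw [Finset.prod_univ_sum]
    apply Finset.sum_congr rfl
    intro x _
    rw [Finset.prod_pow_eq_pow_sum]
  rw [h, GenFun.digit_sum _ _ _ hY]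

/-- the coordinate values of a vector of sum of squares at most 35 -/
noncomputable abbrev K5 : Finset ℤ := Finset.Icc (-5) 5

theorem K5_sub : K5 ⊆ Finset.Icc (-8) 8 := Finset.Icc_subset_Icc (by norm_num) (by norm_num)

theorem coord_mem_K5 {x : GolayPt → ℤ} {N' : ℤ} (hN : N' ≤ 35) (hx : sqNorm x = N') (i : GolayPt) :
    x i ∈ K5 := by
  have h1 : x i ^ 2 ≤ sqNorm x := by
    unfold sqNorm
    exact Finset.single_le_sum (f := fun j => x j ^ 2) (fun j _ => sq_nonneg (x j)) (Finset.mem_univ i)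
  have h2 : x i ^ 2 ≤ 35 := by rw [hx] at h1; exact le_trans h1 hN
  rw [Finset.mem_Icc]
  constructor <;> nlinarith

/-- the vector `(α, β^23)` -/
def zv (α β : ℤ) : GolayPt → ℤ := fun p => if p = none then α else β

theorem dot_zv (α β : ℤ) (x : GolayPt → ℤ) :
    dotInt (zv α β) x = β * ∑ i, x i + (α - β) * x none := by
  unfold dotInt zv
  have h : ∀ i : GolayPt, (if i = none then α else β) * x i =
      β * x i + (if i = none then (α - β) * x i else 0) := by
    intro i; split_ifs <;> ring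
  rw [Finset.sum_congr rfl (fun i _ => h i), Finset.sum_add_distrib, ← Finset.mul_sum,
    Finset.sum_ite_eq' Finset.univ none]
  simp

/-- the offset -/
def Zc (α β : ℤ) : ℤ := 5 * (|α| + 23 * |β|)

theorem sum_abs_zv (α β : ℤ) : ∑ i, |zv α β i| = |α| + 23 * |β| := by
  unfold zv
  have h : ∀ i : GolayPt, |if i = none then α else β| =
      |β| + (if i = none then |α| - |β| else 0) := by
    intro i; split_ifs <;> ring
  rw [Finset.sum_congr rfl (fun i _ => h i), Finset.sum_add_distrib,
    Finset.sum_ite_eq' Finset.univ none, Finset.sum_const, Finset.card_univ, card_golayPt]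
  simp
  ring

/-- exponent weight of the value `v` at a coordinate where the fixed vector has the value `ζ` -/
def ed (ζ v : ℤ) : ℕ := (400 * v ^ 2 + (ζ * v + 5 * |ζ|)).toNat

theorem lin_bounds {ζ v : ℤ} (h1 : -5 ≤ v) (h2 : v ≤ 5) :
    0 ≤ ζ * v + 5 * |ζ| ∧ ζ * v + 5 * |ζ| ≤ 10 * |ζ| := by
  rcases le_total 0 ζ with h | h
  · rw [abs_of_nonneg h]; constructor <;> nlinarith
  · rw [abs_of_nonpos h]; constructor <;> nlinarith

theorem ed_cast {ζ v : ℤ} (h1 : -5 ≤ v) (h2 : v ≤ 5) :
    ((ed ζ v : ℕ) : ℤ) = 400 * v ^ 2 + (ζ * v + 5 * |ζ|) := by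
  unfold ed
  have := (lin_bounds (ζ := ζ) h1 h2).1
  rw [Int.toNat_of_nonneg (by positivity)]

theorem box5_bounds {m : ℤ} {c : Finset GolayPt} {x : GolayPt → ℤ} (hx : x ∈ box K5 m c)
    (i : GolayPt) : -5 ≤ x i ∧ x i ≤ 5 := by
  have := (mem_box.1 hx i).1
  simpa using this

theorem box5_E (α β : ℤ) {m : ℤ} {c : Finset GolayPt} {x : GolayPt → ℤ} (hx : x ∈ box K5 m c) :
    (((∑ i, ed (zv α β i) (x i) : ℕ)) : ℤ) = 400 * sqNorm x + (dotInt (zv α β) x + Zc α β) ∧
      0 ≤ dotInt (zv α β) x + Zc α β ∧ dotInt (zv α β) x + Zc α β ≤ 2 * Zc α β := by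
  have hb := box5_bounds hx
  have hlin : dotInt (zv α β) x + Zc α β = ∑ i, (zv α β i * x i + 5 * |zv α β i|) := by
    rw [Finset.sum_add_distrib, ← Finset.mul_sum, sum_abs_zv]
    rfl
  refine ⟨?_, ?_, ?_⟩
  · push_cast
    rw [Finset.sum_congr rfl (fun i _ => ed_cast (hb i).1 (hb i).2), hlin]
    unfold sqNorm
    rw [Finset.sum_add_distrib, ← Finset.mul_sum]
  · rw [hlin]
    exact Finset.sum_nonneg fun i _ => (lin_bounds (hb i).1 (hb i).2).1
  · rw [hlin]
    have : ∑ i, (zv α β i * x i + 5 * |zv α β i|) ≤ ∑ i, 10 * |zv α β i| :=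
      Finset.sum_le_sum fun i _ => (lin_bounds (hb i).1 (hb i).2).2
    rw [← Finset.mul_sum, sum_abs_zv] at this
    unfold Zc
    linarith

/-- the fibre with a prescribed inner product against `(α, β^23)` -/
theorem card_fib_dot (α β : ℤ) (hZ : 2 * Zc α β < 400) (N' : ℕ) (d : ℤ) (m : ℤ) (c : Finset GolayPt)
    (hd0 : 0 ≤ d + Zc α β) (hd1 : d + Zc α β < 400)
    (hsum : ∀ x ∈ box K5 m c, dotInt (zv α β) x = d → (∑ i, x i) % 8 = (4 * m) % 8) :
    ((fib K5 N' m c).filter (fun x => dotInt (zv α β) x = d)).card =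
      ((box K5 m c).filter
        (fun x => ∑ i, ed (zv α β i) (x i) = 400 * N' + (d + Zc α β).toNat)).card := by
  apply congrArg Finset.card
  ext x
  simp only [fib, Finset.mem_filter]
  constructor
  · rintro ⟨⟨hb, hN, -⟩, hdot⟩
    refine ⟨hb, ?_⟩
    obtain ⟨h1, h2, h3⟩ := box5_E α β hb
    have : (((400 * N' + (d + Zc α β).toNat : ℕ)) : ℤ) = 400 * N' + (d + Zc α β) := by
      push_cast
      rw [Int.toNat_of_nonneg hd0]
    apply Int.ofNat_injective
    show ((∑ i, ed (zv α β i) (x i) : ℕ) : ℤ) = ((400 * N' + (d + Zc α β).toNat : ℕ) : ℤ)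
    rw [h1, this, hN, hdot]
  · rintro ⟨hb, hE⟩
    obtain ⟨h1, h2, h3⟩ := box5_E α β hb
    have : (((400 * N' + (d + Zc α β).toNat : ℕ)) : ℤ) = 400 * N' + (d + Zc α β) := by
      push_cast
      rw [Int.toNat_of_nonneg hd0]
    rw [hE, this] at h1
    have hN : sqNorm x = N' := by omega
    have hdot : dotInt (zv α β) x = d := by omega
    exact ⟨⟨hb, hN, hsum x hb hdot⟩, hdot⟩

/-! ### the generating product of a fibre -/

/-- generating number of the values `≡ r mod 4` at a coordinate where the fixed vector is `ζ` -/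
noncomputable def gz (ζ r : ℤ) : ℕ := ∑ v ∈ VK K5 r, Y ^ ed ζ v

theorem card_erase_none : (Finset.univ.erase (none : GolayPt)).card = 23 := by
  rw [Finset.card_erase_of_mem (Finset.mem_univ _), Finset.card_univ, card_golayPt]

theorem prod_gen (α β m : ℤ) (c : Finset GolayPt) :
    ∏ i, ∑ v ∈ VK K5 (if i ∈ c then m + 2 else m), Y ^ ed (zv α β i) v =
      (if none ∈ c then gz α (m + 2) else gz α m) *
        (gz β (m + 2) ^ (c.erase none).card * gz β m ^ (23 - (c.erase none).card)) := by
  rw [← Finset.mul_prod_erase Finset.univ _ (Finset.mem_univ (none : GolayPt))]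
  have hA : ∑ v ∈ VK K5 (if none ∈ c then m + 2 else m), Y ^ ed (zv α β none) v =
      (if none ∈ c then gz α (m + 2) else gz α m) := by
    have : zv α β none = α := if_pos rfl
    rw [this]
    unfold gz
    by_cases hc : none ∈ c
    · rw [if_pos hc, if_pos hc]
    · rw [if_neg hc, if_neg hc]
  have h : ∀ i ∈ Finset.univ.erase (none : GolayPt),
      ∑ v ∈ VK K5 (if i ∈ c then m + 2 else m), Y ^ ed (zv α β i) v =
        if i ∈ c then gz β (m + 2) else gz β m := by
    intro i hi
    have hne : i ≠ none := Finset.ne_of_mem_erase hi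
    have : zv α β i = β := if_neg hne
    rw [this]
    unfold gz
    by_cases hc : i ∈ c
    · rw [if_pos hc, if_pos hc]
    · rw [if_neg hc, if_neg hc]
  have h1 : (Finset.univ.erase (none : GolayPt)).filter (fun i => i ∈ c) = c.erase none := by
    ext i
    simp only [Finset.mem_filter, Finset.mem_erase, Finset.mem_univ, and_true]
  have h2 := Finset.card_filter_add_card_filter_not (s := Finset.univ.erase (none : GolayPt))
    (fun i => i ∈ c)
  rw [h1, card_erase_none] at h2
  have h3 : ((Finset.univ.erase (none : GolayPt)).filter (fun i => ¬ i ∈ c)).card =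
      23 - (c.erase none).card := by
    have h2' : (c.erase none).card +
        ((Finset.univ.erase (none : GolayPt)).filter (fun i => ¬ i ∈ c)).card = 23 := by
      convert h2
    omega
  rw [hA, Finset.prod_congr rfl h, Finset.prod_ite, Finset.prod_const, Finset.prod_const, h1, h3]

/-- the count of a fibre as a kernel-friendly number: `w` is the weight of the code word and `b` tells
whether the special point belongs to it -/
def cntD (gaIn gaOut gin gout k w : ℕ) (b : Bool) : ℕ :=
  (((if b then gaIn else gaOut) * (gin ^ (w - b.toNat) * gout ^ (23 - (w - b.toNat)))) >>> (64 * k)) % Y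

theorem card_box_filter_dot (α β m : ℤ) (c : Finset GolayPt) (k : ℕ) :
    ((box K5 m c).filter (fun x => ∑ i, ed (zv α β i) (x i) = k)).card =
      cntD (gz α (m + 2)) (gz α m) (gz β (m + 2)) (gz β m) k c.card (decide (none ∈ c)) := by
  have h := card_filter_piFinset' (fun i : GolayPt => VK K5 (if i ∈ c then m + 2 else m))
    (fun i v => ed (zv α β i) v) Y (card_box_lt K5_sub m c) k
  rw [prod_gen, shift_eq] at h
  rw [box, h, cntD, Finset.card_erase_eq_ite]
  by_cases hc : none ∈ c
  · simp only [hc, if_true, decide_true, Bool.toNat_true]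
  · simp only [hc, if_false, decide_false, Bool.toNat_false, Nat.sub_zero, Bool.false_eq_true]

/-! ### the sum over the fibres -/

/-- the set to be counted -/
def SD (α β : ℤ) (N : ℤ) (d : ℤ) : Set (GolayPt → ℤ) :=
  {x | x ∈ leechLattice ∧ sqNorm x = N ∧ dotInt (zv α β) x = d}

theorem SD_eq (α β : ℤ) (N' : ℕ) (hN : N' ≤ 35) (d : ℤ) :
    SD α β N' d = ↑((IX.biUnion (fun mc => fib K5 N' mc.1 mc.2)).filter
      (fun x => dotInt (zv α β) x = d)) := by
  ext x
  rw [Finset.coe_filter, Set.mem_ofPred_eq, ← Finset.mem_coe, ← SK_eq]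
  simp only [SD, SK, Set.mem_ofPred_eq]
  constructor
  · rintro ⟨h1, h2, h3⟩
    exact ⟨⟨h1, h2, coord_mem_K5 (by exact_mod_cast hN) h2⟩, h3⟩
  · rintro ⟨⟨h1, h2, -⟩, h3⟩
    exact ⟨h1, h2, h3⟩

theorem ncard_SD (α β : ℤ) (N' : ℕ) (hN : N' ≤ 35) (d : ℤ) :
    (SD α β N' d).ncard = ∑ m ∈ ({0, 1} : Finset ℤ), ∑ n ∈ Finset.range 4096,
      ((fib K5 N' m (cwSet n)).filter (fun x => dotInt (zv α β) x = d)).card := by
  rw [SD_eq α β N' hN, Set.ncard_coe_finset, Finset.filter_biUnion, Finset.card_biUnion, IX,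
    Finset.sum_product]
  · apply Finset.sum_congr rfl
    intro m _
    rw [CSF, Finset.sum_image]
    intro a ha b hb h
    exact cwSet_injOn (Finset.mem_range.1 ha) (Finset.mem_range.1 hb) h
  · intro a ha b hb hab
    exact Finset.disjoint_of_subset_left (Finset.filter_subset _ _)
      (Finset.disjoint_of_subset_right (Finset.filter_subset _ _) (fib_disjoint K5 N' ha hb hab))


end Cfsg.Agent.Lib.Helper26.LeechDot
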