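import Cfsg.Agent.Lib.Helper26.LeechDot

/-! Regrouping the sum over the code words by (weight, membership of the special point), and the
final formula for the number of lattice vectors with given sum of squares and inner product against
`(α, β^23)`. -/

set_option autoImplicit false

namespace Cfsg.Agent.Lib.Helper26.LeechDot

open Cfsg Cfsg.Agent.Lib.Golay Cfsg.Agent.Lib.Golay.LeechCount Cfsg.Agent.Lib.Helper93.Leech

/-- the class of the code word with number `n`: its weight and whether it contains the special point -/
def κ (n : ℕ) : ℕ × Bool := (popcount (encode n), (encode n).testBit 23)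

/-- the classes -/
def CL : Finset (ℕ × Bool) :=
  {(0, false), (8, true), (8, false), (12, true), (12, false), (16, true), (16, false), (24, true)}

theorem κ_mem : ∀ n, n < 4096 → κ n ∈ CL := forall_lt_4096 _ (by decide +kernel)

theorem none_mem_cwSet (n : ℕ) : decide (none ∈ cwSet n) = (encode n).testBit 23 := by
  have h : (none : GolayPt) ∈ cwSet n ↔ (encode n).testBit 23 = true := by
    rw [cwSet, mem_maskFinset]
    rfl
  by_cases hb : (encode n).testBit 23 = true
  · rw [hb, decide_eq_true_iff]; exact h.2 hb
  · rw [Bool.not_eq_true] at hb
    rw [hb, decide_eq_false_iff_not, h, hb]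
    simp

theorem cl1 : countBin (fun n => κ n == (0, false)) 12 0 = 1 := by decide +kernel
theorem cl2 : countBin (fun n => κ n == (8, true)) 12 0 = 253 := by decide +kernel
theorem cl3 : countBin (fun n => κ n == (8, false)) 12 0 = 506 := by decide +kernel
theorem cl4 : countBin (fun n => κ n == (12, true)) 12 0 = 1288 := by decide +kernel
theorem cl5 : countBin (fun n => κ n == (12, false)) 12 0 = 1288 := by decide +kernel
theorem cl6 : countBin (fun n => κ n == (16, true)) 12 0 = 506 := by decide +kernel
theorem cl7 : countBin (fun n => κ n == (16, false)) 12 0 = 253 := by decide +kernel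
theorem cl8 : countBin (fun n => κ n == (24, true)) 12 0 = 1 := by decide +kernel

theorem sum_class (G : ℕ × Bool → ℕ) (k : ℕ × Bool) :
    ∑ n ∈ Finset.range 4096, (if κ n = k then G k else 0) =
      countBin (fun n => κ n == k) 12 0 * G k := by
  have hf : (Finset.range 4096).filter (fun n => κ n = k) =
      (Finset.range 4096).filter (fun n => (κ n == k) = true) := by
    ext n; simp
  rw [← Finset.sum_filter, Finset.sum_const, smul_eq_mul, hf, countBin_4096]

theorem sum_by_class' (G : ℕ × Bool → ℕ) :
    ∑ n ∈ Finset.range 4096, G (κ n) =
      G (0, false) + 253 * G (8, true) + 506 * G (8, false) + 1288 * G (12, true) +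
        1288 * G (12, false) + 506 * G (16, true) + 253 * G (16, false) + G (24, true) := by
  have h1 : ∀ n ∈ Finset.range 4096, G (κ n) = ∑ k ∈ CL, if κ n = k then G k else 0 := by
    intro n hn
    rw [Finset.sum_ite_eq, if_pos (κ_mem n (Finset.mem_range.1 hn))]
  rw [Finset.sum_congr rfl h1, Finset.sum_comm]
  simp only [sum_class]
  unfold CL
  rw [Finset.sum_insert (by decide), Finset.sum_insert (by decide), Finset.sum_insert (by decide),
    Finset.sum_insert (by decide), Finset.sum_insert (by decide), Finset.sum_insert (by decide),
    Finset.sum_insert (by decide), Finset.sum_singleton, cl1, cl2, cl3, cl4, cl5, cl6, cl7, cl8]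
  ring

theorem sum_by_class (F : ℕ → Bool → ℕ) :
    ∑ n ∈ Finset.range 4096, F (popcount (encode n)) ((encode n).testBit 23) =
      F 0 false + 253 * F 8 true + 506 * F 8 false + 1288 * F 12 true + 1288 * F 12 false +
        506 * F 16 true + 253 * F 16 false + F 24 true :=
  sum_by_class' (fun k => F k.1 k.2)

end Cfsg.Agent.Lib.Helper26.LeechDot
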