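import Cfsg.Agent.Lib.Helper26.Orbits
import Cfsg.Agent.Lib.Helper26.Count

set_option autoImplicit false

namespace Cfsg.Agent.Lib.Helper26

open Cfsg
open scoped Pointwise

/-! ### closure properties of the family of supports -/

theorem support₂_add {α : Type*} [Fintype α] [DecidableEq α] (v w : α → ZMod 2) :
    support₂ (v + w) = symmDiff (support₂ v) (support₂ w) := by
  ext a
  simp only [mem_support₂', Finset.mem_symmDiff, Pi.add_apply, ne_eq, not_not]
  have key : ∀ x y : ZMod 2, ¬ (x + y = 0) ↔ (¬ x = 0 ∧ y = 0) ∨ (¬ y = 0 ∧ x = 0) := by decide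
  exact key _ _

theorem support₂_one {α : Type*} [Fintype α] : support₂ (1 : α → ZMod 2) = Finset.univ := by
  ext a
  simp [mem_support₂']

theorem supports_symmDiff {a b : Finset GolayPt}
    (ha : a ∈ supports (golayCode : Set (GolayPt → ZMod 2)))
    (hb : b ∈ supports (golayCode : Set (GolayPt → ZMod 2))) :
    symmDiff a b ∈ supports (golayCode : Set (GolayPt → ZMod 2)) := by
  obtain ⟨v, hv, rfl⟩ := ha
  obtain ⟨w, hw, rfl⟩ := hb
  exact ⟨v + w, golayCode.add_mem hv hw, support₂_add v w⟩

theorem supports_univ : (Finset.univ : Finset GolayPt) ∈ supports (golayCode : Set (GolayPt → ZMod 2)) :=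
  ⟨1, Submodule.subset_span (Or.inr rfl), support₂_one⟩

theorem supports_compl {a : Finset GolayPt}
    (ha : a ∈ supports (golayCode : Set (GolayPt → ZMod 2))) :
    aᶜ ∈ supports (golayCode : Set (GolayPt → ZMod 2)) := by
  have := supports_symmDiff ha supports_univ
  rwa [← Finset.top_eq_univ, symmDiff_top] at this

/-! ### the octads as a finset -/

/-- the octads as a finset. -/
def octadsF : Finset (Finset GolayPt) := (octL.map dec).toFinset

theorem mem_octadsF {o : Finset GolayPt} : o ∈ octadsF ↔ o ∈ octads := by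
  rw [mem_octads_iff]
  simp only [octadsF, List.mem_toFinset, List.mem_map]
  constructor
  · rintro ⟨c, hc, rfl⟩
    exact ⟨c, hc, rfl⟩
  · rintro ⟨c, hc, rfl⟩
    exact ⟨c, hc, rfl⟩

theorem octL_length : octL.length = 759 := by decide +kernel

theorem card_octadsF : octadsF.card = 759 := by
  rw [octadsF, List.toFinset_card_of_nodup, List.length_map, octL_length]
  apply List.Nodup.map_on _ octL_nodup
  intro a ha b hb h
  exact dec_injOn (octL_lt ha) (octL_lt hb) h

theorem coe_octadsF : (octadsF : Set (Finset GolayPt)) = octads := by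
  ext o
  exact mem_octadsF

theorem ncard_octads : octads.ncard = 759 := by
  rw [← coe_octadsF, Set.ncard_coe_finset, card_octadsF]

theorem card_of_mem_octads {o : Finset GolayPt} (h : o ∈ octads) : o.card = 8 := h.2

/-! ### number of octads meeting a given octad in a given subset -/

/-- bottom row of the Leech triangle. -/
def meetNum : ℕ → ℕ
  | 0 => 30
  | 2 => 16
  | 4 => 4
  | 8 => 1
  | _ => 0

theorem meet_check : (submasks 24 oct0).all (fun sm =>
    (octL.filter (fun c => oct0 &&& c == sm)).length == meetNum (pc 24 sm)) = true := by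
  decide +kernel

theorem meet_set_eq (s : Finset GolayPt) :
    {o' : Finset GolayPt | o' ∈ octads ∧ dec oct0 ∩ o' = s} =
      {o : Finset GolayPt | ∃ c ∈ octL, (oct0 &&& c == enc s) = true ∧ o = dec c} := by
  ext o'
  simp only [Set.mem_setOf_eq, beq_iff_eq]
  constructor
  · rintro ⟨ho', hint⟩
    obtain ⟨c, hc, rfl⟩ := (mem_octads_iff o').mp ho'
    refine ⟨c, hc, ?_, rfl⟩
    rw [← dec_land] at hint
    have hlt : oct0 &&& c < 2 ^ 24 := Nat.and_lt_two_pow _ (octL_lt hc)
    exact dec_injOn hlt (enc_lt s) (by rw [hint, dec_enc])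
  · rintro ⟨c, hc, hland, rfl⟩
    refine ⟨(mem_octads_iff _).mpr ⟨c, hc, rfl⟩, ?_⟩
    rw [← dec_land, hland, dec_enc]

theorem meet_base (s : Finset GolayPt) (hs : s ⊆ dec oct0) :
    {o' : Finset GolayPt | o' ∈ octads ∧ dec oct0 ∩ o' = s}.ncard = meetNum s.card := by
  rw [meet_set_eq, ncard_dec_filter octL octL_nodup (fun c hc => octL_lt hc)]
  have h := List.all_eq_true.mp meet_check (enc s) (enc_mem_submasks hs)
  rw [card_eq_pc_enc]
  exact beq_iff_eq.mp h

theorem meet_transport (g : Equiv.Perm GolayPt) (hg : g ∈ M24) (o₀ s : Finset GolayPt) :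
    {o' : Finset GolayPt | o' ∈ octads ∧ g • o₀ ∩ o' = s}.ncard =
      {o'' : Finset GolayPt | o'' ∈ octads ∧ o₀ ∩ o'' = g⁻¹ • s}.ncard := by
  have h : {o' : Finset GolayPt | o' ∈ octads ∧ g • o₀ ∩ o' = s} =
      (fun x => g • x) '' {o'' : Finset GolayPt | o'' ∈ octads ∧ o₀ ∩ o'' = g⁻¹ • s} := by
    ext o'
    simp only [Set.mem_setOf_eq, Set.mem_image]
    constructor
    · rintro ⟨ho', hint⟩
      refine ⟨g⁻¹ • o', ⟨(smul_mem_octads_iff (M24.inv_mem hg) o').mpr ho', ?_⟩, smul_inv_smul g o'⟩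
      rw [← hint, Finset.smul_finset_inter, inv_smul_smul]
    · rintro ⟨o'', ⟨ho'', hint⟩, rfl⟩
      refine ⟨(smul_mem_octads_iff hg o'').mpr ho'', ?_⟩
      rw [← Finset.smul_finset_inter, hint, smul_inv_smul]
  rw [h, Set.InjOn.ncard_image]
  exact (MulAction.injective g).injOn

/-- **Leech triangle, bottom row**: the number of octads meeting the octad `o` exactly in `s ⊆ o`
is `30, 0, 16, 0, 4, 0, 0, 0, 1` for `|s| = 0, …, 8`. -/
theorem octad_meet_count (o : Finset GolayPt) (ho : o ∈ octads) (s : Finset GolayPt) (hs : s ⊆ o) :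
    {o' : Finset GolayPt | o' ∈ octads ∧ o ∩ o' = s}.ncard = meetNum s.card := by
  obtain ⟨g, hg, rfl⟩ := octads_transitive o ho
  rw [meet_transport g hg]
  have hs' : g⁻¹ • s ⊆ dec oct0 := by
    have := Finset.smul_finset_subset_smul_finset (a := g⁻¹) hs
    rwa [inv_smul_smul] at this
  have := meet_base (g⁻¹ • s) hs'
  rwa [Finset.card_smul_finset] at this

/-- two octads meet in `0`, `2`, `4` or `8` points. -/
theorem octad_inter_card (o o' : Finset GolayPt) (ho : o ∈ octads) (ho' : o' ∈ octads) :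
    (o ∩ o').card = 0 ∨ (o ∩ o').card = 2 ∨ (o ∩ o').card = 4 ∨ (o ∩ o').card = 8 := by
  have h := octad_meet_count o ho (o ∩ o') Finset.inter_subset_left
  have hne : {o'' : Finset GolayPt | o'' ∈ octads ∧ o ∩ o'' = o ∩ o'}.ncard ≠ 0 := by
    intro h0
    have hfin : {o'' : Finset GolayPt | o'' ∈ octads ∧ o ∩ o'' = o ∩ o'}.Finite := Set.toFinite _
    rw [Set.ncard_eq_zero hfin] at h0
    have : o' ∈ {o'' : Finset GolayPt | o'' ∈ octads ∧ o ∩ o'' = o ∩ o'} := ⟨ho', rfl⟩
    rw [h0] at this
    exact this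
  rw [h] at hne
  have hle : (o ∩ o').card ≤ 8 := by
    rw [← card_of_mem_octads ho]
    exact Finset.card_le_card Finset.inter_subset_left
  generalize (o ∩ o').card = n at hne hle
  interval_cases n <;> simp_all [meetNum]

end Cfsg.Agent.Lib.Helper26
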