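import Cfsg.Agent.Lib.Helper26.Maximal
import Cfsg.Agent.Lib.Helper26.OctadMeet

set_option autoImplicit false

namespace Cfsg.Agent.Lib.Helper26

open Cfsg
open scoped Pointwise

theorem filter_card_transport (ΩF : Finset (Finset GolayPt)) (g : Equiv.Perm GolayPt)
    (hΩinv : ∀ y, g • y ∈ ΩF ↔ y ∈ ΩF)
    (K : Finset GolayPt → Finset GolayPt → ℕ) (hK : ∀ a b, K (g • a) (g • b) = K a b)
    (x : Finset GolayPt) (i : ℕ) :
    (ΩF.filter (fun y => K (g • x) y = i)).card = (ΩF.filter (fun y => K x y = i)).card := by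
  apply Finset.card_nbij' (fun y => g⁻¹ • y) (fun y => g • y)
  · intro y hy
    simp only [Finset.coe_filter, Set.mem_setOf_eq] at hy ⊢
    refine ⟨?_, ?_⟩
    · rw [← hΩinv, smul_inv_smul]
      exact hy.1
    · rw [← hK, smul_inv_smul]
      exact hy.2
  · intro y hy
    simp only [Finset.coe_filter, Set.mem_setOf_eq] at hy ⊢
    exact ⟨(hΩinv y).mpr hy.1, by rw [hK]; exact hy.2⟩
  · intro y _
    exact smul_inv_smul g y
  · intro y _
    exact inv_smul_smul g y

theorem filter_card_base (L : List ℕ) (hL : L.Nodup) (hlt : ∀ c ∈ L, c < 2 ^ 24) (f : ℕ → Bool)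
    (P : Finset GolayPt → Prop) [DecidablePred P] (hP : ∀ c ∈ L, P (dec c) ↔ f c = true) :
    (((L.map dec).toFinset).filter P).card = (L.filter f).length := by
  have h1 : ((L.map dec).toFinset).filter P = ((L.filter f).map dec).toFinset := by
    ext y
    simp only [Finset.mem_filter, List.mem_toFinset, List.mem_map, List.mem_filter]
    constructor
    · rintro ⟨⟨c, hc, rfl⟩, hPy⟩
      exact ⟨c, ⟨hc, (hP c hc).mp hPy⟩, rfl⟩
    · rintro ⟨c, ⟨hc, hf⟩, rfl⟩
      exact ⟨⟨c, hc, rfl⟩, (hP c hc).mpr hf⟩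
  rw [h1, List.toFinset_card_of_nodup, List.length_map]
  apply List.Nodup.map_on _ (hL.filter _)
  intro a ha b hb h
  exact dec_injOn (hlt a (List.mem_filter.mp ha).1) (hlt b (List.mem_filter.mp hb).1) h

/-- the action of `M24` (as a group) on finsets is the action of the underlying permutations. -/
theorem M24_smul_def (g : M24) (s : Finset GolayPt) : g • s = (g : Equiv.Perm GolayPt) • s := rfl

theorem mem_orbit_M24_iff {x y : Finset GolayPt} :
    y ∈ MulAction.orbit M24 x ↔ ∃ g ∈ M24, g • x = y := by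
  constructor
  · rintro ⟨g, rfl⟩
    exact ⟨g.1, g.2, rfl⟩
  · rintro ⟨g, hg, rfl⟩
    exact ⟨⟨g, hg⟩, rfl⟩

theorem mem_stabilizer_M24_iff {x : Finset GolayPt} {g : M24} :
    g ∈ MulAction.stabilizer M24 x ↔ (g : Equiv.Perm GolayPt) • x = x := by
  rw [MulAction.mem_stabilizer_iff]
  rfl

end Cfsg.Agent.Lib.Helper26
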