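import Mathlib

set_option autoImplicit false

namespace Cfsg.Agent.Lib.Helper26

open scoped Pointwise

/-- **Maximality of a point stabiliser from its suborbit lengths.**
If the orbit `ΩF` of `x₀` is split by a function `κ` into classes on each of which the stabiliser of
`x₀` is transitive, `{x₀}` is a class, and no sum of class sizes containing the class of `x₀` (other
than the trivial ones) divides `|ΩF|`, then the stabiliser is a maximal subgroup. -/
theorem isCoatom_stabilizer_of_classes {G : Type*} [Group G] {X : Type*} [MulAction G X]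
    [DecidableEq X] (x₀ : X) (ΩF : Finset X)
    (hΩ : ∀ y, y ∈ ΩF ↔ y ∈ MulAction.orbit G x₀)
    (κ : X → ℕ) (classes : Finset ℕ)
    (hκ : ∀ y ∈ ΩF, κ y ∈ classes)
    (hH : ∀ y ∈ ΩF, ∀ z ∈ ΩF, κ y = κ z → ∃ h ∈ MulAction.stabilizer G x₀, h • y = z)
    (hx₀ : ∀ y ∈ ΩF, κ y = κ x₀ → y = x₀)
    (hne : ∀ i ∈ classes, ∃ y ∈ ΩF, κ y = i)
    (hnontriv : classes ≠ {κ x₀})
    (hdiv : ∀ S : Finset ℕ, S ⊆ classes → κ x₀ ∈ S →
      (∑ i ∈ S, (ΩF.filter (fun y => κ y = i)).card) ∣ ΩF.card → S = {κ x₀} ∨ S = classes) :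
    IsCoatom (MulAction.stabilizer G x₀) := by
  classical
  have hx₀mem : x₀ ∈ ΩF := (hΩ x₀).mpr (MulAction.mem_orbit_self x₀)
  have hk0 : κ x₀ ∈ classes := hκ x₀ hx₀mem
  refine ⟨?_, fun L hL => ?_⟩
  · -- the stabiliser is proper
    intro htop
    have : ∃ i ∈ classes, i ≠ κ x₀ := by
      by_contra hcon
      simp only [not_exists, not_and, not_not] at hcon
      apply hnontriv
      ext i
      rw [Finset.mem_singleton]
      exact ⟨hcon i, fun h => h ▸ hk0⟩
    obtain ⟨i, hi, hine⟩ := this
    obtain ⟨y, hy, hyi⟩ := hne i hi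
    obtain ⟨g, rfl⟩ := (hΩ y).mp hy
    have hg : g ∈ MulAction.stabilizer G x₀ := by rw [htop]; exact Subgroup.mem_top g
    rw [MulAction.mem_stabilizer_iff] at hg
    have hyi' : κ (g • x₀) = i := hyi
    rw [hg] at hyi'
    exact hine hyi'.symm
  · -- an overgroup `L` is everything
    set H := MulAction.stabilizer G x₀ with hHdef
    have hHL : H ≤ L := le_of_lt hL
    let B : Finset X := ΩF.filter (fun y => y ∈ MulAction.orbit L x₀)
    let S : Finset ℕ := classes.filter (fun i => ∃ y ∈ B, κ y = i)
    have hmemB : ∀ y, y ∈ B ↔ y ∈ MulAction.orbit L x₀ := by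
      intro y
      simp only [B, Finset.mem_filter, and_iff_right_iff_imp]
      rintro ⟨l, rfl⟩
      exact (hΩ _).mpr ⟨(l : G), rfl⟩
    have hB : B = ΩF.filter (fun y => κ y ∈ S) := by
      ext y
      simp only [Finset.mem_filter, S]
      constructor
      · intro hy
        have hyΩ : y ∈ ΩF := (Finset.mem_filter.mp hy).1
        exact ⟨hyΩ, hκ y hyΩ, y, hy, rfl⟩
      · rintro ⟨hyΩ, -, z, hz, hzy⟩
        obtain ⟨h, hh, rfl⟩ := hH z (Finset.mem_filter.mp hz).1 y hyΩ hzy
        rw [hmemB] at hz ⊢
        obtain ⟨l, rfl⟩ := hz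
        exact ⟨⟨h, hHL hh⟩ * l, by simp [mul_smul]⟩
    have hcard : B.card = ∑ i ∈ S, (ΩF.filter (fun y => κ y = i)).card := by
      rw [Finset.card_eq_sum_card_fiberwise (f := κ) (s := B) (t := S)]
      · apply Finset.sum_congr rfl
        intro i hi
        congr 1
        rw [hB, Finset.filter_filter]
        apply Finset.filter_congr
        intro y _
        constructor
        · exact fun h => h.2
        · intro h
          exact ⟨h ▸ hi, h⟩
      · intro y hy
        rw [hB] at hy
        exact (Finset.mem_filter.mp hy).2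
    have hdvd : B.card ∣ ΩF.card := by
      have h1 : ΩF.card = H.index := by
        rw [hHdef, MulAction.index_stabilizer, ← Set.ncard_coe_finset]
        congr 1
        ext y
        exact hΩ y
      have h2 : B.card = (MulAction.stabilizer L x₀).index := by
        rw [MulAction.index_stabilizer, ← Set.ncard_coe_finset]
        congr 1
        ext y
        exact hmemB y
      have h3 : MulAction.stabilizer L x₀ = H.subgroupOf L := by
        ext l
        rw [MulAction.mem_stabilizer_iff, Subgroup.mem_subgroupOf, hHdef,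
          MulAction.mem_stabilizer_iff]
        rfl
      rw [h1, h2, h3]
      exact Subgroup.relIndex_dvd_index_of_le hHL
    have hk0S : κ x₀ ∈ S := by
      simp only [S, Finset.mem_filter]
      exact ⟨hk0, x₀, (hmemB x₀).mpr (MulAction.mem_orbit_self x₀), rfl⟩
    rw [hcard] at hdvd
    rcases hdiv S (Finset.filter_subset _ _) hk0S hdvd with hS | hS
    · -- then `L ≤ H`, impossible
      exfalso
      apply not_le_of_gt hL
      intro l hl
      have h1 : (⟨l, hl⟩ : L) • x₀ ∈ B := (hmemB _).mpr ⟨⟨l, hl⟩, rfl⟩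
      have h2 : κ ((⟨l, hl⟩ : L) • x₀) ∈ S := by
        rw [hB] at h1
        exact (Finset.mem_filter.mp h1).2
      rw [hS, Finset.mem_singleton] at h2
      have h3 := hx₀ _ (Finset.mem_filter.mp h1).1 h2
      rw [hHdef, MulAction.mem_stabilizer_iff]
      exact h3
    · -- then `L` is transitive on the orbit, hence everything
      rw [eq_top_iff]
      intro g _
      have h1 : g • x₀ ∈ ΩF := (hΩ _).mpr ⟨g, rfl⟩
      have h2 : g • x₀ ∈ B := by
        rw [hB, Finset.mem_filter, hS]
        exact ⟨h1, hκ _ h1⟩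
      obtain ⟨l, hl⟩ := (hmemB _).mp h2
      have h3 : (l : G)⁻¹ * g ∈ H := by
        rw [hHdef, MulAction.mem_stabilizer_iff, mul_smul, ← hl]
        exact inv_smul_smul (l : G) x₀
      have h4 := L.mul_mem l.2 (hHL h3)
      rwa [mul_inv_cancel_left] at h4

end Cfsg.Agent.Lib.Helper26
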