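import Cfsg.Agent.Lib.Helper26.McL275
import Cfsg.Agent.Lib.Helper26.McLData2
import Cfsg.Agent.Lib.Helper26.CoOrbit

/-! The rank 3 action on the 275 vectors of the McLaughlin configuration of the standard pair: the
stabiliser of the first vector `R0` has orbits of lengths 112 and 162 on the others. -/

set_option autoImplicit false

namespace Cfsg.Agent.Lib.Helper26.McL

open Cfsg Cfsg.Agent.Lib.Helper93.Leech Cfsg.Agent.Lib.Helper93.Golay
open Cfsg.Agent.Lib.Golay.LeechBasis Cfsg.Agent.Lib.Conway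
open Cfsg.Agent.Lib.Helper26.CoTab

theorem x0L_eq : XB.getD 0 [] = x0L := by decide +kernel

theorem x0L_length : x0L.length = 24 := by decide

theorem R0_coe : (R0 : Vec) = vecOfList x0L := by
  show vecOfList (XB.getD 0 []) = _
  rw [x0L_eq]

theorem x0L_mem_XF : x0L ∈ XF := by rw [← x0L_eq]; exact XB_root

/-- the stabiliser of the standard triple -/
def K0 : Subgroup Co0 := H0 ⊓ MulAction.stabilizer Co0 R0

set_option maxRecDepth 100000 in
theorem k1_ok : k1.ok := by decide +kernel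
set_option maxRecDepth 100000 in
theorem k2_ok : k2.ok := by decide +kernel

set_option maxRecDepth 100000 in
theorem kgens_fix : (applyC k1.Tt u0L = u0L ∧ applyC k1.Tt v0L = v0L ∧ applyC k1.Tt x0L = x0L) ∧
    (applyC k2.Tt u0L = u0L ∧ applyC k2.Tt v0L = v0L ∧ applyC k2.Tt x0L = x0L) := by decide +kernel

theorem mem_K0_of_fix (d : GenData) (h : d.ok) (hu : applyC d.Tt u0L = u0L)
    (hv : applyC d.Tt v0L = v0L) (hx : applyC d.Tt x0L = x0L) : d.aut h ∈ K0 := by
  refine Subgroup.mem_inf.mpr ⟨mem_H0_of_fix d h hu hv, ?_⟩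
  have hR : R0 = ⟨vecOfList x0L, by rw [← R0_coe]; exact R0.2⟩ := Subtype.ext R0_coe
  rw [MulAction.mem_stabilizer_iff]
  apply Subtype.ext
  conv_lhs => rw [hR]
  rw [GenData.aut_smul_list d h x0L x0L_length, hx, R0_coe]

theorem kgens_spec : ∀ Tt ∈ [k1.Tt, k2.Tt], ∃ g ∈ K0, ∀ (x : List ℤ) (_ : x.length = 24)
    (hm : vecOfList x ∈ leechLattice),
    ((g • (⟨vecOfList x, hm⟩ : leechLattice) : leechLattice) : Vec) = vecOfList (applyC Tt x) := by
  intro Tt hTt
  simp only [List.mem_cons, List.not_mem_nil, or_false] at hTt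
  rcases hTt with rfl | rfl
  · exact ⟨k1.aut k1_ok, mem_K0_of_fix k1 k1_ok kgens_fix.1.1 kgens_fix.1.2.1 kgens_fix.1.2.2,
      fun x hx hm => GenData.aut_smul_list k1 k1_ok x hx hm⟩
  · exact ⟨k2.aut k2_ok, mem_K0_of_fix k2 k2_ok kgens_fix.2.1 kgens_fix.2.2.1 kgens_fix.2.2.2,
      fun x hx hm => GenData.aut_smul_list k2 k2_ok x hx hm⟩

/-! ### the two suborbits -/

/-- the vectors of the configuration having scalar product `d` with `R0`, other than `R0` -/
def SD (d : ℤ) : Set leechLattice := {y | y ∈ X0 ∧ y ≠ R0 ∧ dotInt (R0 : Vec) (y : Vec) = d}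

/-- the list of the vectors of `SD d` -/
def DF (d : ℤ) : List (List ℤ) := XF.filter (fun l => l ≠ x0L ∧ dotL x0L l = d)

theorem DF_sub (d : ℤ) (l : List ℤ) (hl : l ∈ DF d) : l ∈ XF ∧ l ≠ x0L ∧ dotL x0L l = d := by
  have := List.mem_filter.mp hl
  exact ⟨this.1, by simpa using this.2⟩

theorem DF_nodup (d : ℤ) : (DF d).Nodup := XF_nodup.filter _

theorem DF_len (d : ℤ) (l : List ℤ) (hl : l ∈ DF d) : l.length = 24 := XF_len l (DF_sub d l hl).1

theorem DF_mem (d : ℤ) (l : List ℤ) (hl : l ∈ DF d) : vecOfList l ∈ leechLattice :=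
  XF_mem l (DF_sub d l hl).1

theorem mem_SD_iff (d : ℤ) (y : leechLattice) : y ∈ SD d ↔ (y : Vec) ∈ listSet (DF d) := by
  constructor
  · rintro ⟨h1, h2, h3⟩
    obtain ⟨l, hl, hly⟩ := (mem_X0_iff y).mp h1
    refine ⟨l, List.mem_filter.mpr ⟨hl, ?_⟩, hly⟩
    rw [decide_eq_true_iff]
    constructor
    · intro hcon
      apply h2
      apply Subtype.ext
      rw [← hly, hcon, R0_coe]
    · rw [← dotInt_vecOfList _ _ x0L_length, ← R0_coe, hly]
      exact h3
  · rintro ⟨l, hl, hly⟩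
    obtain ⟨h1, h2, h3⟩ := DF_sub d l hl
    refine ⟨(mem_X0_iff y).mpr ⟨l, h1, hly⟩, ?_, ?_⟩
    · intro hcon
      apply h2
      have : vecOfList l = vecOfList x0L := by rw [hly, hcon, R0_coe]
      exact vecOfList_injOn (XF_len l h1) x0L_length this
    · rw [← hly, R0_coe, dotInt_vecOfList _ _ x0L_length, h3]

theorem ncard_SD (d : ℤ) : (SD d).ncard = (DF d).length := by
  have : SD d = {x : leechLattice | (x : Vec) ∈ listSet (DF d)} := by
    ext y; exact mem_SD_iff d y
  rw [this, ncard_subtype_listSet (DF d) (DF_mem d) (DF_len d) (DF_nodup d)]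

set_option maxRecDepth 100000 in
theorem DF8_length : (DF 8).length = 112 := by decide +kernel

set_option maxRecDepth 100000 in
theorem DF16_length : (DF 16).length = 162 := by decide +kernel

set_option maxRecDepth 100000 in
theorem dot_cases : ∀ l ∈ XF, l ≠ x0L → dotL x0L l = 8 ∨ dotL x0L l = 16 := by decide +kernel

theorem smul_mem_SD (d : ℤ) (g : Co0) (hg : g ∈ K0) (y : leechLattice) (hy : y ∈ SD d) :
    g • y ∈ SD d := by
  obtain ⟨h1, h2, h3⟩ := hy
  have hgR : g • R0 = R0 := MulAction.mem_stabilizer_iff.mp hg.2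
  refine ⟨smul_mem_X0 g hg.1 y h1, ?_, ?_⟩
  · intro hcon
    apply h2
    rw [← hgR] at hcon
    exact MulAction.injective g hcon
  · have := Cfsg.Agent.Lib.Helper26.LeechDot.co0_dot g R0 y
    rw [hgR] at this
    rw [this]; exact h3

/-! ### the trees -/

set_option maxRecDepth 100000 in
theorem treeA_ok : edgesOK [k1.Tt, k2.Tt] AB 1 edgesA = true := by decide +kernel

set_option maxRecDepth 100000 in
theorem treeB_ok : edgesOK [k1.Tt, k2.Tt] BB 1 edgesB = true := by decide +kernel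

set_option maxRecDepth 100000 in
theorem ABc_nodup : ABc.Nodup := by decide +kernel
set_option maxRecDepth 100000 in
theorem ABc_enc : ∀ c ∈ ABc, encV (decV c) = c := by decide +kernel
set_option maxRecDepth 100000 in
theorem BBc_nodup : BBc.Nodup := by decide +kernel
set_option maxRecDepth 100000 in
theorem BBc_enc : ∀ c ∈ BBc, encV (decV c) = c := by decide +kernel

theorem AB_nodup : AB.Nodup := nodup_map_decV ABc ABc_nodup ABc_enc
theorem BB_nodup : BB.Nodup := nodup_map_decV BBc BBc_nodup BBc_enc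

theorem AB_len (l : List ℤ) (hl : l ∈ AB) : l.length = 24 := by
  obtain ⟨c, _, rfl⟩ := List.mem_map.mp hl
  exact decV_length c

theorem BB_len (l : List ℤ) (hl : l ∈ BB) : l.length = 24 := by
  obtain ⟨c, _, rfl⟩ := List.mem_map.mp hl
  exact decV_length c

theorem AB_length : AB.length = 112 := by decide +kernel
theorem BB_length : BB.length = 162 := by decide +kernel
theorem edgesA_length : edgesA.length + 1 = AB.length := by decide +kernel
theorem edgesB_length : edgesB.length + 1 = BB.length := by decide +kernel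

set_option maxRecDepth 100000 in
theorem AB_root : AB.getD 0 [] ∈ DF 8 := by decide +kernel
set_option maxRecDepth 100000 in
theorem BB_root : BB.getD 0 [] ∈ DF 16 := by decide +kernel

theorem AB_root_mem : vecOfList (AB.getD 0 []) ∈ leechLattice := DF_mem 8 _ AB_root
theorem BB_root_mem : vecOfList (BB.getD 0 []) ∈ leechLattice := DF_mem 16 _ BB_root

theorem reach_SD8 : ∀ y ∈ SD 8, ∃ g ∈ K0,
    g • (⟨vecOfList (AB.getD 0 []), AB_root_mem⟩ : leechLattice) = y :=
  tree_orbit K0 [k1.Tt, k2.Tt] AB edgesA kgens_spec AB_len edgesA_length AB_root_mem treeA_ok AB_nodup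
    (SD 8) (smul_mem_SD 8) ((mem_SD_iff 8 _).mpr ⟨_, AB_root, rfl⟩) (DF 8)
    (fun x hx => (mem_SD_iff 8 x).mp hx) (DF_len 8) (DF_nodup 8) (by rw [DF8_length, AB_length])

theorem reach_SD16 : ∀ y ∈ SD 16, ∃ g ∈ K0,
    g • (⟨vecOfList (BB.getD 0 []), BB_root_mem⟩ : leechLattice) = y :=
  tree_orbit K0 [k1.Tt, k2.Tt] BB edgesB kgens_spec BB_len edgesB_length BB_root_mem treeB_ok BB_nodup
    (SD 16) (smul_mem_SD 16) ((mem_SD_iff 16 _).mpr ⟨_, BB_root, rfl⟩) (DF 16)
    (fun x hx => (mem_SD_iff 16 x).mp hx) (DF_len 16) (DF_nodup 16) (by rw [DF16_length, BB_length])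

/-- the scalar product with `R0` of another vector of the configuration is 8 or 16 -/
theorem dot_R0_cases (y : leechLattice) (hy : y ∈ X0) (hne : y ≠ R0) :
    dotInt (R0 : Vec) (y : Vec) = 8 ∨ dotInt (R0 : Vec) (y : Vec) = 16 := by
  obtain ⟨l, hl, hly⟩ := (mem_X0_iff y).mp hy
  have hne' : l ≠ x0L := by
    intro hcon
    apply hne
    apply Subtype.ext
    rw [← hly, hcon, R0_coe]
  have := dot_cases l hl hne'
  rw [← dotInt_vecOfList _ _ x0L_length, ← R0_coe, hly] at this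
  exact this

theorem trans_K0 (y y' : leechLattice) (hy : y ∈ X0) (hy' : y' ∈ X0) (hne : y ≠ R0) (hne' : y' ≠ R0)
    (hd : dotInt (R0 : Vec) (y : Vec) = dotInt (R0 : Vec) (y' : Vec)) :
    ∃ g : Co0, g • U0 = U0 ∧ g • V0 = V0 ∧ g • R0 = R0 ∧ g • y = y' := by
  have key : ∀ g ∈ K0, ∀ g' ∈ K0, ∀ r : leechLattice, g • r = y → g' • r = y' →
      ∃ k : Co0, k • U0 = U0 ∧ k • V0 = V0 ∧ k • R0 = R0 ∧ k • y = y' := by
    intro g hg g' hg' r hgr hgr'
    have h := K0.mul_mem hg' (K0.inv_mem hg)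
    refine ⟨g' * g⁻¹, MulAction.mem_stabilizer_iff.mp h.1.1, MulAction.mem_stabilizer_iff.mp h.1.2,
      MulAction.mem_stabilizer_iff.mp h.2, ?_⟩
    rw [mul_smul, ← hgr, inv_smul_smul, hgr']
  rcases dot_R0_cases y hy hne with h8 | h16
  · obtain ⟨g, hg, hgr⟩ := reach_SD8 y ⟨hy, hne, h8⟩
    obtain ⟨g', hg', hgr'⟩ := reach_SD8 y' ⟨hy', hne', by rw [← hd]; exact h8⟩
    exact key g hg g' hg' _ hgr hgr'
  · obtain ⟨g, hg, hgr⟩ := reach_SD16 y ⟨hy, hne, h16⟩
    obtain ⟨g', hg', hgr'⟩ := reach_SD16 y' ⟨hy', hne', by rw [← hd]; exact h16⟩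
    exact key g hg g' hg' _ hgr hgr'

end Cfsg.Agent.Lib.Helper26.McL
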