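import Cfsg.Agent.Lib.Helper26.M24Order

set_option autoImplicit false

namespace Cfsg.Agent.Lib.Helper26

open Cfsg

def kg0 : PermData := ⟨[0, 1, 2, 3, 10, 5, 11, 12, 19, 22, 4, 6, 7, 20, 14, 16, 15, 17, 21, 8, 13, 18, 9, 23], [0, 1, 2, 3, 10, 5, 11, 12, 19, 22, 4, 6, 7, 20, 14, 16, 15, 17, 21, 8, 13, 18, 9, 23]⟩
def kg1 : PermData := ⟨[0, 1, 2, 3, 6, 5, 4, 22, 20, 12, 11, 10, 9, 19, 14, 18, 21, 17, 15, 13, 8, 16, 7, 23], [0, 1, 2, 3, 6, 5, 4, 22, 20, 12, 11, 10, 9, 19, 14, 18, 21, 17, 15, 13, 8, 16, 7, 23]⟩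
def kg2 : PermData := ⟨[0, 1, 2, 3, 21, 5, 16, 13, 9, 8, 18, 15, 20, 7, 14, 11, 6, 17, 10, 22, 12, 4, 19, 23], [0, 1, 2, 3, 21, 5, 16, 13, 9, 8, 18, 15, 20, 7, 14, 11, 6, 17, 10, 22, 12, 4, 19, 23]⟩
def kg3 : PermData := ⟨[0, 1, 2, 3, 13, 5, 19, 21, 11, 15, 20, 8, 18, 4, 14, 9, 22, 17, 12, 6, 10, 7, 16, 23], [0, 1, 2, 3, 13, 5, 19, 21, 11, 15, 20, 8, 18, 4, 14, 9, 22, 17, 12, 6, 10, 7, 16, 23]⟩

/-- generators of the pointwise stabiliser of the octad `octB`. -/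
def octKerGens : List PermData := [kg0, kg1, kg2, kg3]

def octKerPts : List ℕ := [4, 6, 7, 8, 9, 10, 11, 12, 13, 15, 16, 18, 19, 20, 21, 22]

def octKerWords : List (List ℕ) := [[], [1], [3, 2], [3, 1, 0], [3, 2, 1, 0], [0], [1, 0], [3, 2, 0], [3], [2, 1, 0], [2, 1], [2, 0], [3, 1], [3, 0], [2], [3, 2, 1]]

/-- rigidity steps for the octad `octB` together with the point `4`. -/
def rigidStepsOct : List (ℕ × ℕ) := [(5279, 21116), (5279, 115766), (5279, 5279), (10558, 42232), (418953, 418953), (1188915, 1188915), (2121909, 2121909), (10558, 133817), (10558, 10558), (133817, 133817), (18147, 18147), (36294, 36294), (69395, 69395), (525274, 525274), (4196943, 4196943)]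

end Cfsg.Agent.Lib.Helper26
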