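import Cfsg.Agent.Lib.Helper26.Orbits

set_option autoImplicit false
set_option maxRecDepth 1000000

namespace Cfsg.Agent.Lib.Helper26

open Cfsg

def octStabG0 : PermData := ⟨[18, 13, 3, 4, 10, 5, 11, 19, 6, 20, 1, 15, 16, 7, 12, 21, 14, 23, 22, 8, 2, 9, 17, 0], [23, 10, 20, 2, 3, 5, 8, 13, 19, 21, 4, 6, 14, 1, 16, 11, 12, 22, 0, 7, 9, 15, 18, 17]⟩
def octStabG1 : PermData := ⟨[17, 9, 15, 7, 19, 21, 2, 13, 6, 11, 3, 20, 16, 10, 14, 8, 12, 0, 18, 5, 1, 4, 22, 23], [17, 20, 6, 10, 21, 19, 8, 3, 15, 1, 13, 9, 16, 7, 14, 2, 12, 0, 18, 4, 11, 5, 22, 23]⟩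
def octStabG2 : PermData := ⟨[14, 15, 4, 1, 6, 20, 13, 21, 11, 3, 7, 9, 12, 5, 22, 8, 18, 23, 16, 19, 2, 10, 0, 17], [22, 3, 20, 9, 2, 13, 4, 10, 15, 11, 21, 8, 12, 6, 0, 1, 18, 23, 16, 19, 5, 7, 14, 17]⟩
def octStabG3 : PermData := ⟨[23, 10, 20, 2, 3, 5, 8, 13, 19, 21, 4, 6, 14, 1, 16, 11, 12, 22, 0, 7, 9, 15, 18, 17], [18, 13, 3, 4, 10, 5, 11, 19, 6, 20, 1, 15, 16, 7, 12, 21, 14, 23, 22, 8, 2, 9, 17, 0]⟩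
def octStabG4 : PermData := ⟨[17, 20, 6, 10, 21, 19, 8, 3, 15, 1, 13, 9, 16, 7, 14, 2, 12, 0, 18, 4, 11, 5, 22, 23], [17, 9, 15, 7, 19, 21, 2, 13, 6, 11, 3, 20, 16, 10, 14, 8, 12, 0, 18, 5, 1, 4, 22, 23]⟩
def octStabG5 : PermData := ⟨[22, 3, 20, 9, 2, 13, 4, 10, 15, 11, 21, 8, 12, 6, 0, 1, 18, 23, 16, 19, 5, 7, 14, 17], [14, 15, 4, 1, 6, 20, 13, 21, 11, 3, 7, 9, 12, 5, 22, 8, 18, 23, 16, 19, 2, 10, 0, 17]⟩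

/-- generators (with inverses) of the stabiliser of the standard set. -/
def octStabGens : List PermData := [octStabG0, octStabG1, octStabG2, octStabG3, octStabG4, octStabG5]

/-- orbit representatives indexed by the size of the intersection with the standard set. -/
def octStabReps : List ℕ := [1613974, 0, 12222476, 0, 4845570, 0, 0, 0, 13062145, 0, 0, 0, 0, 0, 0, 0, 0, 0, 0, 0, 0, 0, 0, 0, 0]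

/-- words mapping the representative to each set. -/
def octStabWords : List (List ℕ) := [[], [], [2, 3, 3, 5, 0], [2, 0, 1], [3, 3, 5, 5], [5, 4, 2], [4, 0, 2, 0], [2, 0, 0], [3, 5, 1, 1], [1, 5, 4], [4, 0, 2, 0, 0], [], [3, 3, 3, 2], [3, 3, 5], [1, 2, 3, 5], [0, 4, 2, 1], [5, 3, 1, 1], [4, 2], [3, 5, 3], [4, 3, 2, 4, 0], [5, 3, 2, 0], [1, 2, 0], [5, 0, 4, 5], [2, 0, 4, 2, 0], [2, 1, 2, 0], [1, 3, 2], [5, 5, 4], [2, 1, 3, 2], [0, 4, 2, 4, 0], [5, 4, 5], [2, 2, 3, 5, 3], [0, 1, 5], [1, 5, 0, 0], [1, 0, 2, 4], [3, 4, 5, 0, 1], [2, 1, 3], [3, 5, 0, 1], [3, 1], [5, 1, 3, 5, 0], [0, 0, 4], [3, 2, 3, 3], [2, 3, 2, 1], [5, 0, 1], [0, 2, 4, 2, 0], [3, 1, 0, 1], [5, 5, 3, 2], [2, 2, 0, 4], [2, 1, 5, 3], [0, 0, 5, 0, 0], [1, 5,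 3, 3], [5, 0, 4, 5], [1, 3, 5], [2, 0, 5, 3], [3, 3, 5, 0], [5], [2, 3, 5, 4], [2, 2, 1, 0, 0], [4, 2], [3, 2, 2, 1], [4, 3, 5, 3], [2, 4], [5, 3, 3, 1, 0], [5, 0, 5, 3], [0, 4, 2, 2, 0], [3, 4, 3, 2], [5, 0, 5], [0, 1], [2, 2, 3, 2, 1], [1, 2, 4, 2], [1, 2, 3, 5, 3], [0, 5, 3], [3, 5, 0, 0], [2, 2, 4], [5, 5, 1, 0, 0], [3, 2, 0], [4, 5, 3, 2], [3, 2, 4, 2, 0], [2, 3, 3, 2], [2, 2, 2, 0, 0], [3, 1, 3, 2, 0], [1, 2, 1], [3, 5, 3, 1], [0, 1, 2, 1], [5, 3, 1], [3, 3, 5, 1, 1], [3, 2, 0, 0], [1, 2, 4, 2, 0], [0, 1, 2, 0, 0], [3, 5, 5], [0, 2, 0, 1], [5, 0, 2], [4, 5, 3, 2], [2, 0, 4], [3, 3, 5, 5, 1], [4], [0, 2, 0, 0, 2], [], [1, 1, 0, 1], [5, 4, 0], [0, 2, 0, 2], [0, 4, 5, 3], [3, 4, 2, 0], [2, 2, 0, 1], [2, 0, 5, 5, 0],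 [4, 0], [1, 3, 2], [4, 0, 0, 2, 0], [3, 5, 3, 2], [2, 4, 5, 1], [0, 2, 3, 3], [2, 4, 0, 4], [1, 3, 3, 2, 0], [3, 2, 2, 2], [0, 1, 3], [2, 3, 2], [2, 3, 5, 3], [0, 2, 2, 1], [1, 3, 2, 0], [2, 0, 0], [5, 0, 1], [1, 5, 0, 0, 0], [1, 5, 3], [3, 5, 0, 0], [2, 1, 0], [3, 3, 2], [1, 0, 1, 2, 0], [5, 5, 4], [2, 4, 3, 1], [2, 1, 5, 0, 1], [3, 3, 1], [3, 5, 4, 3, 2], [2, 4, 0], [3, 3, 2, 1], [5, 5, 0, 0], [1, 3, 2, 0], [5, 3, 4, 0], [4, 5, 5, 1], [3, 2, 4], [2, 1, 2], [1, 5, 0], [0, 5, 4, 2], [0, 0, 2, 4], [4, 2, 4, 2], [2, 3, 2, 0, 0], [4, 3, 5, 3], [5, 4], [0, 1, 0, 0], [4, 0, 0], [5, 3, 5, 1], [0, 1, 2, 0], [1, 3, 5, 3], [2], [3, 3, 3, 2], [3, 2, 1, 0], [0, 5], [4, 3, 3, 3], [5, 5, 3], [3, 1, 3, 1, 1], [5, 0, 0, 0], [2, 0, 5,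 3], [3, 2, 4, 2], [0, 1, 5, 0, 0], [2, 2, 0, 1], [2, 3, 2, 0], [5, 1, 0, 0], [0, 2, 0, 1, 0], [3, 1, 1], [5, 3, 5, 0], [3, 3, 1, 0], [1, 3, 4, 0], [5, 0, 2, 0], [2, 3, 5, 3], [2, 4, 2], [3, 5, 3, 5], [1, 2, 1], [2, 2, 0, 0, 0], [0, 2], [3, 5, 1, 3], [3, 5, 3, 3], [5, 1, 3], [2], [3, 4], [0], [2, 0, 0, 5], [3, 1, 1], [0, 4, 5, 3], [4, 2, 1, 0], [4, 3, 3, 2], [3, 5, 0, 1], [4, 2, 2, 0], [5, 5, 4, 3, 1], [1, 3, 5, 0, 0], [3, 5, 5, 0, 1], [1, 1, 2, 4, 2], [2, 4, 5, 3], [0, 4, 2, 0], [5, 0, 1, 2], [0, 2, 0, 1], [4, 0, 1], [1], [4, 5, 0, 1], [4, 2, 4, 2], [4, 3, 2, 1], [5, 5, 1], [4, 0, 5, 3], [5, 4, 0, 0], [4, 3, 3, 1, 0], [0, 2, 1, 2], [0, 1], [0, 0, 5], [2, 3, 2], [5, 0, 4], [3, 4, 0, 2, 0], [4, 3, 4, 0], [0, 5, 3, 5], [1,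 0, 1], [1, 3], [2, 0, 0, 2], [3, 5, 4], [1, 0, 4, 5], [5, 4, 0, 0], [4, 2, 4, 0, 0], [3, 2, 2, 0], [4, 5, 0, 0], [2, 1, 0, 0], [5, 3, 2, 0], [4, 3, 2], [5, 5], [2, 4, 3], [3, 5, 3, 3, 1], [4, 2, 0], [5, 0, 1, 5], [1, 5, 4, 2], [0, 2, 0], [3, 5, 0, 0, 0], [5, 3, 1, 0, 1], [3, 3, 5, 4], [4, 2, 3, 5], [2, 1, 0, 0], [3, 5, 4], [5, 3, 4], [0, 1, 3, 1], [5, 5], [5, 1, 5, 0], [0, 5, 4, 2, 1], [3, 5, 5, 0, 0], [0, 2, 4, 0], [3, 2, 1], [2, 4, 5], [5, 5, 1], [3, 5, 4, 3], [0, 4, 2, 4], [0, 5, 3], [3, 2, 0, 2], [0, 1, 0, 4], [5, 0, 2], [2, 0, 0, 2], [4, 5, 0, 0], [5, 5, 3, 3, 1], [1, 2], [4, 0, 4, 2], [0, 5, 0, 0, 0], [2, 3], [4, 3, 5, 0], [0, 0, 0, 2, 0], [4, 0, 2, 0], [2, 3, 1, 3], [3, 3, 3, 5], [2, 4, 2, 1], [1, 2, 0], [4, 5,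 1, 2], [2, 0, 2, 4], [5, 5, 0, 2, 0], [3, 3, 2], [0, 1, 5], [5], [1, 5], [0, 1, 3, 2], [2, 3], [2, 1, 2, 4], [3, 2, 0, 1], [0, 0], [5, 3, 5, 1, 1], [2, 2, 0], [0, 4, 2, 0], [0, 5, 3, 4, 0], [2, 4], [2, 0, 0, 0], [3, 2, 0, 5], [0, 5, 5, 3], [0, 0, 5, 0], [2, 2, 4, 0, 0], [4, 5, 1, 3], [4, 0, 0, 2], [1, 3, 5, 1], [0, 5, 0, 4], [4, 5, 3, 3], [5, 0, 4], [3, 3, 4, 3], [3, 4, 5, 1], [3, 4, 2, 0, 0], [4, 3, 2, 1], [0], [2, 2, 0, 2], [0, 2, 1, 3, 2], [0, 5, 3, 2], [3, 3, 4], [2, 4, 2, 4, 0], [4, 3, 3, 2, 1], [1, 1], [3, 3, 3], [2, 0, 1, 1], [0, 5, 5, 0, 0], [3, 4], [5, 0, 1, 2, 1], [3, 1, 3, 2, 1], [4, 0, 2, 1], [1, 3, 1, 1], [4, 3, 2, 0, 2], [2, 0, 4], [0, 0, 2, 2, 0], [1, 0, 2, 2, 1], [1, 0, 4], [0, 2, 0, 0], [5, 1, 1], [2,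 3, 3, 1, 1], [4, 5, 3, 5], [5, 4, 3, 2], [0, 0], [2, 0, 2, 0], [1, 1, 0, 0], [5, 3, 5], [4, 0, 1, 0, 1], [1, 2, 1, 0], [1, 3, 3, 2], [3, 5, 0, 4], [2, 4, 5, 0, 0], [1, 2, 0, 2], [5, 3, 2, 0, 0], [0, 4], [2, 2, 3, 2], [5, 1], [2, 2, 3, 2], [5, 5, 0], [3, 5, 4, 0], [2, 2, 2, 0, 1], [3, 5, 5, 0], [3, 3, 5, 4, 0], [1, 0, 2, 4, 3], [5, 3, 3, 1], [4, 5, 3], [4, 0, 4, 2], [0, 1, 2, 0, 0], [2, 2, 0, 0], [2, 1, 3, 2], [5, 4], [1, 1, 5, 0, 1], [1, 2, 0, 1], [0, 2, 2, 2, 1], [2, 2, 2, 4], [1, 5, 0, 1], [3, 1, 2, 0, 1], [1, 0, 1], [2, 3, 1], [1, 3, 5, 0], [1, 5, 5, 0, 0], [5, 4, 0, 1], [0, 4, 5], [2, 1, 2, 0], [0, 4, 3, 2, 1], [1, 2, 4, 2], [5, 3, 3, 2], [1, 0], [1, 5, 4], [0, 5, 4, 3], [1, 2, 0, 1, 3], [0, 1], [4, 0], [5, 1, 2, 1],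 [1, 5, 3, 2], [5], [5, 4, 5, 1], [1, 5, 0, 1], [0, 5, 0, 2], [0, 0, 2, 0], [2, 1, 3, 1], [5, 3, 4, 2, 0], [3, 2, 0, 4], [5, 3, 1, 1], [3, 2, 1, 2, 0], [0, 2, 4, 3], [0, 0, 4, 3], [3, 2], [0, 5, 3, 3, 1], [2, 0, 1], [4, 5, 0, 4], [4, 5, 5, 3], [3, 1, 3, 2], [1, 3, 1], [3, 2, 2, 0, 0], [1, 2, 0, 0], [0, 0, 5], [5, 0], [4, 2, 3, 3], [4, 5, 1], [3, 5, 1, 2], [2, 1, 0, 1], [5, 5, 0, 1], [1, 3, 5, 3, 3], [1, 0], [3, 5, 5, 1], [5, 3, 2], [0, 5, 0, 0], [0, 0, 1, 5, 3], [4, 5, 1, 3], [3, 2, 0, 0], [0, 4, 2], [5, 3], [4, 5], [0, 4, 3, 2], [0, 4, 5], [2], [4, 0, 0], [5, 0, 2, 4], [4, 5, 0, 2], [3, 3, 3, 1], [0, 2, 0, 5], [2, 0, 1, 3], [2, 4, 3, 4, 0], [4, 3, 2, 0], [2, 1, 1, 0, 1], [3, 4, 3], [4, 0, 0, 5], [0, 2], [3, 2, 0], [2,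 0, 0, 4], [2, 4, 2], [3, 3, 2, 0, 2], [2, 4, 0], [0, 4, 3, 1], [2, 1, 1, 0, 0], [3, 5], [0], [0, 0, 2, 0, 0], [5, 4, 5, 4], [3, 4, 5, 0, 0], [0, 1, 5, 0, 1], [4, 2, 0, 0], [3, 3, 1, 3], [0, 4, 0, 1], [0, 2, 3, 5], [3, 2, 4, 0], [0, 5, 5, 0], [5, 4, 0], [4, 0, 4], [4, 3, 4, 2], [3, 4, 5, 1, 2], [5, 5, 3, 1, 1], [0, 5, 3, 2, 0], [5, 0, 0, 5], [3, 3, 2, 0, 0], [5, 1, 5, 3], [0, 1, 2, 0], [2, 0, 0, 5, 3], [5, 3, 2], [2, 1, 5], [2, 3, 3], [5, 4, 2, 0, 0], [0, 1, 0, 1], [1, 3, 2, 1, 0], [2, 2, 3, 5], [5, 1, 3, 2], [1, 3, 2, 0, 0], [3, 3], [0, 0], [2, 0, 5, 1, 3], [0, 0, 1, 2], [3, 5, 3], [0, 4, 5, 0, 0], [2, 2, 0], [1, 2, 0, 0], [3, 2, 1, 2], [4, 3, 1], [0, 4, 3, 2], [2, 0, 4, 2], [3, 5], [0, 2, 4, 5, 1], [5, 0], [1, 0, 2],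 [1, 2, 1, 2], [4, 2, 0], [3, 5, 5, 1], [5, 1, 0, 0], [2, 2, 0, 0, 1], [3, 1, 1, 3], [2, 0, 2, 1], [1], [5, 3, 3, 5, 3], [1], [1, 1, 3], [5, 0, 2, 0, 0], [5, 3, 1, 0], [0, 2, 2, 3, 2], [1, 5, 1], [5, 4], [1, 3, 5, 0, 1], [0, 2, 4, 0, 0], [5, 1], [1, 3, 5, 4], [0, 5, 0], [1, 5, 1, 3], [1, 0, 0, 2], [2, 4, 5, 1, 3], [0, 2, 4, 5], [5, 0, 2, 0], [1, 2, 2, 0], [0, 0, 4, 2, 0], [4, 2, 0, 4], [1, 5, 0, 0], [2, 0, 0, 5], [3, 1, 5, 1], [5, 5, 3, 1, 0], [0, 4, 3], [4, 5], [2, 1, 3, 5, 1], [5, 0, 5, 3], [4, 2, 4, 0], [0, 0, 0, 2], [3, 5, 0, 1, 2], [1, 0, 0], [5, 3, 5, 4], [2, 2, 1, 2], [3, 5, 3, 4], [1, 3, 5, 3], [2, 3, 3, 1, 0], [2, 1, 5, 0], [1, 2, 3, 2], [2, 0, 5], [1, 5, 3, 2], [4, 5, 4], [1, 0, 2, 0, 0], [2, 4, 0, 0], [3, 5,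 1], [0, 0, 1, 1], [2, 3, 4], [1, 1], [2, 0, 2, 0, 0], [5, 1], [4, 5, 4, 2], [5, 3, 2, 1], [2, 1, 2, 1], [0, 4, 2, 0, 0], [2, 4, 0, 1], [4, 5, 3, 2, 0], [1, 2, 0, 1, 0], [0, 1, 3, 2, 1], [0, 5, 1, 3], [3, 3, 4, 0], [0, 2, 2, 0], [3, 4, 3, 4, 0], [2, 0, 4, 3, 1], [2, 4, 2, 0, 0], [3, 3, 5, 3], [2, 1], [4, 2, 4, 0], [1, 0, 0], [2, 3, 5], [0, 1, 3, 5], [0, 2, 0, 0], [5, 3, 3, 3], [1, 5, 5], [3, 2], [2, 0, 2], [5, 5, 3, 2, 0], [0, 0, 5, 3], [2, 2, 4, 2], [2, 3, 2, 0, 0], [4, 3, 2, 0, 0], [1, 5, 4, 3], [2, 4, 5], [5, 3, 2, 2, 0], [1, 0], [0, 0, 2], [4], [4, 5, 4], [0, 2, 4, 2], [3, 5, 3, 5, 0], [2, 2], [1, 3], [1, 2, 0, 0, 0], [0, 2, 3, 1], [5, 0, 1, 1], [0, 2, 4, 5], [3, 5, 0, 2], [0, 5], [3, 5, 0], [5, 3, 2, 1], [1, 0, 2,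 1], [5, 3, 1, 3], [3, 2, 0, 2, 0], [2, 3, 5, 0, 1], [1, 3, 2, 4, 0], [3, 3, 2, 0], [0, 1, 2], [0, 5], [2, 1], [1, 2, 0, 2, 0], [4, 0, 4, 2, 0], [5, 5, 1, 2], [1, 2, 2, 0, 2], [2, 4, 3, 2, 1], [4, 3, 4, 3], [5, 4, 5, 3], [1, 3, 2, 1], [0, 4, 5, 4], [4, 5, 1, 0, 0], [5, 4, 0, 1, 2], [5, 5, 0, 0], [4, 2, 4], [5, 0, 2, 1], [1, 5, 0, 2], [1, 1, 2], [2, 1], [3, 3, 2, 1], [3, 1, 0], [5, 3, 3], [4, 5, 3], [5, 5, 4, 0, 0], [3, 2, 0, 1], [2, 2, 2], [5, 4, 3, 2], [1, 0, 4, 2, 0], [2, 0, 0, 1], [2, 0, 1, 1], [0, 1, 1], [3, 5, 3, 5], [5, 1, 2], [0, 5, 5, 1], [0, 1, 2, 4, 2], [4, 0, 1, 2], [1, 5], [1, 3, 2, 1, 2], [5, 3, 5, 4], [1, 3, 1, 3], [5, 0, 0], [3, 3], [0, 2, 1], [3, 1, 0, 2, 1], [4, 3], [4, 2, 0, 5], [4, 0, 2, 4], [0, 0, 2],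 [5, 1, 3], [0, 1, 1], [4, 2, 0, 2], [2, 0, 2, 4, 2], [0, 5, 3, 5], [3], [0, 0, 1, 3], [2, 3, 5, 1, 3], [1, 5, 5, 1], [0, 2, 0, 0, 2], [2, 2, 2, 1], [3, 4, 5, 3], [5, 5, 0, 4], [1, 0, 0], [5, 4, 2, 1], [1, 0, 2, 0], [0, 5, 0], [2, 3, 2, 1], [3, 4, 2], [5, 4, 3], [3, 5, 5, 4], [4, 2, 1], [1, 2, 1, 0, 0], [3, 2, 1], [1, 2, 0, 4], [1, 3, 3, 3], [0, 1, 5, 3, 3], [3, 5, 0], [0, 0, 1], [0, 1, 1], [0, 0, 5, 3], [2, 0, 2], [3, 5, 3, 4, 0], [1, 3, 2, 1], [2, 2, 4, 0], [1, 2, 4], [0, 2, 0, 0, 0], [3, 2, 4, 3], [0, 1, 5, 3], [5, 0, 0], [0, 2, 0], [0, 0, 0], [4, 3, 2], [2, 0], [3, 1, 5, 4, 2], [2, 0, 1], [3, 1], [0, 4], [5, 0, 4, 2, 0], [5, 1, 2, 0, 0], [5, 4, 3, 1], [1, 2, 2, 1], [0, 1, 2, 1], [4, 0, 1, 2, 0], [2, 0], [0, 5, 3, 3],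 [3, 2, 0, 2], [4], [3, 3, 1, 1], [3], [2, 0, 4, 2], [0, 2, 4], [1, 2, 3, 3], [4, 2, 1, 2], [2, 3, 4, 3], [2, 4, 2, 0], [2, 0], [5, 3, 5], [1, 2, 0, 2, 1], [5, 4, 0, 2, 0], [0, 1, 0], [4, 0, 0], [5, 0, 0, 1], [0, 5, 5, 0, 1], [4, 0, 2, 2, 1], [1, 2, 0, 0, 2], [5, 3], [3, 5, 1, 3], [3, 4, 0], [3, 3, 5, 1], [0, 2, 4, 2], [2, 2], [5, 0, 4, 2], [3, 1, 5, 4], [2, 4, 3, 2, 0], [3, 5, 1], [3, 2, 0, 4], [5, 1, 5, 1], [4, 2, 1], [2, 1, 0, 2, 0], [1, 1, 5], [0, 4], [5, 1, 2, 0], [4, 2, 0, 0, 1], [0, 2, 3, 3, 2], [5, 4, 5, 3, 5], [3, 1, 3], [2, 0, 1, 2], [0, 4, 2], [3], [2, 4, 0, 0], [1, 5, 0, 4], [0, 4, 2, 0, 5], [2, 2, 1], [2, 3, 5, 0, 2], [1, 1], [2, 0, 1, 0]]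

end Cfsg.Agent.Lib.Helper26
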