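import Cfsg.Agent.Lib.Helper26.OctKerData
import Cfsg.Agent.Lib.Helper26.MaxTools

set_option autoImplicit false

namespace Cfsg.Agent.Lib.Helper26

open Cfsg
open scoped Pointwise

/-! ### level certificates with explicit generators -/

theorem level_cert_gens (gens : List PermData) (l : List ℕ) (b : ℕ) (hb : b < 24) (pts : List ℕ)
    (ws : List (List ℕ))
    (hgens : gens.all (fun d => d.inM24 && d.fixesAll l) = true)
    (hcheck : checkPaths gens (2 ^ b) (pts.map (2 ^ ·)) ws = true) :
    ∀ p : GolayPt, idx p ∈ pts → ∃ h ∈ fixK l, h (pt b) = p := by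
  intro p hmem
  have hg1 : ∀ d ∈ gens, d.inM24 = true ∧ d.fixesAll l = true := by
    intro d hd
    have := List.all_eq_true.mp hgens d hd
    rwa [Bool.and_eq_true] at this
  obtain ⟨g, hg, hgs⟩ := orbit_cert gens (fun d hd => PermData.ok_of_inM24 (hg1 d hd).1) (fixK l)
    (fun d hd => PermData.toPerm_mem_fixK (hg1 d hd).1 (hg1 d hd).2)
    (2 ^ b) (pts.map (2 ^ ·)) ws hcheck (2 ^ idx p) (List.mem_map.mpr ⟨idx p, hmem, rfl⟩)
  refine ⟨g, hg, ?_⟩
  rw [dec_two_pow b hb, dec_two_pow _ (idx_lt p), Finset.smul_finset_singleton, pt_idx,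
    Finset.singleton_inj] at hgs
  exact hgs

/-! ### the pointwise stabiliser of the octad `octB` -/

/-- the points of `octB`. -/
abbrev octBl : List ℕ := [17, 14, 5, 3, 2, 1, 0, 23]

theorem mem_octB_iff_idx (p : GolayPt) : p ∈ dec octB ↔ idx p ∈ octBl := by
  rw [mem_dec]
  have : ∀ i, i < 24 → (Nat.testBit octB i = true ↔ i ∈ octBl) := by decide +kernel
  exact this _ (idx_lt p)

theorem not_mem_octB_iff_idx (p : GolayPt) : p ∉ dec octB ↔ idx p ∈ octKerPts := by
  rw [mem_dec]
  have : ∀ i, i < 24 → (¬ Nat.testBit octB i = true ↔ i ∈ octKerPts) := by decide +kernel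
  exact this _ (idx_lt p)

theorem mem_fixK_octBl {g : Equiv.Perm GolayPt} :
    g ∈ fixK octBl ↔ g ∈ M24 ∧ ∀ p ∈ dec octB, g p = p := by
  rw [mem_fixK]
  constructor
  · rintro ⟨h1, h2⟩
    refine ⟨h1, fun p hp => ?_⟩
    have := h2 _ ((mem_octB_iff_idx p).mp hp)
    rwa [pt_idx] at this
  · rintro ⟨h1, h2⟩
    refine ⟨h1, fun j hj => h2 _ ?_⟩
    have hj24 : j < 24 := by
      simp only [octBl, List.mem_cons, List.not_mem_nil, or_false] at hj
      omega
    rw [mem_octB_iff_idx, idx_pt j hj24]
    exact hj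

/-- the pointwise stabiliser of `octB` is transitive on the sixteen points outside. -/
theorem kerO_trans : ∀ p : GolayPt, p ∉ dec octB → ∃ k ∈ fixK octBl, k (pt 4) = p := by
  intro p hp
  exact level_cert_gens octKerGens octBl 4 (by norm_num) octKerPts octKerWords (by decide +kernel)
    (by decide +kernel) p ((not_mem_octB_iff_idx p).mp hp)

theorem rigidOct_check : runSteps 8536127 rigidStepsOct = 16777215 := by decide +kernel

/-- an element of `M24` fixing the octad `octB` pointwise and the point `4` is the identity. -/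
theorem kerO_rigid {g : Equiv.Perm GolayPt} (hg : g ∈ fixK (4 :: octBl)) : g = 1 :=
  rigid_cert 8536127 rigidStepsOct rigidOct_check hg.1
    (fixesMask_of_fixK hg 8536127 (by decide +kernel))

theorem card_kerO : Nat.card (fixK octBl) = 16 := by
  have h := card_fixK_cons octBl 4 8241104 ?_ ?_
  · rw [h]
    have h1 : Nat.card (fixK (4 :: octBl)) = 1 := by
      rw [Nat.card_eq_one_iff_unique]
      refine ⟨⟨fun a b => ?_⟩, ⟨1⟩⟩
      apply Subtype.ext
      rw [kerO_rigid a.2, kerO_rigid b.2]
    rw [h1]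
    decide +kernel
  · intro p hp
    apply kerO_trans
    rw [mem_dec] at hp ⊢
    have : ∀ i, i < 24 → Nat.testBit 8241104 i = true → ¬ Nat.testBit octB i = true := by
      decide +kernel
    exact this _ (idx_lt p) hp
  · intro h hh
    have h4 : pt 4 ∉ dec octB := by
      rw [mem_dec, idx_pt 4 (by norm_num)]
      decide
    have hnot : h (pt 4) ∉ dec octB := by
      intro hin
      have := (mem_fixK_octBl.mp hh).2 _ hin
      have h' := h.injective this
      rw [h'] at hin
      exact h4 hin
    rw [mem_dec] at hnot ⊢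
    have key : ∀ i, i < 24 → ¬ Nat.testBit octB i = true → Nat.testBit 8241104 i = true := by
      decide +kernel
    exact key _ (idx_lt _) hnot

end Cfsg.Agent.Lib.Helper26
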