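import Cfsg.Agent.Lib.Helper26.OctadStab

set_option autoImplicit false

namespace Cfsg.Agent.Lib.Helper26

open Cfsg
open scoped Pointwise

/-! ### generalities on octads -/

theorem octads_transitive' (o o' : Finset GolayPt) (ho : o ∈ octads) (ho' : o' ∈ octads) :
    ∃ g ∈ M24, g • o = o' := by
  have : o' ∈ MulAction.orbit M24 o := by rw [orbit_octad o ho]; exact ho'
  exact mem_orbit_M24_iff.mp this

theorem octad_eq_of_five (o o' : Finset GolayPt) (ho : o ∈ octads) (ho' : o' ∈ octads)
    (h5 : 5 ≤ (o ∩ o').card) : o = o' := by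
  have h8 : (o ∩ o').card = 8 := by
    rcases octad_inter_card o o' ho ho' with h | h | h | h <;> omega
  have h1 : o ∩ o' = o := Finset.eq_of_subset_of_card_le Finset.inter_subset_left (by rw [h8, ho.2])
  have h2 : o ∩ o' = o' := Finset.eq_of_subset_of_card_le Finset.inter_subset_right
    (by rw [h8, ho'.2])
  rw [← h1, h2]

/-- five distinct points of an octad starting with two given ones. -/
theorem exists_five (o : Finset GolayPt) (ho : o ∈ octads) (a b : GolayPt) (ha : a ∈ o) (hb : b ∈ o)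
    (hab : a ≠ b) : ∃ l : List GolayPt, l.length = 3 ∧ (a :: b :: l).Nodup ∧ ∀ x ∈ l, x ∈ o := by
  have hcard : 3 ≤ (o \ {a, b}).card := by
    have h1 : ({a, b} : Finset GolayPt) ⊆ o := by
      intro x hx
      simp only [Finset.mem_insert, Finset.mem_singleton] at hx
      rcases hx with rfl | rfl <;> assumption
    rw [Finset.card_sdiff_of_subset h1, ho.2, Finset.card_pair hab]
    norm_num
  obtain ⟨t, ht, htc⟩ := Finset.exists_subset_card_eq hcard
  refine ⟨t.toList, by rw [Finset.length_toList, htc], ?_, ?_⟩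
  · have hat : ∀ x ∈ t, x ≠ a ∧ x ≠ b := by
      intro x hx
      have := Finset.mem_sdiff.mp (ht hx)
      simp only [Finset.mem_insert, Finset.mem_singleton, not_or] at this
      exact this.2
    rw [List.nodup_cons, List.nodup_cons]
    refine ⟨?_, ?_, t.nodup_toList⟩
    · intro h
      rcases List.mem_cons.mp h with h | h
      · exact hab h
      · exact (hat a (Finset.mem_toList.mp h)).1 rfl
    · intro h
      exact (hat b (Finset.mem_toList.mp h)).2 rfl
  · intro x hx
    exact (Finset.mem_sdiff.mp (ht (Finset.mem_toList.mp hx))).1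

/-- an octad stabiliser is doubly transitive on its octad. -/
theorem exists_stabO_map2 (o : Finset GolayPt) (ho : o ∈ octads) (a b c d : GolayPt)
    (ha : a ∈ o) (hb : b ∈ o) (hc : c ∈ o) (hd : d ∈ o) (hab : a ≠ b) (hcd : c ≠ d) :
    ∃ g ∈ stabO o, g a = c ∧ g b = d := by
  obtain ⟨l, hl, hnd, hlo⟩ := exists_five o ho a b ha hb hab
  obtain ⟨l', hl', hnd', hlo'⟩ := exists_five o ho c d hc hd hcd
  obtain ⟨g1, hg1, e1⟩ := isTransOn5 (a :: b :: l) (by simp [hl]) hnd
  obtain ⟨g2, hg2, e2⟩ := isTransOn5 (c :: d :: l') (by simp [hl']) hnd'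
  have hg : g2 * g1⁻¹ ∈ M24 := M24.mul_mem hg2 (M24.inv_mem hg1)
  -- the images
  have hmap : (c :: d :: l') = (a :: b :: l).map (fun x => (g2 * g1⁻¹) x) := by
    rw [e1, e2, List.map_map]
    apply List.map_congr_left
    intro j _
    simp
  have hca : (g2 * g1⁻¹) a = c ∧ (g2 * g1⁻¹) b = d := by
    simp only [List.map_cons, List.cons.injEq] at hmap
    exact ⟨hmap.1.symm, hmap.2.1.symm⟩
  refine ⟨g2 * g1⁻¹, mem_stabO_iff_smul.mpr ⟨hg, ?_⟩, hca⟩
  have hoct' : (g2 * g1⁻¹) • o ∈ octads := (smul_mem_octads_iff hg o).mpr ho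
  apply octad_eq_of_five _ _ hoct' ho
  have hsub : (c :: d :: l').toFinset ⊆ (g2 * g1⁻¹) • o ∩ o := by
    intro x hx
    rw [List.mem_toFinset] at hx
    rw [Finset.mem_inter]
    constructor
    · rw [hmap, List.mem_map] at hx
      obtain ⟨y, hy, rfl⟩ := hx
      apply Finset.smul_mem_smul_finset
      rcases List.mem_cons.mp hy with rfl | hy
      · exact ha
      rcases List.mem_cons.mp hy with rfl | hy
      · exact hb
      · exact hlo y hy
    · rcases List.mem_cons.mp hx with rfl | hx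
      · exact hc
      rcases List.mem_cons.mp hx with rfl | hx
      · exact hd
      · exact hlo' x hx
  calc 5 = (c :: d :: l').toFinset.card := by
        rw [List.toFinset_card_of_nodup hnd']
        simp [hl']
    _ ≤ _ := Finset.card_le_card hsub

/-! ### the image of the restriction contains the alternating group -/

theorem isPreprimitive_range (o : Finset GolayPt) (ho : o ∈ octads) :
    MulAction.IsPreprimitive (resO o).range ↥o := by
  apply MulAction.isPreprimitive_of_is_two_pretransitive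
  rw [MulAction.is_two_pretransitive_iff]
  intro a b c d hab hcd
  obtain ⟨g, hg, h1, h2⟩ := exists_stabO_map2 o ho a b c d a.2 b.2 c.2 d.2
    (fun h => hab (Subtype.ext h)) (fun h => hcd (Subtype.ext h))
  refine ⟨⟨resO o ⟨g, hg⟩, ⟨g, hg⟩, rfl⟩, ?_, ?_⟩
  · apply Subtype.ext
    exact h1
  · apply Subtype.ext
    exact h2

theorem card_filter_subtype {α : Type*} [DecidableEq α] (s : Finset α) (P : α → Prop)
    [DecidablePred P] :
    (Finset.univ.filter (fun x : ↥s => P x)).card = (s.filter P).card := by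
  rw [← Finset.card_map (Function.Embedding.subtype _)]
  congr 1
  ext x
  simp only [Finset.mem_map, Finset.mem_filter, Finset.mem_univ, true_and,
    Function.Embedding.coe_subtype, Subtype.exists, exists_and_right, exists_eq_right]
  constructor
  · rintro ⟨hx, hP⟩
    exact ⟨hx, hP⟩
  · rintro ⟨hx, hP⟩
    exact ⟨hx, hP⟩

theorem sg8_mem_fixK : sg8.toPerm ∈ fixK [4, 3, 2, 1, 0, 23] :=
  sgs_mem_fixK 8 [4, 3, 2, 1, 0, 23] (by decide +kernel) sg8 (by simp [sgs])

theorem sg8_mem_stabO : sg8.toPerm ∈ stabO (dec octB) :=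
  mem_stabO_iff_smul.mpr ⟨sg8_mem_fixK.1, fixK5_preserves sg8_mem_fixK (by decide +kernel)⟩

theorem sg8_support : (dec octB).filter (fun p => sg8.toPerm p ≠ p) = dec 147488 := by
  have hok : sg8.ok = true := sgs_ok 8 sg8 (by simp [sgs])
  ext p
  rw [Finset.mem_filter, mem_dec, mem_dec, PermData.toPerm_apply hok]
  have key : ∀ i, i < 24 → (sg8.tbl.getD i 0 < 24 ∧ ((Nat.testBit octB i = true ∧
      sg8.tbl.getD i 0 ≠ i) ↔ Nat.testBit 147488 i = true)) := by decide +kernel
  obtain ⟨hlt, hiff⟩ := key _ (idx_lt p)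
  rw [← hiff]
  have : pt (sg8.tbl.getD (idx p) 0) = p ↔ sg8.tbl.getD (idx p) 0 = idx p := by
    constructor
    · intro h
      rw [← idx_pt _ hlt, h]
    · intro h
      rw [h, pt_idx]
  rw [Ne, this]

theorem isThreeCycle_sg8 : (resO (dec octB) ⟨sg8.toPerm, sg8_mem_stabO⟩).IsThreeCycle := by
  rw [← card_support_eq_three_iff]
  show (Equiv.Perm.subtypePerm sg8.toPerm sg8_mem_stabO.2).support.card = 3
  rw [Equiv.Perm.support_subtypePerm, card_filter_subtype (dec octB) (fun p => sg8.toPerm p ≠ p),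
    sg8_support, card_dec]
  decide +kernel

theorem octB_mem_octads : dec octB ∈ octads := (mem_octads_iff _).mpr ⟨octB, octB_mem, rfl⟩

theorem alt_le_range_octB : alternatingGroup ↥(dec octB) ≤ (resO (dec octB)).range :=
  Equiv.Perm.alternatingGroup_le_of_isPreprimitive_of_isThreeCycle_mem
    (isPreprimitive_range _ octB_mem_octads) isThreeCycle_sg8 ⟨_, rfl⟩

/-! ### the kernel of the restriction -/

/-- the kernel of the restriction, against the pointwise stabiliser. -/
def kerEquiv : (resO (dec octB)).ker ≃ fixK octBl where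
  toFun x := ⟨x.1.1, mem_fixK_octBl.mpr ⟨x.1.2.1, fun p hp => by
    have h := MonoidHom.mem_ker.mp x.2
    have h2 := congrArg (fun e : Equiv.Perm ↥(dec octB) => ((e ⟨p, hp⟩ : ↥(dec octB)) : GolayPt)) h
    exact h2⟩⟩
  invFun y := ⟨⟨y.1, (mem_fixK_octBl.mp y.2).1, fun x => by
      have hfix := (mem_fixK_octBl.mp y.2).2
      constructor
      · intro hx
        by_contra hx'
        have h1 := hfix _ hx
        have h2 := y.1.injective h1
        rw [h2] at hx
        exact hx' hx
      · intro hx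
        rw [hfix x hx]
        exact hx⟩, by
    rw [MonoidHom.mem_ker]
    apply Equiv.ext
    intro x
    apply Subtype.ext
    exact (mem_fixK_octBl.mp y.2).2 x.1 x.2⟩
  left_inv _ := rfl
  right_inv _ := rfl

theorem card_range_octB : Nat.card (resO (dec octB)).range = 20160 := by
  have h1 := Subgroup.card_mul_index (resO (dec octB)).ker
  rw [Subgroup.index_ker, Nat.card_congr kerEquiv, card_kerO, card_stabO _ octB_mem_octads] at h1
  omega

theorem card_alt_octad (o : Finset GolayPt) (ho : o ∈ octads) :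
    Nat.card (alternatingGroup ↥o) = 20160 := by
  have : Nontrivial ↥o := by
    rw [← Fintype.one_lt_card_iff_nontrivial, Fintype.card_coe, ho.2]
    norm_num
  rw [nat_card_alternatingGroup, Nat.card_eq_fintype_card, Fintype.card_coe, ho.2]
  decide

/-- the octad stabiliser induces the alternating group on the octad `octB`. -/
theorem range_resO_octB : (resO (dec octB)).range = alternatingGroup ↥(dec octB) := by
  symm
  apply Subgroup.eq_of_le_of_card_ge alt_le_range_octB
  rw [card_range_octB, card_alt_octad _ octB_mem_octads]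

/-! ### transport to an arbitrary octad -/

theorem range_transport (γ : Equiv.Perm GolayPt) (hγ : γ ∈ M24) (o o' : Finset GolayPt)
    (φ : ↥o ≃ ↥o') (hφ : ∀ x : ↥o, ((φ x : ↥o') : GolayPt) = γ x) (e : Equiv.Perm ↥o)
    (he : e ∈ (resO o).range) : φ.permCongr e ∈ (resO o').range := by
  obtain ⟨⟨g, hg, h⟩, rfl⟩ := he
  have hφs : ∀ y : ↥o', ((φ.symm y : ↥o) : GolayPt) = γ⁻¹ y := by
    intro y
    have := hφ (φ.symm y)
    rw [Equiv.apply_symm_apply] at this
    rw [this, Equiv.Perm.coe_inv, Equiv.symm_apply_apply]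
  have hmem : ∀ y, y ∈ o' ↔ γ⁻¹ y ∈ o := by
    intro y
    constructor
    · intro hy
      rw [← hφs ⟨y, hy⟩]
      exact (φ.symm ⟨y, hy⟩).2
    · intro hy
      have := (φ ⟨_, hy⟩).2
      rw [hφ ⟨_, hy⟩] at this
      simpa using this
  have h' : ∀ y, (γ * g * γ⁻¹) y ∈ o' ↔ y ∈ o' := by
    intro y
    rw [hmem, hmem y, ← h (γ⁻¹ y)]
    simp
  refine ⟨⟨γ * g * γ⁻¹, M24.mul_mem (M24.mul_mem hγ hg) (M24.inv_mem hγ), h'⟩, ?_⟩
  apply Equiv.ext
  intro y
  apply Subtype.ext
  rw [resO_apply, Equiv.permCongr_apply, hφ, resO_apply, hφs]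
  rfl

theorem range_resO_eq_alt (o : Finset GolayPt) (ho : o ∈ octads) :
    (resO o).range = alternatingGroup ↥o := by
  obtain ⟨γ, hγ, rfl⟩ := octads_transitive' _ o octB_mem_octads ho
  let φ : ↥(dec octB) ≃ ↥(γ • dec octB) :=
    γ.subtypeEquiv (fun a => (Finset.smul_mem_smul_finset_iff γ).symm)
  have hφ : ∀ x : ↥(dec octB), ((φ x : ↥(γ • dec octB)) : GolayPt) = γ x := fun _ => rfl
  have hφs : ∀ y : ↥(γ • dec octB), ((φ.symm y : ↥(dec octB)) : GolayPt) = γ⁻¹ y := fun _ => rfl
  ext e
  rw [Equiv.Perm.mem_alternatingGroup]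
  constructor
  · intro he
    have h1 := range_transport γ⁻¹ (M24.inv_mem hγ) _ _ φ.symm hφs e he
    rw [range_resO_octB, Equiv.Perm.mem_alternatingGroup, Equiv.Perm.sign_permCongr] at h1
    exact h1
  · intro he
    have h1 : φ.symm.permCongr e ∈ (resO (dec octB)).range := by
      rw [range_resO_octB, Equiv.Perm.mem_alternatingGroup, Equiv.Perm.sign_permCongr]
      exact he
    have h2 := range_transport γ hγ _ _ φ hφ _ h1
    have h3 : φ.permCongr (φ.symm.permCongr e) = e := by
      apply Equiv.ext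
      intro y
      simp [Equiv.permCongr_apply]
    rwa [h3] at h2

/-! ### the pointwise stabiliser of an octad -/

theorem smul_octB_eq_of_fixK {k : Equiv.Perm GolayPt} (hk : k ∈ fixK octBl) :
    k • dec octB = dec octB := by
  rw [smul_eq_iff_forall]
  have hfix := (mem_fixK_octBl.mp hk).2
  intro x
  constructor
  · intro hx
    by_contra hx'
    have h1 := hfix _ hx
    have h2 := k.injective h1
    rw [h2] at hx
    exact hx' hx
  · intro hx
    rw [hfix x hx]
    exact hx

theorem mem_smul_iff' (γ : Equiv.Perm GolayPt) (o : Finset GolayPt) (x : GolayPt) :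
    x ∈ γ • o ↔ γ⁻¹ x ∈ o := by
  rw [← Finset.inv_smul_mem_iff, Equiv.Perm.smul_def]

/-- the pointwise stabiliser of an octad is transitive on the points outside. -/
theorem octad_ker_trans (o : Finset GolayPt) (ho : o ∈ octads) (p q : GolayPt) (hp : p ∉ o)
    (hq : q ∉ o) : ∃ k ∈ M24, (∀ x ∈ o, k x = x) ∧ k p = q := by
  obtain ⟨γ, hγ, rfl⟩ := octads_transitive' _ o octB_mem_octads ho
  rw [mem_smul_iff'] at hp hq
  obtain ⟨k1, hk1, h1⟩ := kerO_trans _ hp
  obtain ⟨k2, hk2, h2⟩ := kerO_trans _ hq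
  refine ⟨γ * (k2 * k1⁻¹) * γ⁻¹, M24.mul_mem (M24.mul_mem hγ (M24.mul_mem hk2.1 (M24.inv_mem hk1.1)))
    (M24.inv_mem hγ), ?_, ?_⟩
  · intro x hx
    rw [mem_smul_iff'] at hx
    have hk : k2 * k1⁻¹ ∈ fixK octBl := (fixK octBl).mul_mem hk2 ((fixK octBl).inv_mem hk1)
    have := (mem_fixK_octBl.mp hk).2 _ hx
    simp only [Equiv.Perm.mul_apply] at this ⊢
    rw [this]
    simp
  · simp only [Equiv.Perm.mul_apply]
    rw [← h1]
    simp only [Equiv.Perm.coe_inv, Equiv.symm_apply_apply]
    rw [h2]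
    simp

theorem conj_fix {α : Type*} (δ g : Equiv.Perm α) (x : α) (h : g (δ x) = δ x) :
    (δ⁻¹ * g * δ) x = x := by
  simp [Equiv.Perm.mul_apply, h]

/-- an element of `M24` fixing an octad pointwise and a further point is the identity. -/
theorem octad_rigid (o : Finset GolayPt) (ho : o ∈ octads) (p : GolayPt) (hp : p ∉ o)
    (g : Equiv.Perm GolayPt) (hg : g ∈ M24) (hgo : ∀ x ∈ o, g x = x) (hgp : g p = p) : g = 1 := by
  obtain ⟨γ, hγ, rfl⟩ := octads_transitive' _ o octB_mem_octads ho
  rw [mem_smul_iff'] at hp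
  obtain ⟨k1, hk1, h1⟩ := kerO_trans _ hp
  have hfix1 := (mem_fixK_octBl.mp hk1).2
  have hmem : (γ * k1)⁻¹ * g * (γ * k1) ∈ fixK (4 :: octBl) := by
    have hm : (γ * k1)⁻¹ * g * (γ * k1) ∈ M24 :=
      M24.mul_mem (M24.mul_mem (M24.inv_mem (M24.mul_mem hγ hk1.1)) hg) (M24.mul_mem hγ hk1.1)
    have hall : (γ * k1)⁻¹ * g * (γ * k1) ∈ fixK octBl := by
      rw [mem_fixK_octBl]
      refine ⟨hm, fun x hx => ?_⟩
      apply conj_fix
      rw [Equiv.Perm.mul_apply, hfix1 x hx]
      exact hgo (γ x) (by rw [mem_smul_iff']; simpa using hx)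
    refine ⟨hm, fun j hj => ?_⟩
    rcases List.mem_cons.mp hj with rfl | hj
    · apply conj_fix
      rw [Equiv.Perm.mul_apply, h1]
      have : γ (γ⁻¹ p) = p := by simp
      rw [this, hgp]
    · exact hall.2 j hj
  have h1' := kerO_rigid hmem
  have : g = (γ * k1) * ((γ * k1)⁻¹ * g * (γ * k1)) * (γ * k1)⁻¹ := by group
  rw [this, h1']
  group

end Cfsg.Agent.Lib.Helper26
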