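import Cfsg.Agent.Lib.Helper26.OctadA8

set_option autoImplicit false

namespace Cfsg.Agent.Lib.Helper26

open Cfsg
open scoped Pointwise

/-! ### the setwise stabiliser of a set in `M24` and its restriction -/

/-- the subgroup of `M24` stabilising `o` setwise. -/
def stabO (o : Finset GolayPt) : Subgroup (Equiv.Perm GolayPt) where
  carrier := {g | g ∈ M24 ∧ ∀ x, g x ∈ o ↔ x ∈ o}
  one_mem' := ⟨M24.one_mem, fun _ => Iff.rfl⟩
  mul_mem' := by
    rintro a b ⟨ha, ha'⟩ ⟨hb, hb'⟩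
    refine ⟨M24.mul_mem ha hb, fun x => ?_⟩
    rw [Equiv.Perm.mul_apply, ha', hb']
  inv_mem' := by
    rintro a ⟨ha, ha'⟩
    refine ⟨M24.inv_mem ha, fun x => ?_⟩
    rw [← ha' (a⁻¹ x), Equiv.Perm.coe_inv, Equiv.apply_symm_apply]

theorem mem_stabO {o : Finset GolayPt} {g : Equiv.Perm GolayPt} :
    g ∈ stabO o ↔ g ∈ M24 ∧ ∀ x, g x ∈ o ↔ x ∈ o := Iff.rfl

theorem smul_eq_iff_forall {o : Finset GolayPt} {g : Equiv.Perm GolayPt} :
    g • o = o ↔ ∀ x, g x ∈ o ↔ x ∈ o := by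
  constructor
  · intro h x
    conv_lhs => rw [← h]
    exact Finset.smul_mem_smul_finset_iff g
  · intro h
    ext p
    rw [← Finset.inv_smul_mem_iff, ← h (g⁻¹ • p), Equiv.Perm.smul_def, Equiv.Perm.coe_inv,
      Equiv.apply_symm_apply]

theorem mem_stabO_iff_smul {o : Finset GolayPt} {g : Equiv.Perm GolayPt} :
    g ∈ stabO o ↔ g ∈ M24 ∧ g • o = o := by
  rw [mem_stabO, smul_eq_iff_forall]

/-- restriction to `o`. -/
def resO (o : Finset GolayPt) : stabO o →* Equiv.Perm ↥o where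
  toFun g := g.1.subtypePerm g.2.2
  map_one' := by
    ext x
    rfl
  map_mul' a b := by
    ext x
    rfl

theorem resO_apply {o : Finset GolayPt} (g : stabO o) (x : ↥o) :
    ((resO o g x : ↥o) : GolayPt) = g.1 x := rfl

theorem image_set_eq_range (o : Finset GolayPt) :
    {e : Equiv.Perm ↥o | ∃ g : Equiv.Perm GolayPt, g ∈ M24 ∧ ∃ h : (∀ x, g x ∈ o ↔ x ∈ o),
      g.subtypePerm h = e} = ((resO o).range : Set (Equiv.Perm ↥o)) := by
  ext e
  constructor
  · rintro ⟨g, hg, h, rfl⟩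
    exact ⟨⟨g, hg, h⟩, rfl⟩
  · rintro ⟨⟨g, hg, h⟩, rfl⟩
    exact ⟨g, hg, h, rfl⟩

/-! ### the order of an octad stabiliser -/

theorem orbit_octad (o : Finset GolayPt) (ho : o ∈ octads) : MulAction.orbit M24 o = octads := by
  ext o'
  rw [mem_orbit_M24_iff]
  constructor
  · rintro ⟨g, hg, rfl⟩
    exact (smul_mem_octads_iff hg o).mpr ho
  · intro ho'
    obtain ⟨g1, hg1, rfl⟩ := octads_transitive o ho
    obtain ⟨g2, hg2, rfl⟩ := octads_transitive o' ho'
    refine ⟨g2 * g1⁻¹, M24.mul_mem hg2 (M24.inv_mem hg1), ?_⟩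
    rw [mul_smul, inv_smul_smul]

/-- the stabiliser in `↥M24` against `stabO`. -/
def stabOEquiv (o : Finset GolayPt) : MulAction.stabilizer M24 o ≃ stabO o where
  toFun x := ⟨x.1.1, mem_stabO_iff_smul.mpr ⟨x.1.2, mem_stabilizer_M24_iff.mp x.2⟩⟩
  invFun y := ⟨⟨y.1, (mem_stabO_iff_smul.mp y.2).1⟩,
    mem_stabilizer_M24_iff.mpr (mem_stabO_iff_smul.mp y.2).2⟩
  left_inv _ := rfl
  right_inv _ := rfl

theorem card_stabO (o : Finset GolayPt) (ho : o ∈ octads) : Nat.card (stabO o) = 322560 := by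
  have h1 : (MulAction.stabilizer M24 o).index = 759 := by
    rw [MulAction.index_stabilizer, orbit_octad o ho, ncard_octads]
  have h2 := Subgroup.card_mul_index (MulAction.stabilizer M24 o)
  rw [h1, card_M24, Nat.card_congr (stabOEquiv o)] at h2
  omega

end Cfsg.Agent.Lib.Helper26
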