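import Cfsg.Agent.Lib.Helper26.Data

set_option autoImplicit false

namespace Cfsg.Agent.Lib.Helper26

open Cfsg
open scoped Pointwise

/-- all codeword masks of weight `n`, ordered by information bits. -/
def weightL (n : ℕ) : List ℕ := ((List.range 4096).map Golay.encode).filter (fun c => pc 24 c == n)

theorem mem_weightL {n c : ℕ} : c ∈ weightL n ↔ ∃ k, k < 4096 ∧ pc 24 (Golay.encode k) = n ∧ c = Golay.encode k := by
  simp only [weightL, List.mem_filter, List.mem_map, List.mem_range, beq_iff_eq]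
  constructor
  · rintro ⟨⟨k, hk, rfl⟩, h⟩
    exact ⟨k, hk, h, rfl⟩
  · rintro ⟨k, hk, h, rfl⟩
    exact ⟨⟨k, hk, rfl⟩, h⟩

theorem weightL_lt {n c : ℕ} (h : c ∈ weightL n) : c < 2 ^ 24 := by
  obtain ⟨k, -, -, rfl⟩ := mem_weightL.mp h
  exact Golay.encode_lt k

theorem weightL_code {n c : ℕ} (h : c ∈ weightL n) : Golay.encode (c % 4096) = c := by
  obtain ⟨k, hk, -, rfl⟩ := mem_weightL.mp h
  rw [Golay.encode_mod k hk]

theorem weightL_pc {n c : ℕ} (h : c ∈ weightL n) : pc 24 c = n := by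
  obtain ⟨k, -, hp, rfl⟩ := mem_weightL.mp h
  exact hp

theorem weightL_nodup (n : ℕ) : (weightL n).Nodup := by
  apply List.Nodup.filter
  apply List.Nodup.map_on _ List.nodup_range
  intro a ha b hb h
  rw [List.mem_range] at ha hb
  rw [← Golay.encode_mod a ha, ← Golay.encode_mod b hb, h]

theorem mem_wordsOfWeight_iff' (n : ℕ) (b : Finset GolayPt) :
    b ∈ wordsOfWeight (golayCode : Set (GolayPt → ZMod 2)) n ↔ ∃ c ∈ weightL n, b = dec c := by
  rw [mem_wordsOfWeight_iff]
  constructor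
  · rintro ⟨k, hk, hp, rfl⟩
    exact ⟨_, mem_weightL.mpr ⟨k, hk, hp, rfl⟩, rfl⟩
  · rintro ⟨c, hc, rfl⟩
    obtain ⟨k, hk, hp, rfl⟩ := mem_weightL.mp hc
    exact ⟨k, hk, hp, rfl⟩

theorem octL_eq : octL = weightL 8 := by decide +kernel

theorem dodL_eq : dodL = weightL 12 := by decide +kernel

theorem mem_octads_iff (o : Finset GolayPt) : o ∈ octads ↔ ∃ c ∈ octL, o = dec c := by
  rw [octL_eq]
  exact mem_wordsOfWeight_iff' 8 o

theorem mem_dodecads_iff (o : Finset GolayPt) : o ∈ dodecads ↔ ∃ c ∈ dodL, o = dec c := by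
  rw [dodL_eq]
  exact mem_wordsOfWeight_iff' 12 o

theorem octL_lt {c : ℕ} (h : c ∈ octL) : c < 2 ^ 24 := by
  rw [octL_eq] at h
  exact weightL_lt h

theorem dodL_lt {c : ℕ} (h : c ∈ dodL) : c < 2 ^ 24 := by
  rw [dodL_eq] at h
  exact weightL_lt h

theorem octL_nodup : octL.Nodup := by
  rw [octL_eq]
  exact weightL_nodup 8

theorem dodL_nodup : dodL.Nodup := by
  rw [dodL_eq]
  exact weightL_nodup 12

theorem m24Gens_ok : ∀ d ∈ m24Gens, d.ok = true := by
  intro d hd
  exact PermData.ok_of_inM24 (List.all_eq_true.mp m24Gens_inM24 d hd)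

theorem m24Gens_mem : ∀ d ∈ m24Gens, d.toPerm ∈ M24 := by
  intro d hd
  exact PermData.toPerm_mem_M24 (List.all_eq_true.mp m24Gens_inM24 d hd)

/-- the standard octad. -/
abbrev oct0 : ℕ := 13062145

/-- the standard dodecad. -/
abbrev dod0 : ℕ := 8245261

theorem octPaths_ok : checkPaths m24Gens oct0 octL octWords = true := by decide +kernel

theorem dodPaths_ok : checkPaths m24Gens dod0 dodL dodWords = true := by decide +kernel

/-- `M24` is transitive on octads. -/
theorem octads_transitive (o : Finset GolayPt) (ho : o ∈ octads) :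
    ∃ g ∈ M24, g • dec oct0 = o := by
  obtain ⟨c, hc, rfl⟩ := (mem_octads_iff o).mp ho
  exact orbit_cert m24Gens m24Gens_ok M24 m24Gens_mem oct0 octL octWords octPaths_ok c hc

/-- `M24` is transitive on dodecads. -/
theorem dodecads_transitive (o : Finset GolayPt) (ho : o ∈ dodecads) :
    ∃ g ∈ M24, g • dec dod0 = o := by
  obtain ⟨c, hc, rfl⟩ := (mem_dodecads_iff o).mp ho
  exact orbit_cert m24Gens m24Gens_ok M24 m24Gens_mem dod0 dodL dodWords dodPaths_ok c hc

theorem oct0_mem : dec oct0 ∈ octads := (mem_octads_iff _).mpr ⟨oct0, by decide +kernel, rfl⟩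

theorem dod0_mem : dec dod0 ∈ dodecads := (mem_dodecads_iff _).mpr ⟨dod0, by decide +kernel, rfl⟩

end Cfsg.Agent.Lib.Helper26
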