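import Cfsg.Agent.Lib.Helper26.Trans5
import Cfsg.Agent.Lib.Helper26.OctadMeet

set_option autoImplicit false

namespace Cfsg.Agent.Lib.Helper26

open Cfsg
open scoped Pointwise

/-- `g` fixes every point of the mask `F`. -/
def FixesMask (g : Equiv.Perm GolayPt) (F : ℕ) : Prop := ∀ p ∈ dec F, g p = p

theorem FixesMask.smul_subset {g : Equiv.Perm GolayPt} {F : ℕ} (h : FixesMask g F)
    {s : Finset GolayPt} (hs : s ⊆ dec F) : g • s = s := by
  ext p
  rw [Finset.mem_smul_finset]
  constructor
  · rintro ⟨q, hq, rfl⟩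
    rw [Equiv.Perm.smul_def, h q (hs hq)]
    exact hq
  · intro hp
    exact ⟨p, hp, h p (hs hp)⟩

/-- an element of `M24` fixing five points of an octad preserves the octad. -/
theorem preserves_octad {g : Equiv.Perm GolayPt} (hg : g ∈ M24) {F : ℕ} (hF : FixesMask g F)
    {o : ℕ} (ho : o ∈ octL) (h5 : 5 ≤ pc 24 (o &&& F)) : g • dec o = dec o := by
  have hoct : dec o ∈ octads := (mem_octads_iff _).mpr ⟨o, ho, rfl⟩
  have hoct' : g • dec o ∈ octads := (smul_mem_octads_iff hg _).mpr hoct
  have hsub : dec (o &&& F) ⊆ g • dec o ∩ dec o := by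
    have h1 : g • dec (o &&& F) = dec (o &&& F) :=
      hF.smul_subset (by rw [dec_land]; exact Finset.inter_subset_right)
    intro p hp
    rw [Finset.mem_inter]
    constructor
    · rw [← h1] at hp
      exact Finset.smul_finset_subset_smul_finset
        (by rw [dec_land]; exact Finset.inter_subset_left) hp
    · rw [dec_land] at hp
      exact (Finset.mem_inter.mp hp).1
  have hcard : 5 ≤ (g • dec o ∩ dec o).card := by
    calc 5 ≤ pc 24 (o &&& F) := h5
      _ = (dec (o &&& F)).card := (card_dec _).symm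
      _ ≤ _ := Finset.card_le_card hsub
  have h8 : (g • dec o ∩ dec o).card = 8 := by
    rcases octad_inter_card _ _ hoct' hoct with h | h | h | h <;> omega
  have h1 : g • dec o ∩ dec o = dec o :=
    Finset.eq_of_subset_of_card_le Finset.inter_subset_right (by rw [h8, hoct.2])
  have h2 : dec o ⊆ g • dec o := by
    intro p hp
    have hp' : p ∈ g • dec o ∩ dec o := by rw [h1]; exact hp
    exact (Finset.mem_inter.mp hp').1
  have h3 : dec o = g • dec o := Finset.eq_of_subset_of_card_le h2 (by rw [hoct'.2, hoct.2])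
  exact h3.symm

/-- one propagation step: two preserved octads whose common part outside `F` is a single point. -/
theorem rigid_step {g : Equiv.Perm GolayPt} (hg : g ∈ M24) {F : ℕ} (hF : FixesMask g F)
    {o1 o2 : ℕ} (h1 : o1 ∈ octL) (h2 : o2 ∈ octL)
    (h51 : 5 ≤ pc 24 (o1 &&& F)) (h52 : 5 ≤ pc 24 (o2 &&& F))
    (hr : pc 24 ((o1 &&& o2) ^^^ (o1 &&& o2 &&& F)) = 1) :
    FixesMask g (F ||| ((o1 &&& o2) ^^^ (o1 &&& o2 &&& F))) := by
  have hp1 := preserves_octad hg hF h1 h51
  have hp2 := preserves_octad hg hF h2 h52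
  have hp12 : g • dec (o1 &&& o2) = dec (o1 &&& o2) := by
    rw [dec_land, Finset.smul_finset_inter, hp1, hp2]
  intro p hp
  rw [dec_lor, Finset.mem_union] at hp
  rcases hp with hp | hp
  · exact hF p hp
  · -- the new point
    have hmem : ∀ q, q ∈ dec ((o1 &&& o2) ^^^ (o1 &&& o2 &&& F)) ↔
        q ∈ dec (o1 &&& o2) ∧ q ∉ dec F := by
      intro q
      rw [dec_xor, Finset.mem_symmDiff, dec_land (o1 &&& o2) F, Finset.mem_inter]
      constructor
      · rintro (⟨h1, h2⟩ | ⟨⟨h1, _⟩, h3⟩)
        · exact ⟨h1, fun hF => h2 ⟨h1, hF⟩⟩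
        · exact absurd h1 h3
      · rintro ⟨h1, h2⟩
        exact Or.inl ⟨h1, fun h => h2 h.2⟩
    obtain ⟨a, ha⟩ := Finset.card_eq_one.mp (by rw [card_dec]; exact hr)
    have hpa : p = a := by
      rw [ha] at hp
      exact Finset.mem_singleton.mp hp
    have hgp : g p ∈ dec ((o1 &&& o2) ^^^ (o1 &&& o2 &&& F)) := by
      rw [hmem]
      have hp' := (hmem p).mp hp
      constructor
      · rw [← hp12]
        exact Finset.smul_mem_smul_finset hp'.1
      · intro hgF
        have := hF (g p) hgF
        have hpe : g p = p := g.injective this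
        rw [hpe] at hgF
        exact hp'.2 hgF
    rw [ha] at hgp
    rw [Finset.mem_singleton.mp hgp, hpa]

/-- run a list of propagation steps; the result is `0` if a step is not valid. -/
def runSteps : ℕ → List (ℕ × ℕ) → ℕ
  | F, [] => F
  | F, (o1, o2) :: rest =>
    if octL.contains o1 && octL.contains o2 && decide (5 ≤ pc 24 (o1 &&& F)) &&
        decide (5 ≤ pc 24 (o2 &&& F)) && (pc 24 ((o1 &&& o2) ^^^ (o1 &&& o2 &&& F)) == 1) then
      runSteps (F ||| ((o1 &&& o2) ^^^ (o1 &&& o2 &&& F))) rest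
    else 0

theorem runSteps_sound {g : Equiv.Perm GolayPt} (hg : g ∈ M24) (steps : List (ℕ × ℕ)) (F : ℕ)
    (hF : FixesMask g F) : FixesMask g (runSteps F steps) := by
  induction steps generalizing F with
  | nil => exact hF
  | cons s rest ih =>
    obtain ⟨o1, o2⟩ := s
    simp only [runSteps]
    split
    · rename_i hc
      simp only [Bool.and_eq_true, List.contains_iff_mem, decide_eq_true_eq, beq_iff_eq] at hc
      obtain ⟨⟨⟨⟨h1, h2⟩, h51⟩, h52⟩, hr⟩ := hc
      exact ih _ (rigid_step hg hF h1 h2 h51 h52 hr)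
    · intro p hp
      rw [dec_zero] at hp
      exact absurd hp (Finset.notMem_empty p)

theorem eq_one_of_fixesMask_all {g : Equiv.Perm GolayPt} (h : FixesMask g 16777215) : g = 1 := by
  apply Equiv.ext
  intro p
  apply h
  rw [mem_dec]
  have h2 : (16777215 : ℕ) = 2 ^ 24 - 1 := by norm_num
  rw [h2, Nat.testBit_two_pow_sub_one]
  exact decide_eq_true (idx_lt p)

/-- **rigidity certificate**: an element of `M24` fixing the points of `F` is the identity. -/
theorem rigid_cert (F : ℕ) (steps : List (ℕ × ℕ)) (h : runSteps F steps = 16777215)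
    {g : Equiv.Perm GolayPt} (hg : g ∈ M24) (hF : FixesMask g F) : g = 1 :=
  eq_one_of_fixesMask_all (h ▸ runSteps_sound hg steps F hF)

theorem fixesMask_of_fixK {l : List ℕ} {g : Equiv.Perm GolayPt} (hg : g ∈ fixK l) (F : ℕ)
    (hF : (List.range 24).all (fun i => !F.testBit i || l.contains i) = true) : FixesMask g F := by
  intro p hp
  have := List.all_eq_true.mp hF (idx p) (List.mem_range.mpr (idx_lt p))
  rw [mem_dec] at hp
  simp only [hp, Bool.not_true, Bool.false_or, List.contains_iff_mem] at this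
  have h2 := hg.2 _ this
  rwa [pt_idx] at h2

end Cfsg.Agent.Lib.Helper26
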