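import Cfsg.Agent.Lib.Helper26.SgsData

set_option autoImplicit false

namespace Cfsg.Agent.Lib.Helper26

open Cfsg
open scoped Pointwise

theorem dec_two_pow (j : ℕ) (hj : j < 24) : dec (2 ^ j) = {pt j} := by
  ext p
  rw [mem_dec, Nat.testBit_two_pow, Finset.mem_singleton]
  simp only [decide_eq_true_eq]
  constructor
  · intro h
    rw [h, pt_idx]
  · intro h
    rw [h, idx_pt j hj]

/-- the subgroup of `M24` fixing the points with indices in `l`. -/
def fixK (l : List ℕ) : Subgroup (Equiv.Perm GolayPt) where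
  carrier := {g | g ∈ M24 ∧ ∀ j ∈ l, g (pt j) = pt j}
  one_mem' := ⟨M24.one_mem, fun _ _ => rfl⟩
  mul_mem' := by
    rintro a b ⟨ha, ha'⟩ ⟨hb, hb'⟩
    refine ⟨M24.mul_mem ha hb, fun j hj => ?_⟩
    rw [Equiv.Perm.mul_apply, hb' j hj, ha' j hj]
  inv_mem' := by
    rintro a ⟨ha, ha'⟩
    refine ⟨M24.inv_mem ha, fun j hj => ?_⟩
    rw [Equiv.Perm.inv_eq_iff_eq, ha' j hj]

theorem mem_fixK {l : List ℕ} {g : Equiv.Perm GolayPt} :
    g ∈ fixK l ↔ g ∈ M24 ∧ ∀ j ∈ l, g (pt j) = pt j := Iff.rfl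

/-- the table fixes all indices in `l`. -/
def PermData.fixesAll (d : PermData) (l : List ℕ) : Bool :=
  l.all (fun j => decide (j < 24) && (d.tbl.getD j 0 == j))

theorem PermData.toPerm_mem_fixK {d : PermData} {l : List ℕ} (h : d.inM24 = true)
    (hf : d.fixesAll l = true) : d.toPerm ∈ fixK l := by
  refine ⟨PermData.toPerm_mem_M24 h, fun j hj => ?_⟩
  have := List.all_eq_true.mp hf j hj
  simp only [Bool.and_eq_true, decide_eq_true_eq, beq_iff_eq] at this
  rw [PermData.toPerm_apply (PermData.ok_of_inM24 h), idx_pt j this.1, this.2]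

theorem sgs_inM24 : sgs.all PermData.inM24 = true := by decide +kernel

theorem sgs_mem_fixK (k : ℕ) (l : List ℕ)
    (h : (sgs.drop k).all (fun d => d.fixesAll l) = true) :
    ∀ d ∈ sgs.drop k, d.toPerm ∈ fixK l := by
  intro d hd
  exact PermData.toPerm_mem_fixK (List.all_eq_true.mp sgs_inM24 d (List.mem_of_mem_drop hd))
    (List.all_eq_true.mp h d hd)

theorem sgs_ok (k : ℕ) : ∀ d ∈ sgs.drop k, d.ok = true := by
  intro d hd
  exact PermData.ok_of_inM24 (List.all_eq_true.mp sgs_inM24 d (List.mem_of_mem_drop hd))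

/-- generic level statement from a certificate. -/
theorem level_cert (k : ℕ) (l : List ℕ) (b : ℕ) (hb : b < 24) (pts : List ℕ)
    (ws : List (List ℕ))
    (hfix : (sgs.drop k).all (fun d => d.fixesAll l) = true)
    (hcheck : checkPaths (sgs.drop k) (2 ^ b) (pts.map (2 ^ ·)) ws = true)
    (hcover : (List.range 24).all (fun j => l.contains j || pts.contains j) = true) :
    ∀ p : GolayPt, (∀ j ∈ l, p ≠ pt j) → ∃ h ∈ fixK l, h (pt b) = p := by
  intro p hp
  have hmem : idx p ∈ pts := by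
    have := List.all_eq_true.mp hcover (idx p) (List.mem_range.mpr (idx_lt p))
    simp only [Bool.or_eq_true, List.contains_iff_mem] at this
    rcases this with h | h
    · exact absurd (pt_idx p).symm (hp _ h)
    · exact h
  obtain ⟨g, hg, hgs⟩ := orbit_cert (sgs.drop k) (sgs_ok k) (fixK l) (sgs_mem_fixK k l hfix)
    (2 ^ b) (pts.map (2 ^ ·)) ws hcheck (2 ^ idx p) (List.mem_map.mpr ⟨idx p, hmem, rfl⟩)
  refine ⟨g, hg, ?_⟩
  rw [dec_two_pow b hb, dec_two_pow _ (idx_lt p), Finset.smul_finset_singleton, pt_idx,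
    Finset.singleton_inj] at hgs
  exact hgs

/-- `M24` maps the listed base points (as a list of indices) to any list of distinct points. -/
def IsTransOn (bs : List ℕ) : Prop :=
  ∀ as : List GolayPt, as.length = bs.length → as.Nodup →
    ∃ g ∈ M24, as = bs.map (fun j => g (pt j))

theorem isTransOn_nil : IsTransOn [] := by
  intro as hlen _
  exact ⟨1, M24.one_mem, by simpa using hlen⟩

theorem isTransOn_cons {bs : List ℕ} {b : ℕ} (ih : IsTransOn bs)
    (hstep : ∀ p : GolayPt, (∀ j ∈ bs, p ≠ pt j) → ∃ h ∈ fixK bs, h (pt b) = p) :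
    IsTransOn (b :: bs) := by
  intro as hlen hnd
  cases as with
  | nil => simp at hlen
  | cons a as' =>
    simp only [List.length_cons, add_left_inj] at hlen
    rw [List.nodup_cons] at hnd
    obtain ⟨g, hg, hgas⟩ := ih as' hlen hnd.2
    have hp : ∀ j ∈ bs, g⁻¹ a ≠ pt j := by
      intro j hj h
      apply hnd.1
      rw [hgas, List.mem_map]
      refine ⟨j, hj, ?_⟩
      rw [← h]
      simp
    obtain ⟨h, hh, hhb⟩ := hstep (g⁻¹ a) hp
    refine ⟨g * h, M24.mul_mem hg hh.1, ?_⟩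
    simp only [List.map_cons, Equiv.Perm.mul_apply, hhb]
    congr 1
    · simp
    · rw [hgas]
      apply List.map_congr_left
      intro j hj
      rw [hh.2 j hj]

theorem level0 : ∀ p : GolayPt, (∀ j ∈ ([] : List ℕ), p ≠ pt j) → ∃ h ∈ fixK [], h (pt 23) = p :=
  level_cert 0 [] 23 (by norm_num) lvlPts0 lvlWords0 (by decide +kernel) (by decide +kernel)
    (by decide +kernel)

theorem level1 : ∀ p : GolayPt, (∀ j ∈ [23], p ≠ pt j) → ∃ h ∈ fixK [23], h (pt 0) = p :=
  level_cert 1 [23] 0 (by norm_num) lvlPts1 lvlWords1 (by decide +kernel) (by decide +kernel)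
    (by decide +kernel)

theorem level2 : ∀ p : GolayPt, (∀ j ∈ [0, 23], p ≠ pt j) → ∃ h ∈ fixK [0, 23], h (pt 1) = p :=
  level_cert 2 [0, 23] 1 (by norm_num) lvlPts2 lvlWords2 (by decide +kernel) (by decide +kernel)
    (by decide +kernel)

theorem level3 : ∀ p : GolayPt, (∀ j ∈ [1, 0, 23], p ≠ pt j) → ∃ h ∈ fixK [1, 0, 23], h (pt 2) = p :=
  level_cert 3 [1, 0, 23] 2 (by norm_num) lvlPts3 lvlWords3 (by decide +kernel) (by decide +kernel)
    (by decide +kernel)

theorem level4 : ∀ p : GolayPt, (∀ j ∈ [2, 1, 0, 23], p ≠ pt j) →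
    ∃ h ∈ fixK [2, 1, 0, 23], h (pt 3) = p :=
  level_cert 4 [2, 1, 0, 23] 3 (by norm_num) lvlPts4 lvlWords4 (by decide +kernel)
    (by decide +kernel) (by decide +kernel)

theorem isTransOn1 : IsTransOn [23] := isTransOn_cons isTransOn_nil level0
theorem isTransOn2 : IsTransOn [0, 23] := isTransOn_cons isTransOn1 level1
theorem isTransOn3 : IsTransOn [1, 0, 23] := isTransOn_cons isTransOn2 level2
theorem isTransOn4 : IsTransOn [2, 1, 0, 23] := isTransOn_cons isTransOn3 level3
/-- `M24` is 5-transitive. -/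
theorem isTransOn5 : IsTransOn [3, 2, 1, 0, 23] := isTransOn_cons isTransOn4 level4

/-- transitivity on subsets of a given size `≤ 5`. -/
theorem exists_smul_eq_of_card {bs : List ℕ} (hT : IsTransOn bs) (t : Finset GolayPt)
    (ht : t.card = bs.length) :
    ∃ g ∈ M24, g • (bs.map pt).toFinset = t := by
  obtain ⟨g, hg, hgt⟩ := hT t.toList (by rw [Finset.length_toList, ht]) t.nodup_toList
  refine ⟨g, hg, ?_⟩
  rw [← Finset.toList_toFinset t, hgt]
  ext p
  simp only [Finset.mem_smul_finset, List.mem_toFinset, List.mem_map]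
  constructor
  · rintro ⟨q, ⟨j, hj, rfl⟩, rfl⟩
    exact ⟨j, hj, rfl⟩
  · rintro ⟨j, hj, rfl⟩
    exact ⟨pt j, ⟨j, hj, rfl⟩, rfl⟩

end Cfsg.Agent.Lib.Helper26
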