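import Cfsg.Agent.Lib.Helper26.SextetData
import Cfsg.Agent.S1550

set_option autoImplicit false

namespace Cfsg.Agent.Lib.Helper26

open Cfsg
open scoped Pointwise
open Cfsg.Agent.S1550 (S0 s0 S0_mem S0_unique mem_S0 t0 t0_eq)

/-! ### generalities on sextets -/

theorem sextet_disjoint {S : Finset (Finset GolayPt)} (hS : S ∈ sextets) {t u : Finset GolayPt}
    (ht : t ∈ S) (hu : u ∈ S) (htu : t ≠ u) : Disjoint t u := by
  have hoct := hS.2.2 t ht u hu htu
  have h1 := Finset.card_union_add_card_inter t u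
  have h8 : (t ∪ u).card = 8 := hoct.2
  rw [h8, hS.2.1 t ht, hS.2.1 u hu] at h1
  rw [Finset.disjoint_iff_inter_eq_empty, ← Finset.card_eq_zero]
  omega

theorem sextet_cover {S : Finset (Finset GolayPt)} (hS : S ∈ sextets) (p : GolayPt) :
    ∃ t ∈ S, p ∈ t := by
  have hdisj : ∀ t ∈ S, ∀ u ∈ S, t ≠ u → Disjoint (id t) (id u) :=
    fun t ht u hu htu => sextet_disjoint hS ht hu htu
  have hcard : (S.biUnion id).card = 24 := by
    rw [Finset.card_biUnion hdisj]
    have : ∀ t ∈ S, (id t).card = 4 := fun t ht => hS.2.1 t ht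
    rw [Finset.sum_congr rfl this, Finset.sum_const, smul_eq_mul, hS.1]
  have huniv : S.biUnion id = Finset.univ := by
    apply Finset.eq_univ_of_card
    rw [hcard]
    decide
  have hp : p ∈ S.biUnion id := by rw [huniv]; exact Finset.mem_univ p
  obtain ⟨t, ht, hpt⟩ := Finset.mem_biUnion.mp hp
  exact ⟨t, ht, hpt⟩

theorem sextets_transitive (S : Finset (Finset GolayPt)) (hS : S ∈ sextets) :
    ∃ γ ∈ M24, γ • S0 = S := by
  have hne : S.Nonempty := by
    rw [← Finset.card_pos, hS.1]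
    norm_num
  obtain ⟨t, ht⟩ := hne
  obtain ⟨g, hg, hgt⟩ := exists_smul_eq_of_card isTransOn4 t (hS.2.1 t ht)
  rw [← t0_eq] at hgt
  refine ⟨g, hg, ?_⟩
  have h1 : g⁻¹ • S ∈ sextets := smul_mem_sextets (M24.inv_mem hg) hS
  have h2 : dec t0 ∈ g⁻¹ • S := by
    rw [← inv_smul_smul g (dec t0), hgt]
    exact Finset.smul_mem_smul_finset ht
  rw [← S0_unique _ h1 h2, smul_inv_smul]

theorem orbit_sextet (S : Finset (Finset GolayPt)) (hS : S ∈ sextets) :
    MulAction.orbit M24 S = sextets := by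
  ext S'
  constructor
  · rintro ⟨g, rfl⟩
    exact smul_mem_sextets g.2 hS
  · intro hS'
    obtain ⟨g1, hg1, rfl⟩ := sextets_transitive S hS
    obtain ⟨g2, hg2, rfl⟩ := sextets_transitive S' hS'
    refine ⟨⟨g2 * g1⁻¹, M24.mul_mem hg2 (M24.inv_mem hg1)⟩, ?_⟩
    show (g2 * g1⁻¹) • g1 • S0 = g2 • S0
    rw [mul_smul, inv_smul_smul]

/-! ### the stabiliser of a set of sets, the kernel of its action and the Klein four part -/

/-- the subgroup of `M24` stabilising the set of sets `S`. -/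
def stabS (S : Finset (Finset GolayPt)) : Subgroup (Equiv.Perm GolayPt) where
  carrier := {g | g ∈ M24 ∧ g • S = S}
  one_mem' := ⟨M24.one_mem, one_smul _ _⟩
  mul_mem' := by
    rintro a b ⟨ha, ha'⟩ ⟨hb, hb'⟩
    exact ⟨M24.mul_mem ha hb, by rw [mul_smul, hb', ha']⟩
  inv_mem' := by
    rintro a ⟨ha, ha'⟩
    exact ⟨M24.inv_mem ha, by rw [inv_smul_eq_iff, ha']⟩

/-- the subgroup of `M24` stabilising each member of `S`. -/
def kerS (S : Finset (Finset GolayPt)) : Subgroup (Equiv.Perm GolayPt) where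
  carrier := {g | g ∈ M24 ∧ ∀ t ∈ S, g • t = t}
  one_mem' := ⟨M24.one_mem, fun _ _ => one_smul _ _⟩
  mul_mem' := by
    rintro a b ⟨ha, ha'⟩ ⟨hb, hb'⟩
    exact ⟨M24.mul_mem ha hb, fun t ht => by rw [mul_smul, hb' t ht, ha' t ht]⟩
  inv_mem' := by
    rintro a ⟨ha, ha'⟩
    exact ⟨M24.inv_mem ha, fun t ht => by rw [inv_smul_eq_iff, ha' t ht]⟩

/-- the subgroup of `M24` stabilising each member of `S` and each of its splittings into two
pairs. -/
def nrmS (S : Finset (Finset GolayPt)) : Subgroup (Equiv.Perm GolayPt) where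
  carrier := {g | g ∈ M24 ∧ ∀ t ∈ S, g • t = t ∧
    ∀ d, d ⊆ t → d.card = 2 → (t \ d).card = 2 → g • d = d ∨ g • d = t \ d}
  one_mem' := ⟨M24.one_mem, fun _ _ => ⟨one_smul _ _, fun _ _ _ _ => Or.inl (one_smul _ _)⟩⟩
  mul_mem' := by
    rintro a b ⟨ha, ha'⟩ ⟨hb, hb'⟩
    refine ⟨M24.mul_mem ha hb, fun t ht => ⟨by rw [mul_smul, (hb' t ht).1, (ha' t ht).1], ?_⟩⟩
    intro d hd h2 h2'
    rw [mul_smul]
    rcases (hb' t ht).2 d hd h2 h2' with h | h
    · rw [h]
      exact (ha' t ht).2 d hd h2 h2'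
    · rw [h]
      have := (ha' t ht).2 (t \ d) Finset.sdiff_subset h2'
        (by rw [Finset.sdiff_sdiff_eq_self hd]; exact h2)
      rw [Finset.sdiff_sdiff_eq_self hd] at this
      exact this.symm
  inv_mem' := by
    rintro a ⟨ha, ha'⟩
    refine ⟨M24.inv_mem ha, fun t ht => ⟨by rw [inv_smul_eq_iff, (ha' t ht).1], ?_⟩⟩
    intro d hd h2 h2'
    rcases (ha' t ht).2 d hd h2 h2' with h | h
    · left
      rw [inv_smul_eq_iff, h]
    · right
      rw [inv_smul_eq_iff, Finset.smul_finset_sdiff, (ha' t ht).1, h, Finset.sdiff_sdiff_eq_self hd]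

theorem mem_stabS {S : Finset (Finset GolayPt)} {g : Equiv.Perm GolayPt} :
    g ∈ stabS S ↔ g ∈ M24 ∧ g • S = S := Iff.rfl

theorem mem_kerS {S : Finset (Finset GolayPt)} {g : Equiv.Perm GolayPt} :
    g ∈ kerS S ↔ g ∈ M24 ∧ ∀ t ∈ S, g • t = t := Iff.rfl

theorem mem_nrmS {S : Finset (Finset GolayPt)} {g : Equiv.Perm GolayPt} :
    g ∈ nrmS S ↔ g ∈ M24 ∧ ∀ t ∈ S, g • t = t ∧
      ∀ d, d ⊆ t → d.card = 2 → (t \ d).card = 2 → g • d = d ∨ g • d = t \ d := Iff.rfl

theorem smul_eq_of_forall_mem {S : Finset (Finset GolayPt)} {g : Equiv.Perm GolayPt}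
    (h : ∀ t ∈ S, g • t ∈ S) : g • S = S := by
  apply Finset.eq_of_subset_of_card_le
  · intro u hu
    obtain ⟨t, ht, rfl⟩ := Finset.mem_smul_finset.mp hu
    exact h t ht
  · rw [Finset.card_smul_finset]

theorem kerS_le_stabS (S : Finset (Finset GolayPt)) : kerS S ≤ stabS S := by
  intro g hg
  exact ⟨hg.1, smul_eq_of_forall_mem (fun t ht => by rw [hg.2 t ht]; exact ht)⟩

theorem nrmS_le_kerS (S : Finset (Finset GolayPt)) : nrmS S ≤ kerS S := by
  intro g hg
  exact ⟨hg.1, fun t ht => (hg.2 t ht).1⟩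

theorem conj_mem_stabS {S : Finset (Finset GolayPt)} {γ g : Equiv.Perm GolayPt} (hγ : γ ∈ M24)
    (hg : g ∈ stabS S) : γ * g * γ⁻¹ ∈ stabS (γ • S) := by
  refine ⟨M24.mul_mem (M24.mul_mem hγ hg.1) (M24.inv_mem hγ), ?_⟩
  rw [mul_smul, mul_smul, inv_smul_smul, hg.2]

theorem conj_mem_kerS {S : Finset (Finset GolayPt)} {γ g : Equiv.Perm GolayPt} (hγ : γ ∈ M24)
    (hg : g ∈ kerS S) : γ * g * γ⁻¹ ∈ kerS (γ • S) := by
  refine ⟨M24.mul_mem (M24.mul_mem hγ hg.1) (M24.inv_mem hγ), ?_⟩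
  intro t' ht'
  obtain ⟨t, ht, rfl⟩ := Finset.mem_smul_finset.mp ht'
  rw [mul_smul, mul_smul, inv_smul_smul, hg.2 t ht]

theorem conj_mem_nrmS {S : Finset (Finset GolayPt)} {γ g : Equiv.Perm GolayPt} (hγ : γ ∈ M24)
    (hg : g ∈ nrmS S) : γ * g * γ⁻¹ ∈ nrmS (γ • S) := by
  refine ⟨M24.mul_mem (M24.mul_mem hγ hg.1) (M24.inv_mem hγ), ?_⟩
  intro t' ht'
  obtain ⟨t, ht, rfl⟩ := Finset.mem_smul_finset.mp ht'
  refine ⟨by rw [mul_smul, mul_smul, inv_smul_smul, (hg.2 t ht).1], ?_⟩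
  intro d' hd' h2 h2'
  have hd : γ⁻¹ • d' ⊆ t := by
    have := Finset.smul_finset_subset_smul_finset (a := γ⁻¹) hd'
    rwa [inv_smul_smul] at this
  have h2d : (γ⁻¹ • d').card = 2 := by rw [Finset.card_smul_finset]; exact h2
  have hsd : t \ γ⁻¹ • d' = γ⁻¹ • (γ • t \ d') := by
    rw [Finset.smul_finset_sdiff, inv_smul_smul]
  have h2d' : (t \ γ⁻¹ • d').card = 2 := by
    rw [hsd, Finset.card_smul_finset]
    exact h2'
  rw [mul_smul, mul_smul]
  rcases (hg.2 t ht).2 _ hd h2d h2d' with h | h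
  · left
    rw [h, smul_inv_smul]
  · right
    rw [h, hsd, smul_inv_smul]

/-- elements of `nrmS` of a sextet are involutions. -/
theorem nrmS_sq {S : Finset (Finset GolayPt)} (hS : S ∈ sextets) {x : Equiv.Perm GolayPt}
    (hx : x ∈ nrmS S) : x * x = 1 := by
  apply Equiv.ext
  intro p
  obtain ⟨t, ht, hpt⟩ := sextet_cover hS p
  obtain ⟨htt, hpairs⟩ := hx.2 t ht
  rw [Equiv.Perm.mul_apply, Equiv.Perm.one_apply]
  have hq : x p ∈ t := by
    have := Finset.smul_mem_smul_finset (a := x) hpt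
    rwa [htt] at this
  by_cases hqp : x p = p
  · rw [hqp, hqp]
  · have hd : ({p, x p} : Finset GolayPt) ⊆ t := by
      intro y hy
      simp only [Finset.mem_insert, Finset.mem_singleton] at hy
      rcases hy with rfl | rfl <;> assumption
    have h2 : ({p, x p} : Finset GolayPt).card = 2 := Finset.card_pair (fun h => hqp h.symm)
    have h2' : (t \ {p, x p}).card = 2 := by
      rw [Finset.card_sdiff_of_subset hd, h2, hS.2.1 t ht]
    have hmem : x p ∈ x • ({p, x p} : Finset GolayPt) :=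
      Finset.smul_mem_smul_finset (a := x) (Finset.mem_insert_self p _)
    rcases hpairs _ hd h2 h2' with h | h
    · have hmem2 : x (x p) ∈ x • ({p, x p} : Finset GolayPt) :=
        Finset.smul_mem_smul_finset (a := x) (by simp)
      rw [h] at hmem2
      simp only [Finset.mem_insert, Finset.mem_singleton] at hmem2
      rcases hmem2 with h' | h'
      · exact h'
      · exact absurd (x.injective h') hqp
    · rw [h] at hmem
      have := (Finset.mem_sdiff.mp hmem).2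
      simp at this

end Cfsg.Agent.Lib.Helper26
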