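import Cfsg.Agent.Lib.Helper26.SextetStab

set_option autoImplicit false

namespace Cfsg.Agent.Lib.Helper26

open Cfsg
open scoped Pointwise
open Cfsg.Agent.S1550 (S0 s0 S0_mem S0_unique mem_S0 t0 t0_eq)

/-! ### the explicit data for the standard sextet -/

/-- the masks of the standard sextet. -/
def s0L : List ℕ := [8388615, 4268048, 147496, 2621632, 1082880, 268544]

theorem s0_eq : s0 = s0L := by decide +kernel

theorem mem_S0' {u : Finset GolayPt} : u ∈ S0 ↔ ∃ i, i < 6 ∧ u = dec (s0L.getD i 0) := by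
  rw [mem_S0, s0_eq]
  constructor
  · rintro ⟨a, ha, rfl⟩
    obtain ⟨i, hi, rfl⟩ := List.mem_iff_getElem.mp ha
    exact ⟨i, hi, by rw [List.getD_eq_getElem _ _ hi]⟩
  · rintro ⟨i, hi, rfl⟩
    have hi' : i < s0L.length := hi
    refine ⟨s0L.getD i 0, ?_, rfl⟩
    rw [List.getD_eq_getElem _ _ hi']
    exact List.getElem_mem hi'

theorem s0L_inj : ∀ i < 6, ∀ j < 6, s0L.getD i 0 = s0L.getD j 0 → i = j := by decide +kernel

theorem s0L_lt : ∀ i < 6, s0L.getD i 0 < 2 ^ 24 := by decide +kernel

/-- the swap element for positions `i`, `j`. -/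
def swapD (i j : ℕ) : PermData := sextetSwaps.getD (6 * i + j) swId

theorem swaps_inM24 : sextetSwaps.all PermData.inM24 = true := by decide +kernel

theorem swapD_inM24 (i j : ℕ) (hi : i < 6) (hj : j < 6) : (swapD i j).inM24 = true := by
  have hlt : 6 * i + j < sextetSwaps.length := by
    have : sextetSwaps.length = 36 := rfl
    omega
  rw [swapD, List.getD_eq_getElem _ _ hlt]
  exact List.all_eq_true.mp swaps_inM24 _ (List.getElem_mem hlt)

/-- the check for one pair of positions. -/
def swapOK (i j : ℕ) : Bool :=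
  ((swapD i j).applyMask (s0L.getD i 0) == s0L.getD j 0) &&
  ((swapD i j).applyMask (s0L.getD j 0) == s0L.getD i 0) &&
  (List.range 6).all (fun k => k == i || k == j ||
    ((swapD i j).applyMask (s0L.getD k 0) == s0L.getD k 0))

theorem swapOK_all : ∀ i < 6, ∀ j < 6, i ≠ j → swapOK i j = true := by decide +kernel

theorem swaps_check : ∀ i < 6, ∀ j < 6, i ≠ j →
    ((swapD i j).applyMask (s0L.getD i 0) = s0L.getD j 0 ∧
     (swapD i j).applyMask (s0L.getD j 0) = s0L.getD i 0 ∧
     ∀ k < 6, k ≠ i → k ≠ j → (swapD i j).applyMask (s0L.getD k 0) = s0L.getD k 0) := by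
  intro i hi j hj hij
  have h := swapOK_all i hi j hj hij
  simp only [swapOK, Bool.and_eq_true, beq_iff_eq, List.all_eq_true, List.mem_range,
    Bool.or_eq_true] at h
  obtain ⟨⟨h1, h2⟩, h3⟩ := h
  refine ⟨h1, h2, fun k hk hki hkj => ?_⟩
  rcases h3 k hk with (h | h) | h
  · exact absurd h hki
  · exact absurd h hkj
  · exact h

theorem exists_swap_S0 (a b : Finset GolayPt) (ha : a ∈ S0) (hb : b ∈ S0) (hab : a ≠ b) :
    ∃ g ∈ M24, g • a = b ∧ g • b = a ∧ ∀ t ∈ S0, t ≠ a → t ≠ b → g • t = t := by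
  obtain ⟨i, hi, rfl⟩ := mem_S0'.mp ha
  obtain ⟨j, hj, rfl⟩ := mem_S0'.mp hb
  have hij : i ≠ j := fun h => hab (by rw [h])
  have hM := swapD_inM24 i j hi hj
  have hok := PermData.ok_of_inM24 hM
  obtain ⟨h1, h2, h3⟩ := swaps_check i hi j hj hij
  refine ⟨(swapD i j).toPerm, PermData.toPerm_mem_M24 hM, ?_, ?_, ?_⟩
  · rw [PermData.smul_dec hok, h1]
  · rw [PermData.smul_dec hok, h2]
  · intro t ht hta htb
    obtain ⟨k, hk, rfl⟩ := mem_S0'.mp ht
    rw [PermData.smul_dec hok, h3 k hk (fun h => hta (by rw [h])) (fun h => htb (by rw [h]))]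

/-- membership test for the Klein four part of the standard sextet stabiliser. -/
def inNrm (d : PermData) : Bool :=
  d.inM24 && s0L.all (fun a => d.applyMask a == a && (submasks 24 a).all (fun m =>
    pc 24 m != 2 || d.applyMask m == m || d.applyMask m == a ^^^ m))

theorem sextetN_check : sextetN.all inNrm = true := by decide +kernel

theorem toPerm_mem_nrmS0 {d : PermData} (h : inNrm d = true) : d.toPerm ∈ nrmS S0 := by
  simp only [inNrm, Bool.and_eq_true, List.all_eq_true, beq_iff_eq, Bool.or_eq_true,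
    bne_iff_ne, ne_eq] at h
  obtain ⟨hM, hall⟩ := h
  have hok := PermData.ok_of_inM24 hM
  refine ⟨PermData.toPerm_mem_M24 hM, fun t ht => ?_⟩
  obtain ⟨a, ha, rfl⟩ := mem_S0.mp ht
  rw [s0_eq] at ha
  obtain ⟨h1, h2⟩ := hall a ha
  refine ⟨by rw [PermData.smul_dec hok, h1], ?_⟩
  intro d' hd' hc2 _
  have hm := h2 (enc d') (enc_mem_submasks hd')
  have hpc : pc 24 (enc d') = 2 := by rw [← card_eq_pc_enc, hc2]
  have hd'' : dec (enc d') ⊆ dec a := by rw [dec_enc]; exact hd'
  rw [← dec_enc d', PermData.smul_dec hok]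
  rcases hm with (hm | hm) | hm
  · exact absurd hpc hm
  · left
    rw [hm]
  · right
    rw [hm, dec_xor, symmDiff_of_ge hd'']

/-- a key separating the 64 elements. -/
def nKey (d : PermData) : ℕ × ℕ × ℕ := (d.applyMask 1, d.applyMask 8, d.applyMask 16)

theorem sextetN_keys : (sextetN.map nKey).Nodup ∧ sextetN.length = 64 := by decide +kernel

theorem nKey_eq_of_toPerm_eq {d d' : PermData} (hd : d.ok = true) (hd' : d'.ok = true)
    (h : d.toPerm = d'.toPerm) : nKey d = nKey d' := by
  have key : ∀ m, d.applyMask m = d'.applyMask m := by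
    intro m
    apply dec_injOn (PermData.applyMask_lt hd m) (PermData.applyMask_lt hd' m)
    rw [← PermData.smul_dec hd, ← PermData.smul_dec hd', h]
  simp only [nKey, key]

theorem card_nrmS0_ge : 64 ≤ Nat.card (nrmS S0) := by
  classical
  have hok : ∀ d ∈ sextetN, d.ok = true := fun d hd =>
    PermData.ok_of_inM24 (by
      have := List.all_eq_true.mp sextetN_check d hd
      simp only [inNrm, Bool.and_eq_true] at this
      exact this.1)
  have hinj : ∀ x ∈ sextetN, ∀ y ∈ sextetN, x.toPerm = y.toPerm → x = y := by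
    intro x hx y hy hxy
    exact List.inj_on_of_nodup_map sextetN_keys.1 hx hy
      (nKey_eq_of_toPerm_eq (hok x hx) (hok y hy) hxy)
  have hnd : (sextetN.map PermData.toPerm).Nodup :=
    List.Nodup.map_on hinj (List.Nodup.of_map _ sextetN_keys.1)
  have hcard : (sextetN.map PermData.toPerm).toFinset.card = 64 := by
    rw [List.toFinset_card_of_nodup hnd, List.length_map, sextetN_keys.2]
  have hsub : ((sextetN.map PermData.toPerm).toFinset : Set (Equiv.Perm GolayPt)) ⊆
      (nrmS S0 : Set (Equiv.Perm GolayPt)) := by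
    intro g hg
    simp only [Finset.mem_coe, List.mem_toFinset, List.mem_map] at hg
    obtain ⟨d, hd, rfl⟩ := hg
    exact toPerm_mem_nrmS0 (List.all_eq_true.mp sextetN_check d hd)
  have h1 := Set.ncard_le_ncard hsub (Set.toFinite _)
  rw [Set.ncard_coe_finset, hcard] at h1
  rw [← Nat.card_coe_set_eq] at h1
  exact h1

end Cfsg.Agent.Lib.Helper26
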