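import Cfsg.Agent.Lib.Helper26.SextetStab2

set_option autoImplicit false

namespace Cfsg.Agent.Lib.Helper26

open Cfsg
open scoped Pointwise
open Cfsg.Agent.S1550 (S0 s0 S0_mem S0_unique mem_S0 t0 t0_eq)

/-! ### the action of the stabiliser on the members -/

instance actInst (S : Finset (Finset GolayPt)) : MulAction (stabS S) ↥S where
  smul g t := ⟨g.1 • t.1, by
    have := Finset.smul_mem_smul_finset (a := g.1) t.2
    rwa [g.2.2] at this⟩
  one_smul t := Subtype.ext (one_smul _ _)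
  mul_smul a b t := Subtype.ext (mul_smul a.1 b.1 t.1)

/-- the permutation representation on the members. -/
def actS (S : Finset (Finset GolayPt)) : stabS S →* Equiv.Perm ↥S := MulAction.toPermHom _ _

theorem actS_apply {S : Finset (Finset GolayPt)} (g : stabS S) (t : ↥S) :
    ((actS S g t : ↥S) : Finset GolayPt) = g.1 • t.1 := rfl

theorem exists_swap (S : Finset (Finset GolayPt)) (hS : S ∈ sextets) (a b : Finset GolayPt)
    (ha : a ∈ S) (hb : b ∈ S) (hab : a ≠ b) :
    ∃ g ∈ M24, g • a = b ∧ g • b = a ∧ ∀ t ∈ S, t ≠ a → t ≠ b → g • t = t := by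
  obtain ⟨γ, hγ, rfl⟩ := sextets_transitive S hS
  have ha0 : γ⁻¹ • a ∈ S0 := by rwa [Finset.inv_smul_mem_iff]
  have hb0 : γ⁻¹ • b ∈ S0 := by rwa [Finset.inv_smul_mem_iff]
  have hab0 : γ⁻¹ • a ≠ γ⁻¹ • b := fun h => hab (smul_left_cancel _ h)
  obtain ⟨g, hg, h1, h2, h3⟩ := exists_swap_S0 _ _ ha0 hb0 hab0
  refine ⟨γ * g * γ⁻¹, M24.mul_mem (M24.mul_mem hγ hg) (M24.inv_mem hγ), ?_, ?_, ?_⟩
  · rw [mul_smul, mul_smul, h1, smul_inv_smul]
  · rw [mul_smul, mul_smul, h2, smul_inv_smul]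
  · intro t ht hta htb
    have ht0 : γ⁻¹ • t ∈ S0 := by rwa [Finset.inv_smul_mem_iff]
    rw [mul_smul, mul_smul, h3 _ ht0 (fun h => hta (smul_left_cancel _ h))
      (fun h => htb (smul_left_cancel _ h)), smul_inv_smul]

theorem actS_range (S : Finset (Finset GolayPt)) (hS : S ∈ sextets) : (actS S).range = ⊤ := by
  rw [eq_top_iff, ← Equiv.Perm.closure_isSwap, Subgroup.closure_le]
  rintro σ ⟨a, b, hab, rfl⟩
  obtain ⟨g, hg, h1, h2, h3⟩ := exists_swap S hS a.1 b.1 a.2 b.2 (fun h => hab (Subtype.ext h))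
  have hgS : g ∈ stabS S := by
    refine ⟨hg, smul_eq_of_forall_mem (fun t ht => ?_)⟩
    by_cases hta : t = a.1
    · rw [hta, h1]; exact b.2
    by_cases htb : t = b.1
    · rw [htb, h2]; exact a.2
    · rw [h3 t ht hta htb]; exact ht
  refine ⟨⟨g, hgS⟩, ?_⟩
  apply Equiv.ext
  intro t
  apply Subtype.ext
  rw [actS_apply]
  by_cases hta : t = a
  · subst hta
    rw [Equiv.swap_apply_left]
    exact h1
  by_cases htb : t = b
  · subst htb
    rw [Equiv.swap_apply_right]
    exact h2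
  · rw [Equiv.swap_apply_of_ne_of_ne hta htb]
    exact h3 t.1 t.2 (fun h => hta (Subtype.ext h)) (fun h => htb (Subtype.ext h))

/-! ### orders -/

/-- the stabiliser in `↥M24` against `stabS`. -/
def stabSEquiv (S : Finset (Finset GolayPt)) : MulAction.stabilizer M24 S ≃ stabS S where
  toFun x := ⟨x.1.1, ⟨x.1.2, MulAction.mem_stabilizer_iff.mp x.2⟩⟩
  invFun y := ⟨⟨y.1, y.2.1⟩, MulAction.mem_stabilizer_iff.mpr y.2.2⟩
  left_inv _ := rfl
  right_inv _ := rfl

theorem card_stabS (S : Finset (Finset GolayPt)) (hS : S ∈ sextets) :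
    Nat.card (stabS S) = 138240 := by
  have h1 : (MulAction.stabilizer M24 S).index = 1771 := by
    rw [MulAction.index_stabilizer, orbit_sextet S hS, Cfsg.Agent.S1550.result.2]
  have h2 := Subgroup.card_mul_index (MulAction.stabilizer M24 S)
  rw [h1, card_M24, Nat.card_congr (stabSEquiv S)] at h2
  omega

/-- the kernel of the action against `kerS`. -/
def kerSEquiv (S : Finset (Finset GolayPt)) : (actS S).ker ≃ kerS S where
  toFun x := ⟨x.1.1, ⟨x.1.2.1, fun t ht => by
    have h := MonoidHom.mem_ker.mp x.2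
    exact congrArg (fun e : Equiv.Perm ↥S => ((e ⟨t, ht⟩ : ↥S) : Finset GolayPt)) h⟩⟩
  invFun y := ⟨⟨y.1, kerS_le_stabS S y.2⟩, by
    rw [MonoidHom.mem_ker]
    apply Equiv.ext
    intro t
    apply Subtype.ext
    exact y.2.2 t.1 t.2⟩
  left_inv _ := rfl
  right_inv _ := rfl

theorem card_kerS (S : Finset (Finset GolayPt)) (hS : S ∈ sextets) : Nat.card (kerS S) = 192 := by
  have h1 := Subgroup.card_mul_index (actS S).ker
  have h720 : Nat.card (Equiv.Perm ↥S) = 720 := by
    rw [Nat.card_perm, Nat.card_eq_fintype_card, Fintype.card_coe, hS.1]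
    rfl
  rw [Subgroup.index_ker, actS_range S hS, Subgroup.card_top, h720, Nat.card_congr (kerSEquiv S),
    card_stabS S hS] at h1
  omega

theorem card_nrmS (S : Finset (Finset GolayPt)) (hS : S ∈ sextets) : Nat.card (nrmS S) = 64 := by
  apply le_antisymm
  · have hdvd : Nat.card (nrmS S) ∣ 192 := by
      rw [← card_kerS S hS]
      exact Subgroup.card_dvd_of_le (nrmS_le_kerS S)
    have hp : IsPGroup 2 (nrmS S) := by
      intro g
      refine ⟨1, ?_⟩
      apply Subtype.ext
      rw [pow_one, pow_two]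
      exact nrmS_sq hS g.2
    have : Fact (Nat.Prime 2) := ⟨Nat.prime_two⟩
    obtain ⟨n, hn⟩ := IsPGroup.iff_card.mp hp
    rw [hn] at hdvd ⊢
    by_contra hlt
    have h7 : 7 ≤ n := by
      by_contra h7
      have : n ≤ 6 := by omega
      exact hlt (Nat.pow_le_pow_right (by norm_num) this)
    have : 2 ^ 7 ∣ 192 := dvd_trans (pow_dvd_pow 2 h7) hdvd
    norm_num at this
  · obtain ⟨γ, hγ, rfl⟩ := sextets_transitive S hS
    refine le_trans card_nrmS0_ge ?_
    apply Nat.card_le_card_of_injective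
      (fun x : nrmS S0 => (⟨γ * x.1 * γ⁻¹, conj_mem_nrmS hγ x.2⟩ : nrmS (γ • S0)))
    intro x y hxy
    have := congrArg Subtype.val hxy
    simp only [mul_left_inj, mul_right_inj] at this
    exact Subtype.ext this

end Cfsg.Agent.Lib.Helper26
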