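import Cfsg.Agent.Lib.Helper26.Orbits

set_option autoImplicit false

namespace Cfsg.Agent.Lib.Helper26

open Cfsg

def sg0 : PermData := ⟨[23, 22, 11, 15, 17, 9, 19, 13, 20, 5, 16, 2, 21, 7, 18, 3, 10, 4, 14, 6, 8, 12, 1, 0], [23, 22, 11, 15, 17, 9, 19, 13, 20, 5, 16, 2, 21, 7, 18, 3, 10, 4, 14, 6, 8, 12, 1, 0]⟩
def sg1 : PermData := ⟨[1, 2, 3, 4, 5, 6, 7, 8, 9, 10, 11, 12, 13, 14, 15, 16, 17, 18, 19, 20, 21, 22, 0, 23], [22, 0, 1, 2, 3, 4, 5, 6, 7, 8, 9, 10, 11, 12, 13, 14, 15, 16, 17, 18, 19, 20, 21, 23]⟩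
def sg2 : PermData := ⟨[0, 18, 6, 3, 2, 21, 1, 5, 16, 12, 7, 19, 8, 9, 17, 15, 13, 11, 4, 22, 10, 20, 14, 23], [0, 6, 4, 3, 18, 7, 2, 10, 12, 13, 20, 17, 9, 16, 22, 15, 8, 14, 1, 11, 21, 5, 19, 23]⟩
def sg3 : PermData := ⟨[0, 1, 20, 17, 9, 21, 19, 11, 13, 22, 18, 12, 14, 15, 16, 5, 10, 8, 7, 4, 6, 3, 2, 23], [0, 1, 22, 21, 19, 15, 20, 18, 17, 4, 16, 7, 11, 8, 12, 13, 14, 3, 10, 6, 2, 5, 9, 23]⟩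
def sg4 : PermData := ⟨[0, 1, 2, 4, 3, 16, 6, 7, 9, 8, 12, 20, 10, 17, 22, 18, 5, 13, 15, 19, 11, 21, 14, 23], [0, 1, 2, 4, 3, 16, 6, 7, 9, 8, 12, 20, 10, 17, 22, 18, 5, 13, 15, 19, 11, 21, 14, 23]⟩
def sg5 : PermData := ⟨[0, 1, 2, 15, 12, 9, 7, 6, 4, 14, 5, 22, 13, 8, 10, 17, 11, 20, 16, 21, 3, 19, 18, 23], [0, 1, 2, 20, 8, 10, 7, 6, 13, 5, 14, 16, 4, 12, 9, 3, 18, 15, 22, 21, 17, 19, 11, 23]⟩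
def sg6 : PermData := ⟨[0, 1, 2, 3, 10, 14, 16, 4, 18, 19, 7, 8, 12, 9, 17, 21, 20, 5, 11, 13, 6, 22, 15, 23], [0, 1, 2, 3, 7, 17, 20, 10, 11, 13, 4, 18, 12, 19, 5, 22, 6, 14, 8, 9, 16, 15, 21, 23]⟩
def sg7 : PermData := ⟨[0, 1, 2, 3, 18, 5, 15, 20, 22, 19, 21, 16, 13, 12, 14, 6, 11, 17, 4, 9, 7, 10, 8, 23], [0, 1, 2, 3, 18, 5, 15, 20, 22, 19, 21, 16, 13, 12, 14, 6, 11, 17, 4, 9, 7, 10, 8, 23]⟩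
def sg8 : PermData := ⟨[0, 1, 2, 3, 4, 17, 18, 12, 9, 21, 7, 20, 10, 16, 5, 6, 22, 14, 15, 11, 19, 8, 13, 23], [0, 1, 2, 3, 4, 14, 15, 10, 21, 8, 12, 19, 7, 22, 17, 18, 13, 5, 6, 20, 11, 9, 16, 23]⟩

/-- strong generators of `M24` for the base `23, 0, 1, 2, 3, 4, 5`, ordered by the number of base points they fix. -/
def sgs : List PermData := [sg0, sg1, sg2, sg3, sg4, sg5, sg6, sg7, sg8]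

/-- `sgs.drop (sgsStart i)` fixes the first `i` base points. -/
def sgsStart : List ℕ := [0, 1, 2, 3, 4, 6, 8, 9]

/-- the base. -/
def sgsBase : List ℕ := [23, 0, 1, 2, 3, 4, 5]

def lvlPts0 : List ℕ := [0, 1, 2, 3, 4, 5, 6, 7, 8, 9, 10, 11, 12, 13, 14, 15, 16, 17, 18, 19, 20, 21, 22, 23]

def lvlWords0 : List (List ℕ) := [[0], [1, 0], [1, 1, 0], [1, 1, 1, 0], [2, 2, 1, 0], [8, 2, 0, 1, 0], [2, 1, 1, 0], [3, 2, 1, 0], [7, 0, 1, 0], [1, 7, 0, 1, 0], [5, 2, 0, 1, 0], [0, 1, 1, 0], [7, 8, 0, 1, 0], [8, 0, 1, 0], [2, 0, 1, 0], [6, 0, 1, 0], [5, 2, 1, 0], [2, 2, 0, 1, 0], [2, 1, 0], [1, 2, 1, 0], [3, 1, 1, 0], [6, 6, 0, 1, 0], [0, 1, 0], []]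

def lvlPts1 : List ℕ := [0, 1, 2, 3, 4, 5, 6, 7, 8, 9, 10, 11, 12, 13, 14, 15, 16, 17, 18, 19, 20, 21, 22]

def lvlWords1 : List (List ℕ) := [[], [0], [0, 0], [0, 0, 0], [1, 1, 0], [0, 1, 1, 0], [1, 0, 0], [2, 1, 0], [0, 2, 1, 0], [6, 0, 1, 0], [1, 2, 0, 0], [5, 1, 0], [4, 1, 1, 0], [5, 0, 1, 0], [7, 2, 0, 0, 0], [3, 1, 0], [4, 1, 0], [2, 0, 0, 0], [1, 0], [0, 1, 0], [2, 0, 0], [0, 2, 0, 0], [1, 0, 1, 0]]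

def lvlPts2 : List ℕ := [1, 2, 3, 4, 5, 6, 7, 8, 9, 10, 11, 12, 13, 14, 15, 16, 17, 18, 19, 20, 21, 22]

def lvlWords2 : List (List ℕ) := [[], [0, 0, 0], [2, 0, 0], [0, 0], [0, 1, 0], [3, 1, 0], [1, 0], [4, 4, 0], [1, 0, 0], [4, 0, 0], [4, 0], [3, 0, 0], [0, 3, 0], [3, 1, 0, 0], [2, 0], [3, 0], [3, 2, 0], [0], [0, 4, 0], [5, 1, 0], [4, 2, 0], [6, 3, 0]]

def lvlPts3 : List ℕ := [2, 3, 4, 5, 6, 7, 8, 9, 10, 11, 12, 13, 14, 15, 16, 17, 18, 19, 20, 21, 22]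

def lvlWords3 : List (List ℕ) := [[], [2, 0], [1, 2, 0], [1, 3, 0, 0], [0, 0], [4, 0], [3, 1, 0], [4, 5, 0], [0, 3, 0, 0], [1, 0], [0, 1, 0], [3, 5, 0], [0, 0, 1, 0], [4, 0, 0], [3, 0, 0], [0, 2, 0], [5, 0, 0], [5, 0], [0], [2, 5, 0], [2, 1, 0]]

def lvlPts4 : List ℕ := [3, 4, 5, 6, 7, 8, 9, 10, 11, 12, 13, 14, 15, 16, 17, 18, 19, 20, 21, 22]

def lvlWords4 : List (List ℕ) := [[], [0], [1, 2, 0], [3, 1], [2, 2, 0], [4, 2, 1], [2, 1, 1, 0], [2, 0], [2, 3, 0], [1, 0], [1, 1, 0], [4, 1, 1], [1], [1, 3, 0], [1, 1], [3, 0], [1, 2, 1], [1, 1, 1], [2, 1], [2, 2, 1]]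

def lvlPts5 : List ℕ := [4, 6, 7, 8, 9, 10, 11, 12, 13, 15, 16, 18, 19, 20, 21, 22]

def lvlWords5 : List (List ℕ) := [[], [1, 2, 1], [0, 0], [2, 1, 0], [2, 2, 1, 0], [0], [0, 1], [2, 0, 0], [1, 2, 0, 0], [2, 1], [1, 0, 1], [1], [2, 1, 0, 0], [1, 0, 0], [1, 0], [0, 1, 0]]

def lvlPts6 : List ℕ := [5, 14, 17]

def lvlWords6 : List (List ℕ) := [[], [0, 0], [0]]

end Cfsg.Agent.Lib.Helper26
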