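import Cfsg.Agent.Lib.Helper26.Orbits

set_option autoImplicit false

namespace Cfsg.Agent.Lib.Helper26

open Cfsg
open scoped Pointwise

/-- the subgroup of `M24` stabilising the set `dec m`. -/
def stabK (m : ℕ) : Subgroup (Equiv.Perm GolayPt) where
  carrier := {g | g ∈ M24 ∧ g • dec m = dec m}
  one_mem' := ⟨M24.one_mem, one_smul _ _⟩
  mul_mem' := by
    rintro a b ⟨ha, ha'⟩ ⟨hb, hb'⟩
    exact ⟨M24.mul_mem ha hb, by rw [mul_smul, hb', ha']⟩
  inv_mem' := by
    rintro a ⟨ha, ha'⟩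
    exact ⟨M24.inv_mem ha, by rw [inv_smul_eq_iff, ha']⟩

theorem mem_stabK {m : ℕ} {g : Equiv.Perm GolayPt} :
    g ∈ stabK m ↔ g ∈ M24 ∧ g • dec m = dec m := Iff.rfl

/-- the table permutation stabilises the mask. -/
def PermData.stabilises (d : PermData) (m : ℕ) : Bool := d.applyMask m == m

theorem PermData.toPerm_mem_stabK {d : PermData} {m : ℕ} (h : d.inM24 = true)
    (hs : d.stabilises m = true) : d.toPerm ∈ stabK m := by
  refine ⟨PermData.toPerm_mem_M24 h, ?_⟩
  rw [PermData.smul_dec (PermData.ok_of_inM24 h), beq_iff_eq.mp hs]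

/-- path check where the start mask depends on the target. -/
def checkPathsFrom (gens : List PermData) (startOf : ℕ → ℕ) : List ℕ → List (List ℕ) → Bool
  | [], _ => true
  | _ :: _, [] => false
  | m :: ms, w :: ws => (applyWord gens w (startOf m) == m) && checkPathsFrom gens startOf ms ws

theorem checkPathsFrom_spec (gens : List PermData) (startOf : ℕ → ℕ) (ms : List ℕ)
    (ws : List (List ℕ)) (h : checkPathsFrom gens startOf ms ws = true) :
    ∀ m ∈ ms, ∃ w, applyWord gens w (startOf m) = m := by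
  induction ms generalizing ws with
  | nil => simp
  | cons m ms ih =>
    cases ws with
    | nil => simp [checkPathsFrom] at h
    | cons w ws =>
      simp only [checkPathsFrom, Bool.and_eq_true, beq_iff_eq] at h
      intro x hx
      rcases List.mem_cons.mp hx with rfl | hx
      · exact ⟨w, h.1⟩
      · exact ih ws h.2 x hx

theorem orbit_cert_from (gens : List PermData) (hok : ∀ d ∈ gens, d.ok = true)
    (K : Subgroup (Equiv.Perm GolayPt)) (hK : ∀ d ∈ gens, d.toPerm ∈ K)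
    (startOf : ℕ → ℕ) (ms : List ℕ) (ws : List (List ℕ))
    (h : checkPathsFrom gens startOf ms ws = true) :
    ∀ m ∈ ms, ∃ g ∈ K, g • dec (startOf m) = dec m := by
  intro m hm
  obtain ⟨w, hw⟩ := checkPathsFrom_spec gens startOf ms ws h m hm
  exact ⟨wordPerm gens w, wordPerm_mem gens K hK w, by rw [wordPerm_smul_dec gens hok, hw]⟩

/-- **orbits of a set stabiliser by intersection size**, from a certificate. -/
theorem stab_orbits (W : Set (Finset GolayPt))
    (hinv : ∀ g ∈ M24, ∀ b, g • b ∈ W ↔ b ∈ W)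
    (L : List ℕ) (hW : ∀ b, b ∈ W ↔ ∃ c ∈ L, b = dec c)
    (m0 : ℕ) (htrans : ∀ b ∈ W, ∃ g ∈ M24, g • dec m0 = b)
    (gens : List PermData) (hM : gens.all (fun d => d.inM24 && d.stabilises m0) = true)
    (reps : List ℕ) (ws : List (List ℕ))
    (hcheck : checkPathsFrom gens (fun c => reps.getD (pc 24 (m0 &&& c)) 0) L ws = true) :
    ∀ o o' o'' : Finset GolayPt, o ∈ W → o' ∈ W → o'' ∈ W →
      (o ∩ o').card = (o ∩ o'').card → ∃ g ∈ M24, g • o = o ∧ g • o' = o'' := by
  intro o o' o'' ho ho' ho'' hcard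
  have hok : ∀ d ∈ gens, d.ok = true := fun d hd => by
    have := List.all_eq_true.mp hM d hd
    simp only [Bool.and_eq_true] at this
    exact PermData.ok_of_inM24 this.1
  have hK : ∀ d ∈ gens, d.toPerm ∈ stabK m0 := fun d hd => by
    have := List.all_eq_true.mp hM d hd
    simp only [Bool.and_eq_true] at this
    exact PermData.toPerm_mem_stabK this.1 this.2
  have horb := orbit_cert_from gens hok (stabK m0) hK _ L ws hcheck
  obtain ⟨h, hh, rfl⟩ := htrans o ho
  have hh' := M24.inv_mem hh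
  obtain ⟨c', hc', hceq'⟩ := (hW _).mp ((hinv _ hh' o').mpr ho')
  obtain ⟨c'', hc'', hceq''⟩ := (hW _).mp ((hinv _ hh' o'').mpr ho'')
  have e' : (h • dec m0 ∩ o').card = pc 24 (m0 &&& c') := by
    rw [← card_dec, dec_land, ← hceq', ← Finset.card_smul_finset h⁻¹ (h • dec m0 ∩ o'),
      Finset.smul_finset_inter, inv_smul_smul]
  have e'' : (h • dec m0 ∩ o'').card = pc 24 (m0 &&& c'') := by
    rw [← card_dec, dec_land, ← hceq'', ← Finset.card_smul_finset h⁻¹ (h • dec m0 ∩ o''),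
      Finset.smul_finset_inter, inv_smul_smul]
  have hpc : pc 24 (m0 &&& c') = pc 24 (m0 &&& c'') := by rw [← e', ← e'', hcard]
  obtain ⟨g', hg', hgs'⟩ := horb c' hc'
  obtain ⟨g'', hg'', hgs''⟩ := horb c'' hc''
  simp only [hpc] at hgs'
  refine ⟨h * (g'' * g'⁻¹) * h⁻¹,
    M24.mul_mem (M24.mul_mem hh (M24.mul_mem hg''.1 (M24.inv_mem hg'.1))) hh', ?_, ?_⟩
  · rw [mul_smul, inv_smul_smul, mul_smul, mul_smul]
    have : g'⁻¹ • dec m0 = dec m0 := by rw [inv_smul_eq_iff, hg'.2]
    rw [this, hg''.2]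
  · rw [mul_smul, mul_smul, mul_smul, hceq']
    have : g'⁻¹ • dec c' = dec (reps.getD (pc 24 (m0 &&& c'')) 0) := by
      rw [inv_smul_eq_iff, hgs']
    rw [this, hgs'', ← hceq'', smul_inv_smul]

end Cfsg.Agent.Lib.Helper26

namespace Cfsg.Agent.Lib.Helper26

open Cfsg
open scoped Pointwise

/-- **orbits of a set stabiliser classified by an invariant `K`**, from a certificate. -/
theorem stab_orbits' (W : Set (Finset GolayPt))
    (hinv : ∀ g ∈ M24, ∀ b, g • b ∈ W ↔ b ∈ W)
    (L : List ℕ) (hW : ∀ b, b ∈ W ↔ ∃ c ∈ L, b = dec c)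
    (m0 : ℕ) (htrans : ∀ b ∈ W, ∃ g ∈ M24, g • dec m0 = b)
    (gens : List PermData) (hM : gens.all (fun d => d.inM24 && d.stabilises m0) = true)
    (K : Finset GolayPt → Finset GolayPt → ℕ)
    (hK : ∀ g ∈ M24, ∀ a b, K (g • a) (g • b) = K a b)
    (κ : ℕ → ℕ) (hκ : ∀ c ∈ L, K (dec m0) (dec c) = κ c)
    (reps : List ℕ) (ws : List (List ℕ))
    (hcheck : checkPathsFrom gens (fun c => reps.getD (κ c) 0) L ws = true) :
    ∀ o o' o'' : Finset GolayPt, o ∈ W → o' ∈ W → o'' ∈ W →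
      K o o' = K o o'' → ∃ g ∈ M24, g • o = o ∧ g • o' = o'' := by
  intro o o' o'' ho ho' ho'' hcard
  have hok : ∀ d ∈ gens, d.ok = true := fun d hd => by
    have := List.all_eq_true.mp hM d hd
    simp only [Bool.and_eq_true] at this
    exact PermData.ok_of_inM24 this.1
  have hKm : ∀ d ∈ gens, d.toPerm ∈ stabK m0 := fun d hd => by
    have := List.all_eq_true.mp hM d hd
    simp only [Bool.and_eq_true] at this
    exact PermData.toPerm_mem_stabK this.1 this.2
  have horb := orbit_cert_from gens hok (stabK m0) hKm _ L ws hcheck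
  obtain ⟨h, hh, rfl⟩ := htrans o ho
  have hh' := M24.inv_mem hh
  obtain ⟨c', hc', hceq'⟩ := (hW _).mp ((hinv _ hh' o').mpr ho')
  obtain ⟨c'', hc'', hceq''⟩ := (hW _).mp ((hinv _ hh' o'').mpr ho'')
  have e' : K (h • dec m0) o' = κ c' := by
    rw [← hκ c' hc', ← hceq', ← hK h hh (dec m0) (h⁻¹ • o'), smul_inv_smul]
  have e'' : K (h • dec m0) o'' = κ c'' := by
    rw [← hκ c'' hc'', ← hceq'', ← hK h hh (dec m0) (h⁻¹ • o''), smul_inv_smul]
  have hpc : κ c' = κ c'' := by rw [← e', ← e'', hcard]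
  obtain ⟨g', hg', hgs'⟩ := horb c' hc'
  obtain ⟨g'', hg'', hgs''⟩ := horb c'' hc''
  simp only [hpc] at hgs'
  refine ⟨h * (g'' * g'⁻¹) * h⁻¹,
    M24.mul_mem (M24.mul_mem hh (M24.mul_mem hg''.1 (M24.inv_mem hg'.1))) hh', ?_, ?_⟩
  · rw [mul_smul, inv_smul_smul, mul_smul, mul_smul]
    have : g'⁻¹ • dec m0 = dec m0 := by rw [inv_smul_eq_iff, hg'.2]
    rw [this, hg''.2]
  · rw [mul_smul, mul_smul, mul_smul, hceq']
    have : g'⁻¹ • dec c' = dec (reps.getD (κ c'') 0) := by
      rw [inv_smul_eq_iff, hgs']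
    rw [this, hgs'', ← hceq'', smul_inv_smul]

/-- maximality is preserved by moving the point. -/
theorem isCoatom_stabilizer_smul {G : Type*} [Group G] {X : Type*} [MulAction G X] (g : G) (x : X)
    (h : IsCoatom (MulAction.stabilizer G x)) : IsCoatom (MulAction.stabilizer G (g • x)) := by
  rw [MulAction.stabilizer_smul_eq_stabilizer_map_conj]
  exact ((MulAut.conj g).mapSubgroup.isCoatom_iff _).mpr h

end Cfsg.Agent.Lib.Helper26
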