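import Cfsg.Agent.Lib.Helper26.TriadData

set_option autoImplicit false
set_option maxRecDepth 1000000

namespace Cfsg.Agent.Lib.Helper26

open Cfsg


def triadReps : List ℕ := [0, 14680064, 12582914, 8388611, 5505024, 7340032]

def triadWords : List (List ℕ) := [[], [2, 2, 1, 0], [0, 1, 0, 1], [], [0, 0, 0, 1, 0, 3, 2], [2, 1, 0, 0, 3, 0, 0, 0], [0, 3, 2, 2, 1, 0, 3], [2, 3, 0, 1, 2, 1], [2, 3, 0, 3, 2, 1, 2], [3, 2, 1, 2, 2, 1, 0, 3], [2, 1, 0, 3, 0, 0, 0], [2, 3, 0, 3, 0, 1, 2, 1], [3, 0, 1, 2, 1, 2], [1, 2, 3, 0, 3, 0], [], [3, 2, 1, 0, 3, 2, 1], [0, 0, 0, 1, 2, 1], [2, 1, 0, 3, 0, 0, 0], [3, 0, 1, 0, 0, 0, 3, 2, 2], [1, 2, 1, 0, 3, 0, 3, 2, 1], [3, 2, 2,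 3, 2, 2, 3], [0, 1, 2, 2, 1], [3, 2, 2, 3, 0, 3], [2, 3, 2, 2, 1, 0], [1, 0, 3, 0, 1, 2, 2], [2, 3], [0, 0, 0, 1, 0, 0, 1], [0, 0, 0, 1, 0, 0, 1], [0, 3, 0, 3, 2, 2], [3, 2, 1, 0, 1, 2], [1, 2, 1, 0, 0, 0], [2, 2, 3, 2, 1, 0, 3], [2, 2, 3, 0, 3, 2, 2], [2, 2, 3, 0, 0, 1, 2], [1, 0, 3, 2, 2, 3], [1, 2, 2, 1, 0, 0, 1], [0, 0, 3, 2, 2, 1, 2, 2], [2, 2, 1, 2, 3, 0, 3], [0, 1, 2, 1], [2, 1, 2, 1, 0, 0, 1, 0], [0, 3, 2, 2, 1, 0, 0], [0, 3, 0, 0, 3, 0, 1], [0, 1, 2, 2], [0, 1, 0, 0, 0, 3, 0, 0], [3, 0, 1, 0], [3, 0, 0, 3, 0, 0, 0], [1, 0, 0, 3, 0, 3, 2, 2], [3, 0, 0, 3, 0, 0, 3, 0, 0], [0, 0, 0, 3, 0, 1, 0], [3, 2, 1, 2, 2, 3, 0, 0], [0, 1, 0, 0, 1], [0, 0, 3, 2, 2,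 1, 0], [0, 0, 3], [1, 0, 3, 0, 0, 0], [0, 3, 0, 0, 1, 2], [1, 2, 1, 0, 0, 0], [3, 2, 2, 1], [0, 0, 1, 2, 3, 0, 1], [3, 0, 3, 2, 3, 0], [0, 1, 2, 1, 2, 2, 1, 0], [1, 0, 0, 0, 3, 0, 3, 2, 2], [1, 2, 1, 0, 1, 2, 3, 0], [3, 2, 1, 0, 0, 3, 0, 1], [0, 1, 0, 0, 1, 0], [3, 0, 0, 3, 0, 0], [3, 0, 0, 0], [1, 2, 2, 1, 0, 3, 0], [1, 2, 1, 2, 1, 2, 1, 2], [1, 2, 3, 2, 2, 3, 2, 1], [0, 1, 0, 3, 2, 3], [2, 3, 0], [0, 0, 0, 3], [3, 0, 0, 1, 0, 0, 1, 2], [3, 2, 3, 0, 0], [3, 2, 2, 1, 2, 3, 0, 3], [3, 2, 3, 0, 0], [0, 1, 2, 3, 2], [3, 0, 0, 0, 3, 2], [3, 2, 2, 1], [3, 0, 3, 0, 0, 0, 3, 0, 0, 0], [0, 1, 2, 1], [1, 0, 0, 0, 1], [0, 0, 0, 3, 0, 0, 0], [0, 3, 0, 0, 0, 3, 2, 1], [2,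 2, 1, 2, 1, 0], [1, 0, 3, 2, 1], [3, 0, 3, 2, 3, 0, 1, 0], [2, 1, 0, 3, 0, 0, 3], [2, 2, 1, 0], [2, 3, 2, 2, 1, 2, 2], [2, 1, 2, 3, 0, 0, 3], [2, 2, 1, 0], [1, 2, 2, 3, 0, 0, 1], [2, 1, 0, 3, 0, 0, 3], [1, 0, 3, 0, 0, 0, 1], [0, 3, 0, 1, 2, 3, 0, 0, 3], [2, 3, 0, 1, 0], [1, 0, 0, 1, 2, 3, 0, 3], [2, 3, 0, 1, 0], [3, 2, 1, 0, 3], [0, 1, 2, 2, 3, 0, 0, 3], [2, 2, 1, 2, 2, 1], [0, 0, 3, 0, 0, 1, 2], [2, 3, 2, 1, 0, 1, 2], [3, 0, 0, 1, 2], [0, 0, 0, 3, 0, 1, 2, 1], [1, 0, 0, 3, 2, 1, 0, 3], [0, 3, 2, 2, 3, 0], [1, 0, 1, 2, 3, 0, 0, 3], [3, 2, 3, 0, 3, 2, 1, 0], [1, 0, 3, 0, 3, 0, 3], [0, 1, 2, 1, 0, 0, 0], [3, 2, 1, 2, 3], [2, 1, 0, 0, 3, 0, 0, 1], [1, 0, 3, 2,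 1], [3, 0, 3, 0, 3, 0], [3, 2, 3, 0, 0, 3, 0, 0, 3], [1, 2, 3, 0, 3, 2, 1], [0, 0, 0, 3], [2, 2, 1, 2, 2, 3, 2], [2, 3, 0, 0], [2, 1, 0, 3, 0], [2, 3, 0, 0], [0, 0, 1, 0, 3, 2, 1], [1, 0, 1, 2, 2, 1], [2, 3, 2, 1, 0, 1, 2, 1], [2, 1, 2, 1, 0, 3, 0, 0], [0, 3, 0, 0, 1, 2, 1, 0], [2, 1, 2, 2, 3, 0], [0, 0, 0, 3, 2, 2, 3, 0], [3, 0, 3, 0], [1, 0, 1, 2, 1, 2, 1, 2], [0, 0, 1, 2, 2, 3, 0], [2, 1, 0, 1, 2, 1], [3, 2, 2, 1, 0, 0], [1, 0, 1, 0, 0, 0], [0, 1, 0, 3, 2, 1, 0], [1, 2, 1, 2, 1, 2], [1, 2, 2, 1], [2, 2, 3], [0, 3], [3, 2, 1, 0, 3, 0, 0], [1, 2, 3], [3, 2, 1, 0, 1, 2, 3, 0], [0, 1, 2, 1, 2, 3, 0, 0], [0, 0, 1, 0, 1, 2, 1], [3, 2, 2, 3, 0], [0, 0, 0, 1, 2,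 2, 1], [1, 0, 0, 1, 0, 3, 0], [3, 2, 1, 2, 1, 2], [2, 3, 0, 1, 0, 0, 3], [0, 1, 2, 3, 0, 1, 2, 2, 1], [1, 2, 3, 0, 3], [2, 1, 0, 1, 2, 1], [1, 0, 3, 2, 3, 0], [1, 2, 3, 2, 1, 0, 1, 2, 1], [0, 3, 0, 3, 0, 1, 2, 1], [1, 2, 1, 0, 3, 2, 1, 0], [3, 0, 1, 2, 3, 2, 2, 1], [0, 3, 0, 1, 0], [2, 3, 2, 1, 2, 2, 1, 0, 3], [1, 0, 0, 0, 3, 0, 0], [3, 0, 3, 2, 2], [0, 3, 0, 0, 3, 0, 0, 0], [1, 2, 1, 0, 3, 0], [0, 0, 1, 0, 1, 2], [3, 0, 0, 0, 1], [2, 3, 0, 0], [3, 0, 3, 0, 0, 3], [0, 0, 1, 0, 1, 2], [0, 1, 2, 3, 0, 3], [3, 0, 3, 2, 2, 3], [0, 3, 0, 1, 2], [3, 0, 3, 0, 3], [1, 2, 3, 0, 0, 3], [2, 3, 2, 1, 2, 1], [1, 2, 1, 2, 2, 1], [3, 2, 2, 1, 2, 1, 2], [2, 2, 1, 2, 2], [0,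 1, 2, 3, 0, 1, 2], [1, 2, 3, 0, 1, 2, 2], [2, 1, 2, 3, 0, 0, 1], [0, 0, 0, 3, 2, 2, 3, 0, 3], [2, 3, 2, 2, 1, 0], [0, 3, 2, 1, 0, 3], [1, 0, 0, 1], [3, 2, 3, 0, 0, 3], [2, 1, 0, 1, 2], [0, 0, 0], [3, 0, 3, 0, 0, 3], [0, 0, 0], [3, 2, 2, 3, 2, 1, 0], [1, 2, 1, 0, 1, 0], [3, 0, 1], [1, 2, 2, 3], [3, 2, 3, 0, 3], [0, 0, 0, 3, 2, 2, 1], [3, 2, 1, 0, 0, 1, 2], [2, 2, 1, 0, 0, 1, 0], [2, 3, 2, 2, 1, 2, 1, 0], [1, 0, 0, 0, 3, 2, 2, 3, 0], [1, 2, 1, 0, 0, 1, 2, 1], [0, 1, 0, 0, 1, 2, 2], [3, 0, 1, 0, 0, 1, 2], [3, 0, 0, 1, 0, 0, 0], [1, 2, 3, 0, 1, 0, 0, 1], [0, 3, 0, 3, 0, 0, 0], [1, 2, 1, 0, 0, 3, 2, 1, 2], [2, 3, 0, 3, 2, 1, 2, 1], [3, 0, 3, 0, 0, 0, 3], [0, 3, 0,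 1, 2, 3, 2], [1, 0, 3, 0, 3, 2, 2], [0, 0, 3, 0, 0], [0, 0, 0, 1, 2, 3], [1, 2, 2, 1, 0, 0, 0], [2, 2, 3, 0, 0, 1, 2, 1, 0], [2, 2, 1, 0, 3, 2, 1, 0], [2, 1, 2, 2, 1, 0, 3], [2, 3, 0, 1, 2, 3], [1, 2, 1, 0, 3, 0], [3, 0, 3, 0, 0, 0, 1, 0], [2, 2, 1, 0, 0, 0], [2, 2, 3, 0, 0, 3, 0], [3, 0, 1, 2, 2], [3, 2, 3, 0, 0, 0, 1, 0], [3, 0, 0, 1, 0, 1, 2, 1], [2, 2, 1, 0, 1, 0], [3, 0, 0, 3, 2, 1, 0, 0, 1], [2, 2, 1, 0, 0, 0], [3, 0, 0, 0], [2, 3, 2, 1, 0, 0, 1], [2, 3, 2, 1, 0, 0, 1], [1, 0, 0, 1, 2, 3, 2, 1], [1, 2, 3, 0, 3, 0], [1, 2, 3, 0, 0, 0, 3], [3, 0, 1, 0, 0, 1, 0], [0, 0, 3, 2, 2, 1, 0], [2, 2, 3, 0, 1, 0, 0, 1, 0], [3, 0, 1, 2, 2], [3, 0, 3, 0, 1, 2], [0,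 0, 3, 0, 1, 2, 2], [0, 3, 2, 3], [1, 2, 3, 2, 2, 1, 0], [2, 3, 0, 3, 2, 2, 1, 0], [0, 3, 0, 3, 0, 0, 3, 2, 2], [0, 0, 0, 3, 0, 0, 3], [0, 3, 2, 3], [2, 2, 3, 0, 3, 0, 1, 2], [1, 0, 0, 3, 0, 0], [3, 0, 1, 2, 3, 0, 0, 1, 0], [0, 0, 1, 2, 1, 2], [2, 3, 2, 2, 1, 0, 0, 1], [1, 0, 3, 0, 3], [1, 2, 2, 1, 0, 3, 0], [3, 0, 3, 2, 2, 1, 0, 3], [0, 0, 3, 2, 1, 0], [0, 3, 2, 1, 0, 0, 1], [0, 1, 2, 2, 1, 0], [0, 1], [3, 0, 0, 0, 1, 0], [2, 2, 1, 0, 1, 0], [2, 2, 3, 0, 0, 0, 1, 0], [2, 2, 3, 0, 1, 2, 2], [3, 2], [0, 1], [1, 0, 0, 0], [2, 1, 0, 3, 0, 0, 0, 3, 0, 0], [2, 3, 0, 3], [0, 0, 0, 1], [1, 2, 1, 0, 0, 1, 2], [1, 2, 2, 3, 0, 3, 2, 1], [3, 0, 1, 0, 0, 1, 0], [1, 0, 1,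 2, 3, 0, 3], [1, 0, 0, 3, 0, 0], [1, 2, 3, 0, 0, 1, 0], [0, 3, 0, 3], [2, 1, 2, 1, 0, 3], [2, 1, 0, 0, 1, 2], [0, 0, 1, 2, 3, 2, 2], [2, 3, 0, 1, 2, 1, 0, 0, 0], [3, 2, 3, 0, 0, 3], [1, 0, 0, 3, 2, 1, 0, 0, 1], [3, 2, 3, 0, 0, 3], [3, 2, 2, 1, 0, 0, 0], [3, 0, 3, 0, 0, 1, 0, 0, 1], [0, 3, 0, 3], [3, 2, 2, 1, 2, 3, 0, 0], [1, 0, 3, 0, 0, 1], [1, 2, 3, 0, 0, 3, 2, 2], [1, 2, 1, 0], [2, 3, 2, 1, 0, 1, 2, 2], [2, 2, 3, 0, 3, 0], [2, 3, 0, 3, 2, 3], [2, 1, 0, 3, 0, 3, 0, 3, 0], [0, 0, 1, 2, 3], [0, 3, 0, 0, 1, 2, 2, 3], [1, 0], [0, 1, 2, 2, 3, 0, 0, 0], [0, 0, 0, 1, 0, 1], [1, 0], [2, 3, 0, 3, 0, 0, 3], [3, 2, 1, 0, 1, 2, 3, 2], [2, 1, 0, 0, 1], [3, 2, 1, 2, 3, 0],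 [2, 1, 2, 3, 0, 0, 0, 1, 0], [1, 2, 3, 2, 2, 3], [2, 1, 2, 1, 0, 1, 0], [1, 2, 2, 1, 0, 3, 2], [1, 2, 2, 1, 0, 0, 1], [0, 0, 1, 0, 0, 3], [0, 3, 2, 1, 2], [3, 0, 0, 1, 2, 1], [2, 2, 3, 0, 3, 2, 1, 2, 1], [0, 1, 0, 0, 0, 1, 2, 1, 2], [0, 3, 0, 3, 0, 0], [3, 0, 1, 0, 0, 3, 0, 0], [1, 2, 2, 3, 2, 1], [0, 1, 2, 1], [3, 2, 1, 2, 3, 2, 2, 1], [0, 0, 1, 2, 1, 0, 0, 1], [2, 1, 0, 1, 2, 3, 2, 2], [0, 1, 2, 2, 1, 0, 3, 2, 1], [2, 3, 0, 3, 0, 3], [3, 2, 3, 0, 0, 1], [3, 0, 0, 1, 2, 3, 0], [3, 0, 1, 2, 2, 3, 0, 0], [2, 1, 2, 3, 0, 0, 3], [0, 0], [3, 2, 1, 0, 3], [1, 0, 0, 3, 0, 1, 2], [3, 0, 0, 3, 2, 1], [0, 0], [2, 1, 0, 0, 3, 0], [0, 0, 0, 3, 0, 3, 2, 1], [2, 3, 0, 0,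 0, 1], [1, 2, 3, 0, 3], [0, 0], [0, 0, 3, 2, 2, 3, 0, 3], [2, 3, 0, 1, 0, 0, 1, 2], [1, 0, 0, 1, 0, 3, 0], [2, 3, 0, 3, 0, 3], [1, 2, 1, 2, 1, 0], [0, 1, 0, 3, 2, 2, 1], [0, 0, 0, 1, 0, 0, 0, 3], [1, 2, 1, 0], [2, 1, 2], [1, 2, 2, 3, 0, 0, 0, 1], [1, 0, 0, 1, 2, 2, 1, 0], [1, 2, 1, 0], [2, 2, 3, 2, 2], [0, 0, 1, 0, 3, 2, 3, 0, 0], [2, 2, 3, 0, 0, 1, 0], [2, 1, 0, 1, 0, 0, 1, 0], [3, 0, 0, 1], [3, 0, 3, 2, 1, 2, 3], [2, 1, 0, 1, 2, 2], [3, 0, 3, 0, 0, 3, 2, 1], [2, 1, 2, 3, 0, 3, 2, 1, 2], [1, 0, 3, 0, 0, 1], [0, 0, 3, 2, 1, 0, 1, 0], [3, 0, 1, 2, 1, 0, 3, 0], [0, 3, 2, 1, 0, 0, 1], [3, 0, 0, 3, 0], [0, 1, 0, 0, 3, 2, 2], [1, 2, 1, 2, 3, 0, 3, 2], [1, 0, 0, 0,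 3, 0, 1], [0, 0, 1, 0, 0, 1, 2], [0, 1, 0, 3, 2, 2, 3], [0, 0, 3, 0, 0, 1, 0, 0, 1], [3, 0, 0, 0, 1, 2, 2, 1], [0, 1, 0, 0, 0, 1, 0, 3], [0, 1, 0, 1, 2, 1, 0], [0, 1, 2, 3, 0, 0, 1, 0], [2, 1, 0, 1, 0], [0, 3, 2, 3, 0, 1, 2, 1], [2, 3, 0, 0, 0, 1, 2, 2], [0, 1, 0, 0, 0], [3, 0, 0, 3], [3, 0, 3, 0, 0, 3, 2, 2], [1, 2, 2, 3, 0, 3], [0, 3, 2, 1, 2, 1, 2, 1], [0, 3, 0, 1, 0, 0, 1, 0], [0, 3, 0, 3, 0, 1, 2], [2, 3, 0, 1, 2, 2], [1, 0, 0, 3, 0, 0, 0, 3], [2, 1, 0, 0, 0, 1, 0, 3], [2, 1, 2, 3, 2, 2], [2, 1, 0, 0, 0, 1, 0, 3], [3, 2, 3, 0, 0, 1, 2], [2, 3, 0, 0, 0, 1, 0], [2, 3, 2], [0, 0, 0, 3, 0, 1, 2, 2], [2, 1, 0, 0, 1, 0, 3], [2, 3, 2, 1, 2, 1, 0], [2, 1, 2, 1,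 2], [3, 0, 0, 3], [0, 3, 2, 1, 0, 1, 2, 2, 1], [2, 3, 2, 1, 0], [1, 2, 2, 3, 0, 3], [3, 0, 1, 2, 2, 1], [2, 1, 0, 3, 2, 2, 3], [2, 3, 2, 1, 2], [1, 0, 1, 2, 3, 0, 1, 0], [2, 2, 3, 0, 0, 3], [0, 3, 2], [0, 0, 3, 0, 0, 3], [2, 3, 0, 3, 0, 1, 2], [0, 0, 3, 2, 3], [0, 1, 2, 2, 1, 2, 2], [0, 3, 0, 0, 0, 1, 2, 1], [2, 2, 3, 0, 3], [0, 3, 2, 3, 0], [2, 2, 1, 0, 0, 0, 3, 2, 1], [1, 2, 2, 3, 0, 0, 3, 0], [1, 0, 3, 0, 3, 2, 1], [1, 0, 0, 1, 0, 0, 1, 2], [1], [1, 2, 3, 0, 0], [0, 0, 0, 1, 0, 0, 0], [1, 0, 0, 3, 2, 1, 2, 1], [0, 0, 1, 2, 1, 0, 3], [0, 3, 0, 0, 3, 0], [1, 2, 2, 3, 0, 3, 0, 0, 0], [0, 0, 3, 2, 1, 0, 0, 1], [3, 2, 1, 2, 2, 3, 0, 3], [2, 3, 2, 2, 1, 0], [1,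 2, 3, 0, 3, 2, 1, 2], [0, 1, 2, 3, 2, 1, 2, 1], [1, 2, 1, 2, 1, 2, 1], [1, 0, 3, 2, 2, 1, 0, 3], [1, 2, 1, 0, 1, 2], [2, 2, 3, 2, 2, 3], [3, 2, 2, 3], [3, 0, 3, 0, 0, 1, 2], [1, 2, 1, 2, 1, 0, 3], [0, 1, 2, 1, 0, 1, 2], [3, 0, 0, 0, 1, 0, 0, 1], [1, 0, 0, 1, 0, 1, 2], [0, 3, 2, 1, 2, 2, 1], [0, 1, 0, 0, 1, 0, 1, 2], [1, 2, 3, 0, 0], [0, 3, 2, 2, 3], [2, 1, 0, 3, 0, 1, 2], [2, 1, 0, 3, 0, 0, 3, 2, 1], [1, 0, 0, 0, 1, 2], [2, 1, 0, 0, 0], [0, 1, 2, 3, 2, 2], [1, 0, 1, 0, 0, 0, 3], [3, 0, 1, 0, 0, 0, 1, 0, 0, 0], [0, 3, 0, 0, 3, 2, 2, 1], [2, 1, 2, 1, 2], [1, 2, 1, 0, 3, 2, 2, 1], [2, 2, 1, 0, 0, 1, 2], [2, 3, 2, 2, 1, 0, 1, 0], [3, 2, 2, 3], [2, 3, 0, 3, 0, 0],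 [3, 0, 1, 2, 3], [0, 0, 1, 2, 3, 2, 2, 1], [0, 1, 0, 0, 0, 1], [1, 2, 1, 0, 0, 1], [0, 1, 2, 3, 0, 3], [0, 1, 2, 2, 1, 2, 3], [3, 0, 3, 0, 0, 1], [0, 1, 2, 1, 0, 3, 0], [3, 2, 1, 2, 2, 1, 2, 2, 3], [0, 1, 2, 3, 2], [2, 2, 3, 0, 0, 3, 2, 1], [1, 0, 1, 2, 3, 0], [3, 2, 3, 0, 0, 3, 2, 1], [0, 3, 2, 1, 0, 0, 3], [0, 3], [0, 1, 0, 0, 0, 1, 0, 0, 0], [3, 2, 2, 3, 2, 1], [2, 1, 2, 3, 2], [2, 2, 3], [0, 3], [3, 0, 1, 2, 1, 0, 0, 1], [0, 3, 0, 0, 0, 1, 2, 3, 0], [1, 0, 1, 2, 1], [3, 0], [1, 2, 1, 0, 1, 2, 2], [3, 0, 1, 2, 1, 0, 0, 1], [1, 2, 1, 0, 0, 0], [1, 2, 3, 0, 0, 0, 1], [0, 3, 0, 0, 0, 3, 0, 0], [3, 0, 0, 1, 0, 3, 0], [0, 3, 2, 2, 3, 0, 3, 2, 1], [0, 0, 3, 0],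 [2, 3, 0], [3, 0, 0, 3, 0, 0, 1, 0], [1, 2, 3, 0, 0, 0, 1], [0, 1, 0, 0, 3, 2], [2, 1, 2, 1], [2, 1, 2, 3, 0, 1, 2, 2, 1], [0, 1, 0, 0, 0, 1], [2, 1, 2, 2, 3, 2], [1, 0, 1, 0, 0, 3, 0], [3, 0, 1, 0, 0, 1, 0, 0, 1], [2, 2, 3, 0, 0, 0], [0, 1, 2, 1, 0, 1, 2, 1], [2, 1, 2, 3, 2, 1, 0], [2, 1, 2, 3, 0], [3, 2, 2, 3, 2, 1], [0, 0, 3, 2, 2, 3, 0, 0], [0, 3, 2, 1, 2, 3], [2, 2, 3, 2, 1, 2, 3], [3, 0, 0, 0, 1, 2], [2, 3, 2, 2, 3, 0, 0], [1, 0, 0, 0, 3, 0, 3, 2, 1], [1, 2, 1, 2, 3, 0, 0, 0], [2, 3, 2, 1, 0, 1], [0, 1, 0, 1, 2, 3], [2, 1, 2, 3, 2, 2, 1], [1, 0, 0, 0, 1, 2, 2], [0, 3, 0, 0, 3, 2, 1], [1, 0, 0, 1, 2, 3], [1, 0, 1, 2, 3, 2, 2], [2, 1, 0, 0, 1, 2, 1, 0],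 [3, 2, 3, 0, 3], [2, 1, 2, 2, 1, 2, 3, 2, 2], [0, 0, 1, 2, 3, 0], [0, 0, 3, 0, 3, 2], [3, 0, 0, 1, 2, 2, 1, 0], [0, 1, 2, 3, 0, 0], [2, 2, 1, 2, 2, 1, 0, 3, 0], [3, 0, 3, 2, 3, 0, 0, 1], [2, 1], [0, 1, 2, 2, 3, 0, 3], [3, 2, 1, 0], [1, 2, 2, 3, 0, 0, 1, 0], [0, 3, 0, 1, 2, 2, 1], [2, 3, 2, 1, 2, 1, 2, 1, 2], [1, 2, 1, 2], [2, 2, 1, 2], [0, 3, 2, 1, 2, 3, 0, 0, 0], [2, 3, 2, 1], [2, 2, 1, 2, 2, 3, 0, 0], [2, 3, 0, 0, 1, 0, 0, 0], [0, 3, 2, 2, 3, 0, 3, 0], [3, 0, 0, 3, 2, 2], [0, 0, 3, 2, 1, 0, 0, 0], [3, 0, 3, 2, 1, 2, 1, 2], [1, 0, 1, 2, 2, 3], [2, 1, 2, 3, 0], [0, 0, 1, 0, 3], [0, 0, 3, 0, 0, 1], [3, 0, 3, 2, 2, 3, 0, 3], [1, 2, 1, 0, 0, 1], [0, 1, 0, 0, 3,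 0, 0], [0, 1, 0, 3, 0, 3], [0, 0, 1], [2, 1, 2, 2, 1, 2, 2], [2, 2, 1, 2, 2, 3, 0, 3], [0, 1, 2, 2, 1, 0, 3, 0], [1, 2, 1, 0, 0, 3, 0], [2, 2, 3, 0, 0, 3], [3, 2, 3, 0, 0, 3, 2, 2], [0, 3, 0, 1, 2, 1, 0, 3, 0], [2, 3, 2, 1, 2, 2, 1], [0, 3, 0, 0, 1, 2, 3], [0, 1, 2, 3, 0, 1, 0], [0, 0, 0, 3, 0, 0], [3, 0, 0, 0, 1, 0, 0, 0], [0, 3, 0, 3, 0, 3], [3, 0, 0, 3, 2, 3], [0, 1, 2, 2, 1, 0, 0, 0], [2, 1, 2, 3, 2, 1, 2], [2, 1, 2, 1, 2, 1], [2, 1, 0, 3, 0], [2, 1, 2, 2, 3, 0, 1, 0], [3, 2, 3, 0, 0, 0], [3, 0, 3, 2, 1, 0], [1, 2, 2, 1, 2, 3, 0], [0, 3, 0, 0, 1, 2, 3, 2, 2], [2, 3, 2, 1, 2, 2], [1, 0, 3, 2, 3, 0, 1, 0], [0, 1, 0, 3, 2], [2, 1, 0, 3, 2, 1, 0], [0, 0, 3,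 2, 1, 0, 3], [3, 0, 1, 0, 0, 1, 2, 2], [2, 1, 2, 2, 3, 0, 0, 3], [0, 1, 0, 3, 2], [0, 1, 0, 0, 3, 2, 2, 3, 0], [2, 3, 0, 0, 1, 2, 1, 0], [3, 2, 2, 3, 0, 1, 0], [3, 0, 0, 3, 2, 1, 2], [0, 0, 1, 0], [0, 1, 0, 0, 1], [1, 2], [0, 1, 2, 3, 0, 1, 0], [1, 0, 1, 2, 3, 2, 2, 1], [3, 0, 3, 2, 2, 3, 0], [1, 0, 1, 0, 0, 1, 2], [1, 2, 2, 3, 0, 0], [1, 0, 3, 2, 3, 0, 1, 0], [0, 3, 2, 1, 2, 3, 0, 0], [0, 0, 1, 0], [1, 0, 3, 0, 1, 2, 2, 1, 0], [1, 2, 2, 1, 0, 3], [2, 2], [3, 0, 3, 2, 1, 2, 1], [0, 0, 1, 0], [0, 1, 2, 1, 0, 1, 0], [0, 3, 2, 2, 3, 2, 1, 0], [1, 2, 1, 0, 0, 0, 3], [1, 2, 1, 0, 0, 3], [0, 1, 2, 3, 0, 0, 0], [2, 1, 0, 3, 0], [0, 1, 2, 3, 0, 0, 3], [2, 2, 1, 0, 0,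 3], [3, 0, 3, 0], [0, 0, 3, 2, 1, 2, 3, 0], [1, 2, 1, 0, 0, 3], [0, 3, 2, 1], [2, 1, 0, 1], [1, 0, 0, 0, 1, 0], [0, 0, 0, 1, 2, 2, 3], [2, 3, 0, 0, 1, 0], [1, 2], [1, 0, 3, 0, 0, 1, 0, 0, 1], [1, 2, 1, 0, 1, 2, 2, 1], [3, 0, 1, 2, 2, 1, 0], [0, 1, 2, 2, 3, 0, 0, 0, 1], [1, 2], [0, 1, 2, 1, 0], [3, 0, 1], [3, 2, 3, 0, 1, 0], [3, 0, 3, 2], [0, 1, 0, 3, 2, 2, 1, 0, 3], [1, 2, 3, 0, 3, 2, 1, 0], [2, 3, 0, 1, 0, 0, 1], [3, 2, 3, 0, 0, 0], [3, 2, 2, 1, 0], [1, 2, 3, 2, 2, 3, 0, 0, 3], [2, 2, 3, 0, 0, 1], [2, 1, 0, 1, 2, 2, 1, 0], [0, 3, 0, 0, 3, 0, 1, 2, 2], [3, 2, 2, 1, 0, 1, 0], [2, 1, 2, 3, 0, 1, 0], [1, 2, 2, 1, 0, 0, 1], [2, 1, 2, 3, 0, 0, 0], [3, 2, 2, 3, 0,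 0, 0], [0, 3, 0, 1, 2, 1, 0, 3], [1, 2, 2, 1, 0, 0, 3, 0], [0, 1, 0, 0, 1], [3, 2, 1, 2, 1], [2, 2, 1, 0, 3, 2, 2, 1, 0], [1, 2, 2, 1, 2, 2, 3], [1, 0, 0, 1, 2, 3, 0, 0, 0], [0, 3, 0, 0, 3, 0, 0, 1], [2, 1, 2, 2, 1, 0], [1, 2, 1, 2, 2, 3], [3, 2, 3, 0, 3, 0, 1, 2], [1, 0, 3, 2, 2], [3, 0, 1, 2, 1, 0, 0, 0], [2, 1, 0, 0, 3, 2, 1, 2], [0, 1, 0, 0, 0], [2, 3, 2, 1, 2, 1, 2, 1], [2, 1, 0, 1, 2, 1, 0], [1, 0, 3, 0, 0, 1, 0], [3, 0, 0, 1, 0, 0, 1], [3, 0, 0, 0, 3], [2, 1, 0, 3, 2, 1, 2, 1], [0, 0, 3, 2, 2, 3], [1, 0, 1, 0, 0, 1, 0, 0, 1], [2, 3, 2, 2], [2, 3, 0, 1, 0, 0, 3, 0], [3, 0, 1, 2, 3], [1, 2, 1, 2, 1, 2, 2, 1], [1, 0, 1, 2, 1, 0, 3], [0, 1, 0, 0, 1, 0, 1,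 2, 1], [3, 2, 2, 1, 2, 1, 0], [2, 1, 0, 0, 1, 0], [2, 1, 0, 0], [2, 3, 2, 2, 1, 0, 0, 0, 3], [2, 2, 3, 0, 1, 0, 0, 0], [2, 3, 2, 2], [1, 0, 0, 1, 2, 2, 3], [3, 0, 3, 2, 2, 1], [1, 2, 1, 2, 2, 3], [0, 3, 0, 0, 1, 0], [0, 1, 2, 1, 2, 3], [1, 0, 0, 0, 3], [1, 0, 0, 1, 2, 1], [2, 3, 2, 1, 0, 0, 0], [2, 1, 0, 0, 3], [3, 0, 0, 0, 1, 0, 3], [1, 2, 2, 3, 0, 1, 2, 2], [1, 0, 1], [0, 3, 0, 3, 2, 1, 2, 1], [2, 2, 1, 0, 3, 0, 1], [0, 0, 1, 2], [2, 1, 2, 3], [2, 3, 0, 3, 0, 0, 0], [3, 0, 0, 0, 1, 0, 3], [1, 0, 0, 3, 2, 3], [1, 2, 3, 0, 3, 0, 1, 2], [3, 0, 1, 2, 3, 0, 0, 0], [0, 3, 0, 1, 0, 0, 1, 2, 2], [0, 0, 1, 2, 1, 0, 1, 0], [0, 3, 2, 2, 1, 0], [3, 2, 1, 2, 1, 0, 1],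 [0, 0, 0, 1, 2, 1, 0], [0, 3, 0, 3, 0], [3, 2, 1, 2, 2], [0, 0, 0, 1, 0], [3, 0, 1, 0, 0, 0, 1, 2, 2], [1, 2, 2, 3, 0, 0, 3], [0, 3, 2, 1, 0, 1], [0, 3, 2, 2], [3, 2, 1, 0, 3, 0], [3, 2, 3, 0, 0, 1, 2, 1, 0], [3, 2, 3, 0, 0, 1, 0], [3, 0, 0, 0, 1, 2, 3, 0], [1, 0, 0, 0, 1, 0, 0, 0], [2, 2, 1, 2, 1], [0, 3, 2, 1, 2, 1], [1, 0, 1, 2, 1, 0, 1, 0], [3, 2, 1, 0, 0, 0, 3], [0, 3, 0, 0, 3, 2, 1, 2], [2, 2, 3, 0, 3, 2, 1, 2], [1, 2, 2], [0, 0, 1, 0, 0, 1], [1, 2, 2], [1, 2, 1, 0, 1], [0, 0, 3, 0, 0, 0, 1], [0, 3, 0, 0, 1, 0], [3, 0, 3, 2, 1], [0, 3, 0, 3, 0, 3, 0, 0, 0], [2], [0, 0, 0, 1, 2, 3, 0, 3], [2, 3, 2, 2, 3, 0, 3], [0, 0, 3, 0, 0, 0, 1], [0, 1, 2, 3, 2, 2,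 1], [3, 2, 2, 1, 0, 3], [1, 2, 2, 3, 0, 1, 2, 1], [3, 0, 0, 3, 2, 2, 3], [2, 3, 0, 0, 3, 0, 0, 3], [2, 3, 2, 2, 3, 0, 0, 3], [1, 2, 2, 1, 0, 1, 0], [1, 0, 0, 3, 2, 2, 3, 0], [1, 0, 3, 2], [1, 2, 1, 0, 3, 0, 0, 3], [2, 2, 3, 0, 1, 0, 0, 3, 0], [0, 3, 2, 1, 2, 1], [0, 0, 1, 0, 0, 3, 0], [0, 1, 2, 1, 0, 3], [0, 3, 0, 1, 2, 1, 0, 1, 0], [0, 3, 0, 0, 0, 3], [1, 0, 0, 3, 2, 1, 2], [0, 3, 0, 0, 1, 0, 0, 1], [2, 2, 1, 2, 3, 2, 2], [3, 2, 1, 2, 1, 2, 1], [0, 0, 1, 0, 0, 0], [3, 2, 1, 0, 3, 0], [1, 0, 1, 2, 1, 0], [0, 1, 0, 0, 1, 2], [3, 2, 3, 0, 1, 0, 0, 1], [2, 2, 1, 0, 1, 2], [2, 1, 2, 2, 3], [0, 1, 0, 0, 3, 2, 1], [3, 2, 1, 0, 0, 1, 0], [0, 1, 0, 1, 2], [2, 2, 1,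 0, 1, 2], [0, 1, 2, 3, 0, 0, 1], [1, 0, 0, 1, 2, 2], [1, 0, 1, 2, 3], [3, 0, 1, 2], [0, 3, 0, 0], [0, 0, 1, 2, 2, 3], [0, 1, 2, 1, 0, 3], [1, 2, 3, 0, 0, 1, 0, 3], [0, 1, 0, 3, 2, 1, 2, 1], [3, 0, 0, 3, 2, 1, 2, 3, 0], [3, 0, 1, 0, 0, 1], [1, 0, 1, 2, 2, 1, 0], [1, 0, 0, 3, 0, 3, 0], [0, 3, 2, 2, 1, 0], [1, 2, 2, 1, 0], [3, 2, 1, 0, 3, 2, 1, 0], [3, 0, 3, 0, 1, 2, 2, 1, 0], [0, 3, 2, 3, 0, 1, 0], [1, 2, 2, 1, 0], [0, 0, 0, 3, 2, 2, 3], [1, 2, 2, 1, 2, 1, 0], [0, 0, 3, 2, 1], [2, 1, 0, 3], [0, 0, 3, 2, 1], [3, 2, 3, 0, 1, 2], [1, 0, 3, 2, 1, 0, 0, 1], [3, 2, 1, 0, 1, 2, 3], [3, 2, 1, 0, 3, 2, 2, 1], [0, 1, 2, 2, 3, 0, 0], [1, 2, 3, 0, 3, 0, 3], [3, 2, 2, 1, 2,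 2, 3], [0, 0, 1, 2, 3, 0], [2, 1, 0, 3, 2, 2, 1, 0], [0, 1, 0, 3, 0, 0, 1, 0], [1, 2, 2, 1, 2], [2, 3, 0, 0, 1], [2, 2, 1, 2, 2, 3], [1, 0, 0, 1, 0, 0, 1], [0, 3, 0, 1], [2, 1, 0, 1, 2, 1, 0, 0, 0], [0, 0, 1, 2, 1, 0], [0, 0, 1, 2, 1, 0], [0, 3, 0, 1, 2, 2, 1, 0], [3, 0, 3, 0, 3, 0, 0, 3], [2, 2, 1, 0, 3], [2, 1, 2, 2, 3, 0, 1, 2, 2], [2, 1, 0, 0, 0, 3], [2, 1, 0, 0, 1, 0, 0, 1], [1, 0, 3, 2, 1, 2, 1], [2, 3, 0, 0, 3, 2, 2, 3], [3, 0, 1, 2, 1, 0, 1, 0], [0, 1, 2], [1, 0, 0, 3], [0, 0, 0, 1, 0, 3, 0], [0, 3, 0, 3, 2, 1], [3, 0, 0, 0, 3, 0, 1, 0], [0, 1, 0, 1], [1, 2, 2, 3, 0], [2, 1, 0, 0, 0, 3, 2], [0, 3, 2, 1, 0, 0, 0, 3], [2, 3, 0, 0, 0, 3, 0, 0, 0], [2, 3,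 0, 1, 2, 1], [2, 2, 1, 0, 3, 2, 1], [3, 0, 3, 2, 1, 0], [2, 1, 0, 0, 3, 2, 1, 2, 3], [0, 0, 0, 3, 0, 1, 0], [1, 2, 1, 2, 3, 0, 0], [2, 1, 2, 2, 1], [2, 2, 3, 2, 1, 2, 3, 0], [0, 1, 2, 1, 2, 1, 2], [0, 0, 3, 0, 3, 2, 2], [2, 1, 2, 2, 1], [0, 0, 1, 2, 2, 1], [3, 0, 0, 3, 0, 1, 0], [1, 2, 3], [0, 0, 0, 1, 2, 2, 3, 0], [3, 0, 0, 1, 0, 3, 0, 0, 3], [3, 0, 1, 0], [3, 0, 0, 3, 0, 0, 0], [2, 3, 0, 3, 2, 2], [0, 1, 2, 3, 2, 1, 0], [3, 0, 1, 0, 0, 0], [3, 0, 0, 1, 2, 2, 3, 0], [0, 3, 2, 2, 1, 0, 3, 0], [0, 3, 2, 2, 3, 0, 0], [2, 2, 3, 2, 2, 3, 0, 0], [1, 0, 1, 2, 1, 2], [3, 0, 3, 0, 1, 2, 1], [2, 1, 0, 1], [0, 0, 3, 0, 3, 0], [2, 3, 2, 2, 1, 0, 0, 1, 0], [0, 0, 1, 0,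 0, 0, 3, 0, 0], [0, 0, 3, 2, 2, 3, 0], [0, 1, 0, 1, 2, 1], [0, 0, 0, 3], [1, 0, 0, 3, 0, 0, 3, 2, 1], [3, 2, 1, 2, 3], [0, 1, 0, 3, 0], [0, 1, 0, 3, 0], [3, 2, 1, 0, 1, 2, 1], [3, 0, 0, 0, 3, 0, 0, 0], [3, 2, 2, 1, 0, 0, 1, 0], [0, 3, 2, 1, 0, 1, 2, 1], [2, 1, 2, 1, 2, 1, 2], [1, 0, 0, 3, 2, 1, 2, 3], [2, 3, 2, 2, 3, 2, 1], [2, 2, 1, 2, 2, 3, 0], [2, 1, 2, 1, 2, 3], [2, 1, 0, 0, 3, 2, 1], [2, 2, 3, 0, 3, 2, 1], [3, 0, 3, 2, 3], [1, 2, 3, 0, 0, 3], [2, 1, 2, 1, 0, 0, 3], [0, 3, 2, 1, 2, 3, 0], [2, 2, 1, 0, 1], [0, 0, 1, 2, 3, 2, 1], [0, 0, 0, 1, 0, 0, 3], [2, 2, 1, 0, 3, 0], [1, 2, 1, 2], [1, 0, 3, 0, 0, 3, 2, 2], [1, 2, 2, 1, 0, 0], [1, 2, 1, 2, 2, 3, 0, 0],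 [3, 0, 1, 2, 3, 0, 1, 2], [2, 1], [3, 2, 1, 0, 3, 0, 0, 0], [0, 0, 1, 0, 0, 0], [0, 3, 2, 1, 2, 1, 2, 1, 2], [1, 0, 0, 0, 1, 0, 3], [3, 2, 3, 0], [2, 3, 0, 0, 0, 3], [0, 3, 0, 0], [3, 2, 1, 2, 2, 1, 2, 2], [0, 0, 0, 1, 0, 3, 0], [1, 0, 1, 2, 1, 0, 0, 1], [0, 0, 1, 2, 3], [0, 3, 2, 3, 0, 0, 0, 1], [0, 3, 2, 1, 0, 0, 3, 0], [0, 0, 1, 0, 0, 3], [0, 1, 2, 3, 0], [1, 2, 1, 0, 1, 2, 3], [0, 3, 0, 0], [3, 2, 1], [3, 0, 3, 2, 1, 0, 0, 3], [1, 0, 0, 0, 3, 2, 1], [0, 0, 3, 0, 0, 0, 3], [3, 0, 3], [2, 1, 0, 0, 0], [0, 0, 1], [1, 0, 0, 0, 3, 2, 1], [2, 3, 0, 1, 0, 0, 1, 0], [3, 2, 1, 2, 1, 0, 0, 0], [3, 2, 2, 3, 0, 3, 2, 2], [3, 0, 3, 2, 2, 1, 0], [2, 2, 3, 0, 3], [3, 0,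 0, 3, 0, 1, 2, 2], [0, 3, 2, 2, 3], [3, 0, 3], [1, 2, 3, 0, 1], [0, 3, 2, 1, 0, 3, 0], [3, 0, 1, 0, 0, 3], [0, 3, 0, 0, 3, 0, 0], [0, 1, 0, 3, 2, 1], [2, 2, 1, 0, 3, 2, 1], [0, 3, 2, 3, 0, 0], [2, 2, 3, 0, 0, 3, 0, 0], [3, 0, 1, 0, 0, 3], [3, 2, 1, 2, 2, 1, 0, 0, 1], [1, 0, 1, 2, 3, 2, 1], [2, 1, 2, 1, 2, 3], [1, 2, 1, 2], [1, 0, 0, 0, 3, 2, 2], [0, 0, 0, 1, 2, 1, 2], [2, 2], [3, 0, 0, 3, 0, 0, 3], [0, 0, 0, 3, 0, 0], [0, 3, 0, 3, 0, 3], [3, 0, 3, 0, 3, 0, 0, 0], [0, 3, 0, 0, 0, 1], [2, 2, 3, 2, 2, 3, 0, 3], [2, 3, 2, 2, 1, 0, 3], [0, 1, 2, 3, 0], [2, 2], [2, 3, 0, 3, 2, 1], [2, 2, 1, 0, 0, 0, 3], [3, 2, 3, 0, 1, 0], [0, 1, 0, 0, 3, 0], [1, 0, 0, 1, 2], [0,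 3, 2, 3, 0, 3], [0, 0, 0, 3, 0, 1, 2, 3, 2], [0, 0, 3, 0, 1], [1, 0, 3, 0], [1, 0, 3, 0], [2, 1, 0, 1, 2, 2, 1], [2, 1, 2, 3], [1, 0, 3, 2, 1, 0], [0, 1, 2, 2, 1, 2, 3, 0], [2, 2, 1, 2, 3, 0], [3, 0, 0, 1, 2, 1, 0], [2, 2, 3, 0, 0], [1, 2, 3, 0, 0, 0], [0, 1, 0, 3, 2, 2], [2, 1, 0, 3, 0, 3, 2, 2], [1, 0, 0, 1, 2, 2, 3, 0, 0], [3, 2, 1, 0, 0, 1, 2, 2], [3, 0, 0, 1, 0], [1, 2, 2, 3], [2, 3, 0, 1, 2, 3, 2], [0, 0, 3, 0, 0, 1, 0], [3, 0, 3, 2, 3, 0, 1], [3, 0, 3, 0, 0, 3, 2, 2, 1], [0, 0, 3, 0, 0, 1, 2, 1, 0], [3, 0, 0, 1, 0, 3], [1, 0, 1, 2, 2, 3, 0, 3], [3, 2, 2, 3, 0, 0, 1, 0], [2, 1, 0], [3, 0, 1, 2, 2, 1, 2], [1, 0, 3, 2, 3, 0, 0], [0, 1, 0, 0, 3], [2, 3, 0,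 3, 0, 0, 0], [3, 2, 1, 2], [1, 2, 3, 0, 3, 2], [0, 1, 2, 3, 0, 3, 0, 1, 2], [3, 2, 1, 0, 0, 3, 0], [2, 2, 1, 0, 0, 1], [1, 2, 3, 2, 1, 2, 2, 1], [1, 0, 0, 0, 1, 2, 1, 2], [2, 3, 0, 0, 3, 2, 1], [0, 0, 0, 1, 2], [2, 1, 2, 1, 0, 1, 2, 3], [1, 0, 3, 0, 0, 0], [2, 3, 0, 1, 2, 2, 3, 0, 0], [1, 0, 3, 0, 0, 3, 0, 0], [2, 3, 2, 1, 0, 3], [2, 2, 3, 2, 1], [0, 0, 0, 1, 2], [2, 1, 0, 0, 0, 3, 2, 2], [3, 0, 0, 1, 0, 0, 3], [0, 0, 0, 1, 2, 2, 3, 0, 0], [0, 3, 2, 1, 0, 0, 0], [2, 3, 0, 0, 3, 2, 2], [2, 1, 0, 1, 2, 2, 3], [1, 0, 3, 0, 1], [2, 2, 1, 2, 1, 0], [0, 1, 2, 3], [0, 0, 1, 2, 2], [3, 0, 0, 1, 2, 2, 3], [3, 2, 1, 2, 2, 3], [3, 2, 1, 2, 2, 3], [3, 2, 1, 2, 1, 2, 2,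 1], [3, 0, 1, 0, 0, 3, 2, 1], [1, 2, 3, 2, 2, 3, 2], [2, 2, 3, 2, 1], [0, 0, 1, 0, 3, 0], [0, 0, 3, 2, 1, 0, 0, 0, 3], [3, 2, 2, 3, 2, 2], [0, 1, 0, 0, 3], [2, 3, 2, 1, 2, 3, 0], [0, 3, 0, 3, 2, 1, 0], [2, 2, 3, 2, 1], [0, 1, 2, 3], [1, 2, 2, 1, 2, 3, 2], [1, 2, 2, 3], [1, 0, 0, 3, 0], [1, 0, 3, 0, 3, 0, 3, 0], [0, 3, 2, 3, 0, 0, 1], [2, 3, 2, 1, 2, 1], [1, 0, 0, 1], [2, 1, 2, 2, 1, 2, 2, 3], [2, 3, 0, 3, 2, 2, 1], [3, 0, 1, 2, 1, 0, 3], [2, 2, 1, 2, 3, 0, 0, 0], [2, 3, 0, 3], [2, 1, 0, 0, 3, 2, 2], [2, 3, 0, 3], [1, 0, 0, 1, 2, 1], [3, 2, 1, 2], [3, 0, 0, 3, 2, 2, 1], [0, 0, 3, 2, 1, 2, 1, 2, 1], [3, 0, 0, 0, 1, 2, 2], [3, 0, 0, 1, 2, 3], [1, 2, 3, 2, 2], [2,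 1, 0, 0, 0, 1, 2], [1, 0, 3, 0, 0, 3, 2, 1], [1, 0, 3, 2, 2, 1], [2, 3, 0, 0, 3, 0, 0, 1], [2, 3, 2, 1], [3, 0, 0, 3, 2, 1, 0, 0, 0], [2, 1, 2, 1, 0], [2, 1, 2, 1, 0], [2, 1, 0, 0, 1, 2, 2, 1, 0], [0, 1, 0, 3, 2, 3, 0, 0], [0, 1, 0, 3], [2, 2, 1, 2], [0, 0, 1, 0, 0, 0, 3], [3, 0, 0, 3, 0, 0, 1], [3, 2, 3, 0, 0, 1, 0, 0, 0], [1, 0, 0, 3, 2, 1, 0, 1], [1, 0, 1, 0, 0, 0, 1, 0, 0, 0], [1, 0, 3, 0, 0, 0, 3, 0, 0], [0, 3, 0, 0, 3, 2, 1, 0, 0, 1], [0, 0, 1, 2, 2, 1, 0], [0, 3, 2, 1, 0, 1, 0], [3, 2, 1, 0, 0, 1], [3, 2, 1, 0, 0, 1], [0, 3, 0, 0, 1], [0, 1, 2, 3, 2, 2, 1, 0], [2, 3, 0, 3, 2, 1, 2, 3], [0, 3, 0, 0, 1], [2, 3, 2, 2, 3], [1, 0, 0, 3, 2, 2], [2, 2, 3, 0,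 1], [0, 0, 3, 2, 2], [0, 3, 2, 1, 2, 1, 2], [0, 0, 1, 0, 0, 1, 0], [1, 0, 0, 3, 0, 0, 1], [3, 0, 0, 0, 3, 2, 2], [1, 0, 3, 0, 0, 1, 2, 3], [1, 2, 2, 1, 2, 2, 3, 0, 0], [0, 1, 0, 3], [0, 3, 2, 2, 1], [1, 2, 3, 2, 1], [1, 2, 3, 0, 0, 1, 0, 0, 0], [3, 2, 1, 2, 1, 0], [2, 2, 1, 2], [2, 1, 2, 3, 2, 1, 2, 1], [1, 0, 1, 2], [2, 1, 0, 3, 2, 2, 1], [3, 2, 3, 0, 3, 0, 3], [0, 0, 3, 0, 1, 2], [2, 3, 2, 1, 0, 0, 1, 0], [2, 1, 0, 0, 1, 2, 2], [1, 2, 3, 0, 0, 1], [2, 3, 0, 1, 2], [2, 1, 2, 2, 1, 2], [1, 0, 1, 2], [1, 0, 0, 3, 2, 1], [3, 0, 3, 2, 1, 0, 0, 1], [2, 1, 2, 2, 1, 2, 1, 0], [0, 1, 2, 2, 3], [1, 2, 1, 0, 3], [3, 2, 2, 1, 2], [1, 0, 3, 0, 0, 0, 3, 2], [0, 1, 0, 0,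 1, 0, 0, 1], [0, 0, 1, 2, 3, 0, 0, 0], [1, 2, 1, 2, 1], [1, 0, 3, 0, 1, 2, 2, 1], [2, 1, 2, 2, 1, 0, 0, 1], [2, 2, 1, 0, 0, 1], [0, 3, 0, 3, 2, 1, 0], [3, 2, 1, 2, 3, 0, 0, 0], [3, 2, 3, 0, 0, 3, 2, 2, 3], [0, 3, 0, 0, 3, 0, 0, 3], [3, 2, 1, 2, 2, 1, 0], [0, 3, 2, 3, 0, 3, 0, 1, 2], [1, 0, 3, 2, 2, 1], [2, 3, 0, 0, 1], [3, 0, 1, 2, 2, 3], [2, 2, 1, 2, 2, 3], [2, 2, 3, 0, 0, 0, 1], [0, 1, 0, 0, 0, 3], [3, 0, 0], [0, 0, 3, 2, 2, 1, 0, 3], [2, 2, 3, 0, 0, 0, 1], [1, 0, 3, 0, 0, 1, 0, 3, 0], [0, 3, 2, 2, 3, 0, 3], [1, 0, 0, 0, 3, 0], [2, 2, 1, 2, 3, 0], [2, 1, 2, 3, 0, 3], [0, 0, 3, 0, 3, 2, 1], [0, 1, 2, 3, 0, 0, 3, 2, 2], [0, 0, 0, 1, 0, 0, 1, 2], [0, 0, 0, 3,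 0, 0, 1, 0], [2, 3, 0, 0, 3, 0], [3, 2, 1, 2, 1, 0], [3, 0, 0], [2, 2, 1, 0, 0, 3, 0], [3, 0, 0, 1], [0, 3, 2, 2, 3, 2, 1], [1, 0, 1, 2, 3, 2], [2, 1, 2, 3, 2], [1, 2, 1, 2, 1, 0, 0, 0], [0, 0, 3, 2, 1, 2, 3], [3, 0, 0, 0, 1, 2, 3], [1, 0, 0, 3, 0, 1, 2, 2], [3, 2, 2, 1, 0, 3, 0], [1, 2, 2, 3, 2], [2, 1, 0, 0, 3, 2], [1, 0, 0, 1, 2, 2, 1], [2, 3, 0, 3, 0, 1, 2, 1], [1, 2, 3, 2, 2, 3, 0], [1, 2, 1], [2, 3], [2, 2, 3, 0, 0, 3, 2, 2], [1, 2, 3, 2, 1, 0], [2, 3], [3, 2, 1, 0, 0, 3, 2, 1], [3, 0, 0, 0, 3, 2, 1], [2, 1, 2, 2, 1, 2, 3], [1, 2, 2, 3, 0, 0, 1, 2], [2, 3, 2, 1, 2, 3], [2, 3, 2, 1, 0, 0, 3], [3, 2, 3, 0, 3, 0], [1, 0, 0, 0, 3, 0, 1, 0], [0, 0, 3], [1,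 0, 3, 2, 2, 1, 2, 2], [1, 0, 3], [1, 2, 1, 0, 1, 2, 1], [3, 0, 0, 0, 1, 2, 2, 3, 0], [3, 2, 2, 3, 0, 3, 2, 1], [2, 1, 2, 3, 0, 0, 0, 1], [3, 0, 3, 0, 3, 2, 1], [1, 2, 1, 0, 1, 2, 1], [2, 1, 0, 0, 0, 1], [0, 0, 1, 2, 2, 3, 0, 0], [3, 2, 2, 3, 0, 0], [0, 1, 2, 1, 0, 1, 2, 2], [2, 3, 0, 0, 0], [2, 1, 0, 0, 0, 1], [1, 0, 1, 0, 0, 0], [0, 3, 0, 1, 2, 1, 0, 0, 1], [0, 3, 0], [2, 3, 2, 1, 0, 3, 0], [1, 2, 2, 3, 0, 3, 2, 2], [0, 1, 0, 1, 2, 3, 2, 1], [1, 0, 3, 0, 1, 2, 1], [3, 0, 0, 1, 2, 3, 2, 1], [0, 3, 2, 3, 0, 3, 0, 0, 0], [1, 0, 1, 0, 0, 0], [2, 1, 0, 3, 2, 1], [2, 3, 0, 0, 1, 0, 3, 0], [2, 3, 0, 0, 3, 0, 0], [3, 2, 1], [0, 1, 2, 2, 1, 2], [1, 2, 3, 0], [3, 0,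 0, 1, 0, 0, 0], [3, 2, 3, 0, 0, 0, 3], [3, 2, 1, 2, 3, 0, 0], [0, 3, 0, 0, 3, 2, 2], [2, 1, 2, 1, 0, 0, 0, 3], [2, 2, 1, 0, 0], [1, 2, 3, 2, 1, 2, 2], [0, 1, 0, 0, 0, 3, 2, 2], [3, 0, 3, 2], [3, 0, 0, 1], [1, 2, 2, 1, 0, 0, 1, 0], [1, 0, 1, 0], [2, 3, 0, 0, 3], [2, 3, 0, 1, 2, 2, 1], [2, 1, 2, 2, 3, 0, 3], [1, 2, 2, 1, 2, 2], [2, 1, 2, 1, 0, 0, 3, 0], [3, 2, 1, 0, 1, 2, 2, 1], [2, 2, 1, 2, 1, 2], [2, 1, 0, 3, 0, 0, 1, 0], [0, 0, 3, 2, 2, 1], [0, 3, 0, 1, 2, 2, 3], [0, 1, 2, 3, 2, 1], [0, 1, 0, 0, 3, 0, 0, 1], [0, 0, 3, 2, 2, 1], [3, 0, 3, 0, 0, 1, 0, 3, 0], [1, 0, 3, 2, 1, 0, 1, 0], [1, 2, 3, 0, 3, 0, 0, 0], [1, 0, 1, 0, 0, 3], [2, 3, 2, 1, 0, 0, 1, 2], [1,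 0, 1, 0, 0, 3], [2, 1, 2], [1, 2, 3, 2, 1, 2, 1], [0, 1, 0, 0, 1, 0, 3], [2, 3, 0, 0, 1, 2, 3], [3, 2, 1, 2, 1, 2, 1, 2], [3, 2, 3, 0, 3, 2, 2], [3, 0, 3, 2, 1, 2, 3, 0], [0, 3, 2, 1, 0], [0, 0, 1, 2, 2, 3, 0, 3], [1], [3, 0, 1, 2, 1, 2, 1, 2], [0, 3, 2, 1, 0], [0, 1, 2, 1, 2], [0, 0, 0, 3, 0, 0, 1], [3, 2, 1, 2, 2, 1], [3, 0, 3, 2, 3, 0, 0], [3, 0, 1, 0, 0, 0, 3], [3, 2, 3, 0, 0, 3, 0], [3, 0, 0, 3, 0, 3, 2, 1], [0, 0, 0, 3, 0], [0, 0, 1, 2, 1, 0, 1, 2, 1], [2, 1, 2, 1, 0, 1, 2, 1], [3, 0, 1, 0, 0, 0, 3], [3, 0], [1, 0, 0], [3, 2, 2, 1, 0, 0, 3, 0], [3, 2, 2, 1, 2, 3, 0], [1, 2, 3, 0, 3, 0, 0, 3], [0, 1, 2, 1, 0, 0, 3, 0], [0, 0, 1, 0, 3], [3, 0, 3, 2, 2, 3,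 0, 3], [0, 3, 2, 3, 0, 3], [1, 0, 3, 2, 2, 1, 0], [0, 0, 0, 1, 2, 3, 0], [0, 0, 3, 0, 0, 3, 2, 1], [1, 2, 2, 1, 2, 3, 2, 2], [1, 2, 1, 2, 3], [3, 0, 0, 3, 0, 3, 0], [2, 1, 2, 1, 0, 1], [2, 1, 2, 3, 0, 3, 0, 3], [1, 0, 0, 1, 2, 1, 0], [1, 2, 1, 2, 3], [0, 0, 0, 1, 0, 3], [3, 0, 0, 3, 2, 2, 3, 0], [1, 2, 1, 2, 2, 1, 0, 0, 1], [1, 0, 0, 1, 2], [0, 3, 2, 3, 0, 3], [0, 0, 3, 0, 1], [0, 0, 1, 2], [2, 3, 0, 1, 0, 0, 0], [0, 1, 0, 1, 2, 1, 0, 3], [3, 2, 2, 1, 0, 0, 0, 3], [2, 3, 2, 2, 1], [1, 0, 0, 3, 0, 0, 3], [3, 0, 0, 1, 2, 3, 0, 3], [3, 0, 0, 0, 3, 0, 0], [1, 0, 0, 1, 0], [1, 2, 3, 0, 1, 0], [1, 2, 3, 0, 1, 0], [0, 1, 2, 1, 2, 2, 3], [2, 1, 2, 2, 3], [0, 1, 0, 0,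 1, 2, 2, 3], [1, 0, 0], [3, 2, 2], [3, 2, 2, 3, 2], [0, 0, 0, 3, 2, 1], [0, 3, 2, 2, 3, 2, 1], [1, 0, 0, 3, 0, 0, 0], [1, 2, 3, 0, 1, 2, 2, 1], [2, 1, 2, 3, 2, 1, 0, 1, 2, 1], [1, 0, 3, 2, 1, 0], [2, 1, 2, 1, 0, 3, 0], [0, 3, 0, 0, 3, 0, 3, 2, 1], [3, 2, 1, 2, 3], [0, 3, 0, 1, 0, 0, 3], [3, 2, 1], [2, 1, 2, 3, 0, 0], [2, 2, 3, 0, 1, 2, 3], [2, 1, 0, 0, 3, 0, 0], [0, 3, 0, 0, 1, 0, 3, 0], [1, 2, 3, 2, 2, 1], [0, 3, 0, 1, 2, 3], [2, 1, 0, 1, 2, 3], [1, 0, 3], [1, 2, 3, 0], [0, 3, 0, 3, 0, 0, 1], [1, 2, 1], [1, 2, 2, 1, 0, 3, 2, 1], [1, 2, 1, 2, 2, 1, 2, 2], [2, 3, 0, 0, 3, 2, 1], [0, 3, 2, 3, 0, 0, 3, 0], [2, 3, 2, 1, 2, 3, 2, 2, 1], [3, 0, 1, 2, 3, 0], [1, 0,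 3, 2, 1, 0, 0, 3], [2, 2, 1, 2, 1, 2], [0, 0, 0, 3, 2, 2], [0, 3, 0, 0, 1, 2, 2, 1, 0], [2, 1, 0, 1, 0, 0, 3], [2, 1, 0, 1, 2, 3], [3, 0, 1, 0, 0, 3, 0], [2, 1, 0, 0, 1, 0, 3, 0], [0, 1, 2, 3, 2, 1, 2], [3, 0, 0, 3, 2], [1, 0, 3, 0, 0, 0, 3, 2, 1], [3, 0, 3, 2, 1, 2], [1, 2, 3, 0, 0, 1, 2], [2, 2, 3, 2, 2, 3, 0], [3, 0, 1, 2, 3, 0, 3], [2, 2, 3, 0, 3, 0, 0, 0], [0, 0, 3, 0, 1, 0], [1, 0, 3, 0, 0, 3], [0, 3, 0, 1, 2, 1], [1, 2, 3, 0, 3, 2, 2], [0, 3, 0, 1, 2, 1], [0, 1, 0, 3, 0, 0, 3], [0, 0, 3, 0, 1, 0], [2, 1, 0, 0, 1], [2, 1, 0, 0, 0, 1, 2, 1, 2], [0, 1, 2, 2, 1], [0, 3, 2, 1, 0, 1, 2], [3, 0, 0, 1, 0, 1, 2], [2, 1, 2, 1, 0, 0, 0], [3, 0, 3, 0, 1, 0], [3,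 0, 3, 0, 0, 0], [1, 0, 1, 2, 1], [2, 1, 2, 3, 2, 2, 1, 0, 3], [0, 1, 0, 0, 1, 2, 3, 0, 3], [0, 0, 1, 0, 3, 0, 0, 3], [2, 3, 0, 0, 1, 2], [1, 2, 1, 0, 3, 2, 1], [1, 0, 0, 0, 1, 2, 2, 1], [0, 1, 0, 3, 0, 1, 2, 1], [0, 1, 2, 2, 3, 2], [3, 0, 1, 2, 3, 0, 3], [3, 0, 0, 3, 2, 1, 2, 3], [3], [2, 1, 0, 1, 0, 0, 3, 0], [2, 1, 2, 1], [2, 3, 2, 1, 2], [2, 1, 2, 1, 2, 3, 0, 0], [0, 3, 0, 1, 0], [0, 1, 0, 1, 2, 3, 0, 0, 3], [1, 2, 3, 2, 2, 1, 0, 3], [0, 1, 0, 3, 0, 0, 0], [2, 2, 3, 0, 1, 0], [3, 2, 1, 0, 0, 3], [1, 0, 3, 0, 3, 0], [1, 0, 0, 3], [0, 3, 0, 0, 0, 3, 0, 0, 0], [3, 0, 1, 2, 1], [3, 0, 0, 0, 3, 2, 2, 1], [0, 3, 0, 0, 0, 3, 0, 1, 0], [0, 0, 0, 3, 0, 3, 2, 2], [2,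 2, 3, 0, 1, 0], [2, 1, 0, 1, 2, 3, 0], [1, 2, 3, 0, 0, 1, 2, 1, 0], [2, 3, 2, 1, 0, 0, 0, 1], [1, 0, 3, 0, 0, 1, 2], [3, 0, 0, 0, 1], [0, 0, 3, 0, 0, 1, 2, 2, 3], [3, 0, 0, 1, 2, 3, 2, 2], [0, 1, 0], [1, 2, 3, 0, 0, 0, 1, 0], [0, 1, 0], [1, 0, 0, 1, 0, 1, 2, 1], [0, 0, 3, 2, 1, 2], [2, 1, 2, 2, 1, 2, 3, 0], [1, 0, 1, 0], [3, 2, 1, 0, 1, 0], [2, 1, 0, 0, 0, 3, 2, 1], [1, 0, 1, 0], [2, 3, 0, 0, 3], [2, 2, 3, 2], [0, 0, 3, 0, 3, 0, 1, 2], [0, 3, 0, 0, 3], [2, 2, 1, 2, 2, 1, 2, 2], [0, 3, 2, 3, 0, 0, 1, 2], [1, 0, 0, 0], [1, 0, 0, 0], [2, 1, 0, 3, 2], [0, 1, 2, 1, 2, 1], [2, 2, 1, 2, 1, 0, 0, 3], [1, 0], [0, 0, 0, 1, 2, 2], [3, 0, 0, 0, 3, 0], [2, 1, 0, 0, 1], [3,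 0, 3, 0, 0, 0], [3, 0, 1, 2, 3, 0, 3], [1, 2, 3, 0, 1, 2], [2, 3, 2, 2, 1, 2, 1, 2], [2, 1, 2, 1, 0, 1, 2, 2, 1], [2, 3, 2, 1, 2, 2, 3, 0, 3], [1, 2, 1, 0, 3, 0, 1], [1, 0, 0, 3, 2, 2, 1, 0], [2, 2, 1], [0, 3, 0, 0, 0], [0, 3, 0, 0, 0, 1, 0], [3, 2, 3], [0, 3, 0, 1, 2, 2], [0, 1, 2, 3, 0, 3, 0], [2, 2, 1], [2, 1, 2, 3, 0, 0, 0, 3], [1, 2, 2, 1, 2, 3, 0, 3], [1, 0, 1, 2, 2], [1, 2, 1, 0, 1, 2], [1, 0, 0, 0, 1, 2], [2, 1, 2, 2, 3, 2], [2, 1, 2, 2, 1, 0, 3, 2, 1], [0, 0, 1, 2, 3, 0, 1, 2, 2, 1], [0, 3, 0, 0, 0], [0, 3, 0, 3, 0, 3, 0], [0, 0, 1, 2, 2, 3, 2], [2, 3, 0, 0, 0, 3, 2, 1], [1, 0, 3, 2, 1, 2], [2, 2, 1, 2, 1, 0, 1, 2, 1], [2, 1, 2, 1], [1, 0, 0, 1, 0,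 0, 3], [0, 0, 1, 2, 1], [3, 2, 1, 0], [2, 3, 2, 1, 2, 3, 0, 0], [3, 2, 2, 1, 0, 0, 1], [3, 0, 0, 1, 2, 2], [3, 2, 2, 3, 0, 0, 3], [2, 2, 1, 2, 3], [0, 1, 2, 3, 0, 0, 3], [1, 0, 0, 1, 0, 0, 0], [1, 0, 1, 2, 2, 1, 2, 3, 0], [3, 2, 2, 1, 0], [2, 1, 2, 2], [0, 3, 0, 0, 1, 0, 0, 0], [0, 3, 0, 3, 0, 0, 3], [2, 2, 1, 2, 3], [0, 1, 2, 1, 0], [2, 1, 0, 0, 3, 0, 3, 0], [3, 0, 1, 0, 0, 0, 1], [1, 0, 0, 0, 1, 2, 1, 0], [2, 2, 3, 2, 2, 1], [3, 0, 0, 3, 0, 1, 2], [1, 0, 1, 2, 1, 0, 0, 0], [2, 3, 0, 3, 2, 1, 0], [1, 2, 2, 3, 0, 1, 0], [2], [0, 0, 1, 2, 3, 0, 0, 3], [1, 0, 0, 3, 2, 3], [3, 0, 1, 2, 3, 0, 0, 3], [3, 0, 1, 2, 2, 1, 0, 0, 0], [2, 2, 1, 0, 3, 0, 0, 0], [1, 0, 3,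 2, 2, 3, 0], [2, 3, 0, 3, 2, 1, 0], [0, 3, 0, 1, 2, 1, 0, 0, 0], [2, 1, 2, 1, 2, 2, 1], [2, 2, 3, 2, 1, 0, 0, 1], [3, 0, 0, 3, 0, 1, 2], [0, 1, 2], [3, 2, 2, 1, 2, 2], [1, 0, 0, 3], [3, 2, 1, 0, 1, 2, 1], [3, 0, 0, 0, 3, 0, 1, 0], [3, 2, 2, 1, 2, 2], [2, 3, 2, 2, 3, 0], [3], [2, 1, 0, 0, 0, 3, 0, 0], [1, 2, 1, 0, 3, 2, 1], [2, 3, 2, 2, 1, 0, 0], [0, 1, 2, 2, 3, 0], [2, 3, 0, 3, 0], [2, 1, 0, 3, 0, 3, 2, 1], [1, 2, 3, 0, 0, 3, 2, 1], [3, 2, 2, 3, 0, 0, 1, 2], [3, 2, 3, 0, 3, 0, 0, 0], [0, 0, 1, 2, 3, 0, 3], [0, 0, 1, 2, 2, 1, 0, 0, 0], [1, 2, 2, 1, 0, 0, 0, 1], [3, 2, 1, 0, 0, 0], [3, 2, 3, 0, 0, 0, 1], [3, 0, 3, 2, 1, 2], [2, 1, 0], [0, 1, 2, 3, 0, 0, 1, 2],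 [2, 2, 1, 2, 1, 0, 1, 0], [0], [3, 2, 2, 3, 0, 3, 0], [1, 2, 1, 0, 0, 1, 0], [0, 0, 1, 0, 1], [3, 2, 1, 0, 1, 2, 2], [2, 1, 0, 1, 0, 0, 0, 3], [3, 2, 2, 1, 2, 2, 3, 0, 0], [0, 3, 2, 3, 0, 0, 0, 1, 0], [1, 0, 0, 3, 2, 1, 0, 0, 0], [0, 0, 0, 1, 0, 1, 2], [1, 2, 2, 3, 0, 0, 0], [0], [3, 0, 3, 0, 0, 3, 0, 0], [3, 2, 1, 0, 0, 0], [1, 0, 0, 0, 3, 0, 0, 0], [1, 0, 0, 1, 0, 3, 0, 0, 3], [1, 0, 3, 2, 3], [0, 0, 3, 0, 0, 0], [1, 2, 3, 2], [1, 0, 0, 0, 3, 0, 1, 0], [2, 2, 3, 0], [0, 3, 0], [0, 0, 3, 0, 0, 3, 0, 0], [2, 1, 2, 2, 3, 0, 0], [2, 2, 3, 2, 1, 0], [3, 0, 3, 0, 0, 3, 0, 0], [2, 1, 2, 2, 1, 0, 3, 0], [2, 2, 1, 2, 3, 0, 0, 0, 1], [0, 1, 0, 0, 0, 1, 2, 2], [3, 0,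 3, 0, 3, 0, 3], [2, 2, 1, 0, 1, 2, 1], [0, 1, 2, 1, 0, 0, 1], [], [1, 2, 1, 0, 0], [0, 0, 0, 3, 0, 0, 0, 1], [0, 1, 0, 1], [0, 3, 0, 0, 0, 1, 0, 3], [1, 2, 1, 0, 3, 0, 0], [1, 0, 1], [0, 0, 3, 2, 1, 2, 1], [3, 0, 3, 0, 1, 2, 3, 2], [1, 2, 3, 0, 0, 3], [3, 0, 3, 0], [2, 2, 3, 0, 0, 3, 2, 1], [0, 1, 0, 3, 0, 3, 0], [2, 3, 0, 3, 0, 1, 0], [1, 2, 1], [3, 2, 3, 0, 0], [2, 1, 2, 3, 0, 3, 2], [3, 2, 3, 0, 0], [2, 2, 1, 0, 0, 1], [0, 3, 2, 1, 0, 3], [1, 0, 0, 1], [0, 3, 0, 3, 0], [2, 1, 0, 3, 0, 1], [0, 3, 0, 3, 0], [2, 2, 1, 2, 1], [0, 1, 0, 3, 0, 0, 0, 1], [0, 0, 3, 0, 1, 2, 1], [2, 3, 2, 1, 0, 3], [3, 2, 1, 0, 3, 0], [0, 0, 0, 3, 0, 1], [3, 2, 1, 0, 3, 0], [2, 2,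 1, 2, 2, 3, 2], [1, 0, 0, 0, 1], [3, 0, 3, 2, 2, 3, 2, 1], [3], [1, 0, 0, 3, 2], [2, 1, 0, 1], [2, 3, 0, 0, 1, 0, 3], [0, 3, 2, 1, 0, 3, 0, 0], [1, 2, 1, 2, 1, 0, 1], [2, 2, 3, 0, 1, 2, 1], [3, 0, 0, 3, 0, 1], [0, 0, 1, 0, 0, 1], [1, 0, 0, 3, 0, 1, 2], [1, 2, 2, 1, 2, 3], [3, 2, 3, 0], [2, 2, 3, 0, 1, 2, 3, 2], [0, 0, 1, 0, 3, 0], [1, 0, 0, 0, 3, 2], [1, 0, 1], [0, 3, 2, 2, 1, 2, 2], [1, 2, 2, 1], [2, 1, 0, 3, 2, 1], [0, 3, 2, 2, 3, 2], [3, 0, 3, 2, 1, 0, 1], [0, 0, 0], [2, 1, 0, 1, 2], [0, 0, 0], [3, 0, 3, 2, 3], [3, 0, 3, 0, 3], [1, 0, 3, 2], [1, 0, 3, 0, 0, 0, 1, 0], [0, 1, 0], [2, 2, 3, 2, 2], [1, 2, 1, 2, 1, 2, 1], [0, 0, 3, 0, 0], [1, 0, 1, 0], [2, 1,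 0, 0, 3, 2, 1, 0, 1], [2, 1, 0, 0, 0, 3, 2, 1], [3, 0, 3, 0, 0, 3, 0, 1], [1, 0, 3, 2, 2, 3], [1, 0, 0, 0, 1, 2, 3], [0, 1, 2, 2, 3, 0, 3], [1, 0, 1, 2, 3, 0, 3], [0, 0, 1, 0, 0, 1, 0, 3], [1, 0, 0, 0, 1, 0, 3], [2, 1, 0, 0, 0, 3, 0, 1], [1, 0, 3, 0, 1, 2], [0, 0], [2, 1, 2, 2, 1, 2, 3, 2], [2, 2, 1, 2, 1, 2, 3], [0, 3, 0, 0, 1, 0, 3], [0, 1, 0, 3, 0, 1], [1, 0, 1, 0, 0, 0, 3], [3, 2, 3, 0, 3, 0, 0], [3, 2, 1, 2, 2, 3, 2], [1, 0, 1, 2, 3], [3, 0, 0, 3, 2, 1], [2, 3, 0, 0, 0, 1], [2, 1, 0, 0, 0, 1, 0], [1, 0, 3, 2, 3, 0, 3, 2], [3, 0, 3], [2, 2, 3, 0, 3], [0, 1, 0, 0, 0], [2, 1, 0, 1, 0], [2, 3, 0, 1, 2, 2], [3, 2, 3], [1, 2, 2, 3, 2, 2, 3], [3, 2, 1, 0, 0, 1],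 [0, 3, 0, 3, 2], [0, 0, 3, 2, 3], [0, 1, 2, 1, 2], [1, 0, 1, 0, 0, 1, 0], [1, 0, 3, 0, 3, 0, 1], [3, 0, 3], [1, 2, 3, 0, 1], [0, 0, 3, 2, 1, 0, 1], [2, 3, 2, 2, 3, 2], [3, 2, 3, 0, 0, 3, 2, 1], [2, 2, 1, 2, 3, 2], [3, 2, 1, 0, 1, 2, 3], [2, 2, 3], [2, 2, 1, 0, 0, 0, 1], [3, 2, 3, 0, 1, 2, 3, 2], [0, 3, 0, 0, 0, 3, 2], [3, 2, 2, 3, 2, 1], [3, 2, 3, 0, 3], [1, 0, 0, 1, 0, 3], [2, 3, 2, 1], [2, 3, 0, 3, 2], [2, 2], [1, 2, 3, 2, 2, 3, 0, 3], [0, 0, 3, 0, 1, 2, 3, 2], [0, 3, 0, 3, 2, 2, 3], [2, 1, 0, 0, 1, 2, 1], [3, 2, 1, 0, 0, 0, 1], [3, 2, 2, 1, 2, 1, 0], [3, 2, 1, 2, 1], [0, 3, 2, 1], [1, 2, 2, 1, 0, 3], [1, 2, 1, 2, 3], [0, 1, 2, 1, 2, 1, 0], [3, 2, 1, 2, 3,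 0, 0, 3], [3, 0, 1, 0, 0, 3, 2], [1, 2, 1, 0, 3], [0, 3, 0, 1], [2], [2, 1, 2, 2, 3], [2, 1, 0, 0, 3], [1, 2, 3, 2, 1, 2], [0, 0, 0, 1, 0], [0, 3, 0, 0, 1, 2, 2], [1, 0, 0, 3, 0, 0, 3], [1, 0, 0, 1, 2, 2], [3, 0, 0, 0, 3, 0, 0], [0, 0, 1, 0, 3, 2], [2], [1, 2, 3, 0, 1, 0], [0, 1, 2, 1, 2, 2, 3], [0, 1, 0, 1, 2], [0, 3, 2, 3, 0, 1, 0], [0, 1, 2], [3, 0, 0, 1, 0], [1, 0, 1, 0, 0], [0, 0, 1, 2, 1, 2, 3], [1, 0, 3, 0], [1, 0, 0, 3, 0, 0, 0], [0, 1, 0, 3, 2, 1], [0, 3, 0, 0, 3, 2], [0, 0, 1, 2, 2, 1], [3, 0, 3, 0, 1, 2, 1], [2, 2, 1, 2, 3, 2, 1, 0], [3, 2, 2, 1, 0, 3, 0, 1], [2, 2, 1, 0, 3, 0], [0, 1, 0, 3, 0, 0, 1], [3, 0, 0, 0, 1, 2, 1], [3, 0, 1, 2, 3, 2], [2,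 1, 0, 0, 0], [1, 0, 1, 2, 2, 1, 2], [0, 3, 0, 0, 0, 1], [2, 2, 3, 0, 0], [0], [0, 0, 3, 0, 0, 1, 0], [3, 0, 0], [2, 2, 1, 0, 3, 2], [2, 1, 2, 1, 0], [3, 0, 0, 3, 2, 2, 1], [1, 2, 2, 1, 2, 3, 0, 0], [1, 0, 3, 0, 0, 0], [0, 3, 0, 0, 1], [3, 2, 2, 1, 0, 1, 2], [0, 1, 0, 0, 3], [2, 2, 1, 2, 3, 0, 1, 0], [3, 2, 3, 0, 3, 2, 3], [3, 2, 2, 1, 2], [1, 2, 1, 0, 1, 2, 3, 2], [0, 3, 2, 2, 1], [0, 0, 0, 1, 0, 1, 2], [0, 0, 1, 2, 3, 0, 1, 0], [0], [1, 2, 2, 3, 2], [0, 0, 0, 3, 2, 1], [1, 2, 3, 2, 1, 0], [1, 0, 0, 3, 0, 1, 0], [1, 2, 1, 2, 2, 1, 0], [1, 2, 2, 3, 2], [0, 0, 3], [1, 2, 2, 1, 2, 2], [3, 0, 0, 0, 1, 0, 3, 0], [0, 3, 0, 1, 2, 1, 0, 0, 1], [0, 1, 2, 3, 0, 1], [2,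 1, 2], [1, 2, 2, 1, 0, 0, 1, 0], [2, 3, 0, 1], [3, 2, 1, 2, 2, 1], [0, 1, 2, 3, 0, 0, 0, 1], [3, 2, 1, 0, 1], [3, 2, 2], [0, 3, 0, 1, 2, 3], [3, 0, 3, 0, 0], [2, 3, 0, 3, 0], [0, 1, 0, 0, 1, 2, 1], [0, 0, 0, 1, 0, 3, 2, 1], [3, 0, 1, 2, 1], [1, 0, 3, 0, 0, 3], [3, 2, 1, 2, 3, 2], [3, 2, 2, 1, 0], [1, 0, 3, 2, 1, 2], [1, 2, 3, 2], [0, 0, 1, 2, 1], [0, 3, 0, 0, 0, 3, 0, 1, 0], [0, 1, 2, 1, 0], [3, 2, 3, 0, 1, 2, 1], [1, 2, 3, 0, 1, 2], [0, 3, 0, 1, 2, 2], [1, 0, 3, 2, 3, 0, 1], [0, 3, 0, 3, 0, 0, 3], [1, 2, 2, 3, 0, 1, 0], [2, 3, 0, 3, 0], [2, 1, 0], [0, 0, 1, 0, 0, 0, 1], [2, 3, 0, 0], [2, 1, 0, 3, 0], [1, 0, 0, 0, 3], [0, 3, 0, 0, 0], [1, 2, 1, 0, 0, 1], [3,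 2, 1, 0, 3, 2, 1], [0, 3, 2], [0, 1, 0, 0, 1, 0], [3, 0, 0, 3, 0, 0], [3, 0, 1, 0], [3, 0, 1, 0, 0], [1, 2, 1, 2, 2, 1], [3, 0, 1, 2, 3, 0, 1], [2, 2, 1, 2, 2], [3, 2, 1, 2], [0, 3], [3, 2, 2, 3, 0, 3], [0, 3, 0, 0, 0, 3, 0, 1], [3, 2, 1, 0, 3, 0, 1], [3, 2, 1, 0, 1, 2], [3, 0, 0, 0, 3, 2, 1], [2, 3, 2], [0, 1, 2, 1, 0, 1], [2, 2, 3, 2, 2, 3, 2, 2], [0, 3, 2, 1, 2], [0, 1, 2, 2], [0, 0, 0, 3, 0, 1, 0], [2, 3, 2, 1, 2, 2, 3], [2, 3, 0], [3, 0, 1, 0, 0, 0], [3, 0, 0, 1, 0, 3, 0], [3, 0, 3, 0, 3, 0], [3, 0, 0, 0], [2, 3, 2, 1, 0], [2, 3, 0, 0, 3, 0, 0, 1, 0], [1, 0, 0, 1, 0, 3, 2, 1], [1, 2, 2], [3, 0, 3, 2, 3, 0, 1, 0], [3, 2], [0, 0, 1, 2, 2], [2, 3, 0, 1, 0],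 [1, 2, 2], [3, 2, 1, 2, 2, 3], [2, 2, 3, 0, 1, 0], [3, 2, 1, 0, 0, 3], [3, 2, 1, 0, 0], [1, 0, 1, 2, 2, 1], [3, 0, 3, 2, 2, 3, 2], [0, 0, 3, 2], [3, 2, 2, 3, 2, 2], [1, 0, 0, 0, 1, 0, 3, 0], [3, 0, 0, 0, 3, 0, 1], [2, 3, 2], [1, 2, 1, 0, 3, 0], [1, 0, 0, 0, 3, 0, 0], [3, 0, 1], [0, 3, 0, 3, 0, 1], [2, 1, 0, 0, 3, 0, 1], [0, 1, 2, 3, 0, 3], [0, 3, 0, 1, 2], [2, 2, 1, 0, 0, 1, 0], [0, 3, 0, 0, 3, 2, 1, 0, 1], [1, 2, 3, 0, 1, 2, 1], [0, 0, 1, 2, 2, 1, 2], [0, 0, 3, 2, 3, 0, 1], [2, 1, 0, 3, 2, 1, 0, 1], [1, 0, 0, 0], [3, 2, 3, 0, 1, 2, 2], [0, 1], [0, 0, 3, 0, 0, 0, 1, 0], [1, 0, 3, 0, 3], [2, 1, 2, 2, 1, 0], [3, 0, 0, 3, 2, 1, 2, 1], [0, 3, 0, 0, 3], [0, 0, 0,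 1, 2, 3, 0, 0], [3, 0, 0, 0, 1, 0], [0, 0, 0, 1], [0, 3, 2, 2, 3], [1, 0], [3, 2, 3, 0, 3, 2], [0, 0, 1, 2, 3], [3, 2, 2, 1, 0, 0, 0, 1], [1, 2, 3, 0, 3], [1, 2, 2, 3, 0, 0, 0, 1], [3, 0, 0, 3, 2, 1, 0, 1], [0, 3, 2, 3, 0, 1], [0, 1, 0, 1, 2, 3, 2], [3, 0, 1, 2], [0, 0, 1, 0, 0, 0, 3], [0, 0, 1, 0, 3], [3, 2, 2, 1, 2, 3, 2], [1], [2, 2, 3, 2, 2, 3], [2, 2, 1], [2, 2, 3, 0, 0, 3], [0, 3, 0, 0, 0, 1, 0], [3, 0, 0, 3], [3, 2, 1, 2, 3, 0, 3, 2], [1, 2, 2, 1, 0], [1, 2, 3, 0, 0], [0, 0, 3, 0, 0, 3], [1], [1, 0, 0, 0, 1, 0, 3, 2], [1, 0, 0, 1, 0, 1, 2], [3, 2, 2, 3], [1, 0, 0], [2, 1, 0, 1, 2, 3, 2], [3, 0, 1, 0, 0, 3], [0, 3, 0, 0, 0], [0, 3, 2, 1, 0, 0, 3], [1,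 0, 3, 0, 0], [3, 0, 0, 3, 0, 0, 1, 0], [3, 2, 1, 0], [1, 0, 0], [1, 2, 1, 2, 3, 0, 1, 0], [3, 0, 3, 0, 0, 1], [1, 2, 3, 0, 3, 2, 3], [0, 1, 2, 3, 0, 0], [3, 0, 3, 2, 2, 1], [2, 2, 1, 2, 3, 0, 0], [1, 2], [3, 0, 0, 3, 2, 3], [1, 0, 3, 2, 1, 0, 1], [0, 0, 3, 0, 1, 2], [2, 1, 2, 1, 2, 1], [0, 1, 0, 3, 0, 0, 3, 0, 1], [3, 2, 3, 0, 0, 1, 0, 3], [2, 1, 0, 0, 1, 0], [2, 2, 3, 2, 1, 0, 0, 0], [3, 0, 0, 1, 0, 3, 2], [2, 2, 1, 2, 3], [0, 0, 0, 1, 0, 3], [2, 1, 2, 2, 1, 2, 1, 0], [3, 0, 3, 0, 0, 0, 3, 2], [0, 0, 3, 2, 2, 3], [1, 2, 2, 1, 0, 1, 2], [2, 1, 0, 3], [2, 1, 0, 3], [2, 1, 2, 3], [1, 2, 1, 2, 1], [2, 1, 2, 1, 0, 0, 1], [1, 2, 1, 0, 1], [2, 3, 2, 2, 3, 0, 3], [1,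 2, 1, 0, 3, 0, 0, 3], [2, 2, 1, 0, 1, 2, 3, 2], [1, 0, 0, 1, 0], [3, 0, 3, 2, 1], [2, 3, 0, 0, 3, 2, 3], [0, 0, 0, 3, 2, 2, 3], [3, 0, 3, 0, 1], [1, 2, 2, 1, 2, 1, 0], [2, 3, 2, 1, 0, 0, 0], [2, 2, 1, 0, 3], [0, 1, 2, 3, 0], [1, 2, 3], [3, 0, 3, 2, 2, 1, 2, 2], [0, 3, 0, 0, 3, 0, 0], [0, 3, 2], [2, 2, 3, 2], [2, 3, 0, 0, 0, 3, 0, 1], [1, 2, 1, 2, 3, 2], [2, 3, 0, 3, 0, 0, 1], [2, 3, 2, 2, 3, 2, 2], [1, 0, 3, 2, 2, 3, 2, 1], [0, 0, 0, 1, 2, 3], [2, 1], [1, 2, 1, 0, 1, 2, 3], [0, 0, 1], [1, 0, 0, 3, 2, 2, 1], [1, 0, 0, 3, 0, 1], [1, 2, 1, 0, 0, 0, 1], [0, 1, 0, 3], [1, 0, 3], [3, 2, 3, 0, 0, 0, 1], [0, 0, 1, 0, 0, 1, 0], [1, 0, 0, 3, 0, 3, 2], [3, 2, 3, 0, 1],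 [0, 3, 2, 2, 3, 0, 3], [2, 3, 0, 1, 2], [0, 3, 2, 1, 0, 0, 0], [1, 2, 3, 2, 2], [0, 1, 2, 3], [0, 3, 2, 3, 0, 3, 2], [2, 3, 2, 2, 3], [0, 1, 0, 3], [1, 2, 3, 0, 3, 0, 0], [1, 2, 2, 1, 2], [2, 3, 0, 3, 0, 1], [1, 0, 1, 0, 0, 3, 2], [0, 1, 0, 0, 0, 3], [0, 3, 0], [3, 2, 1, 0, 0, 0], [3, 2, 2, 1, 0, 3, 0], [2, 2, 1, 0, 3, 0, 0], [2, 3, 0, 3, 0, 3, 0], [3, 0, 3, 0, 1, 2, 3], [3, 0, 0, 1, 2, 1, 2, 3], [0, 1, 0, 3, 0, 0], [0, 3, 0], [2, 3, 0, 0, 0], [2, 3, 0, 0, 1, 0, 3, 0], [1, 0, 0, 0, 1, 2, 1], [2, 1, 2, 3, 0, 0], [0, 1, 2, 2, 1, 2], [0, 0, 1, 2, 3, 0, 0], [3, 0], [1, 2, 2, 1, 0, 3, 0, 1], [2, 3, 0, 1, 0, 0, 0], [2, 1, 2, 1, 0, 3, 0], [1, 0, 1, 2, 3, 2], [0, 0,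 0, 3, 2], [3, 2, 1, 0, 1, 0], [0, 0, 0, 3, 2], [0, 3, 0, 1, 0], [1, 0, 3, 2, 3], [0, 0, 3, 0, 1, 0], [0, 3, 2, 1, 0, 3, 0, 1], [2, 1, 2, 2], [2, 1, 0, 3, 0, 0], [2, 3, 2, 1, 2], [0, 0, 3, 0, 0, 3, 0, 0], [1, 0, 3, 0, 0, 3, 0, 1], [2, 3, 0, 0, 3], [0, 0, 0, 1, 0, 0, 1, 0], [2, 2, 1, 2, 2, 1, 0], [0, 3, 0, 3, 0, 3, 0], [2, 1, 2, 1, 0, 1], [2, 1, 2, 1, 2, 2, 1], [3, 2, 3, 0, 3, 0, 1, 0], [0, 1, 2, 1, 0, 0, 1], [0, 0, 3, 0, 0, 0], [], [1, 0, 3], [1, 2, 3, 0], [0, 0, 3, 2], [3, 0, 0, 0], [2, 2, 3, 2], [3], [2, 1, 2, 2], [2, 1, 0, 0], [3, 2], [1, 2, 1, 0, 3, 0], [0, 1, 0], [0, 1], [2, 3, 0, 1], [0, 1, 0, 0, 0], [3, 0], [0, 3, 0, 1], [0, 1, 2], [1, 0, 3, 0], [3, 0,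 0], [0, 1, 0, 0], [1, 2, 3, 2]]

end Cfsg.Agent.Lib.Helper26
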