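import Cfsg.Agent.Lib.Helper93.Fams

set_option autoImplicit false

namespace Cfsg.Agent.Lib.Helper26

open Cfsg

/-- the seven sextets refining the standard trio; the sextet at position `i` has the label `i + 1`, and three of them are collinear exactly when their labels xor to zero. -/
def trioX0 : List (List ℕ) := [[1031, 4248, 458816, 550912, 6291744, 9470464], [1172, 4107, 206848, 802880, 1049376, 14712832], [147, 5132, 272448, 737280, 7340544, 8421664], [29, 5250, 346112, 663616, 5275680, 10486528], [1050, 4229, 149568, 860160, 3178752, 12583456], [1161, 4118, 417792, 591936, 4227840, 11534368], [142, 5137, 90176, 919552, 2130464, 13631744]]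

/-- for each generator of the trio stabiliser (in the order of `chainGens trioStabLevels`), its permutation of the seven sextets. -/
def trioSig : List (List ℕ) := [[5, 3, 1, 6, 0, 2, 4], [6, 2, 3, 1, 4, 0, 5], [4, 0, 3, 5, 2, 6, 1], [0, 2, 1, 5, 6, 4, 3], [2, 0, 1, 4, 5, 3, 6], [0, 1, 2, 4, 3, 6, 5], [0, 2, 1, 3, 4, 6, 5], [0, 1, 2, 3, 4, 5, 6], [0, 1, 2, 3, 4, 5, 6], [0, 1, 2, 3, 4, 5, 6], [0, 1, 2, 3, 4, 5, 6]]

/-- for each generator of the trio stabiliser, its permutation of the three octads. -/
def trioTau : List (List ℕ) := [[2, 1, 0], [2, 0, 1], [0, 1, 2], [0, 2, 1], [0, 1, 2], [0, 2, 1], [0, 2, 1], [0, 2, 1], [0, 1, 2], [0, 1, 2], [0, 1, 2]]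

end Cfsg.Agent.Lib.Helper26
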