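import Cfsg.Agent.Lib.Helper26.Fano
import Cfsg.Agent.Lib.Helper26.FamAction
import Cfsg.Agent.Lib.Helper26.TrioData
import Cfsg.Agent.Lib.Helper26.OctadAlt

set_option autoImplicit false

namespace Cfsg.Agent.Lib.Helper26.Trio

open Cfsg
open scoped Pointwise
open Cfsg.Agent.Lib.Helper93.Golay
open Cfsg.Agent.Lib.Helper26.Fano

/-- the standard trio. -/
abbrev T0 : Finset (Finset GolayPt) := decFF T0code

/-- the seven sextets refining the standard trio. -/
def DD (i : Fin 7) : Finset (Finset GolayPt) := decFF (trioX0.getD i.val [])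

/-- the three octads of the standard trio. -/
def OO (j : Fin 3) : Finset GolayPt := fset (T0code.getD j.val 0)

theorem trioX0_ok : trioX0.all sextetOK = true := by decide +kernel

theorem trioX0_inj : ∀ i j : Fin 7, trioX0.getD i.val [] = trioX0.getD j.val [] → i = j := by
  decide +kernel

theorem trioX0_mem (i : Fin 7) : trioX0.getD i.val [] ∈ trioX0 := by
  have hi : i.val < trioX0.length := i.2
  rw [List.getD_eq_getElem _ _ hi]
  exact List.getElem_mem hi

theorem X0_ok (i : Fin 7) : sextetOK (trioX0.getD i.val []) = true :=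
  List.all_eq_true.mp trioX0_ok _ (trioX0_mem i)

theorem DD_mem (i : Fin 7) : DD i ∈ sextets := decFF_mem_sextets (X0_ok i)

theorem DD_injective : Function.Injective DD := by
  intro i j h
  exact trioX0_inj i j (decFF_inj (canonL_of_sextetOK (X0_ok i)) (canonL_of_sextetOK (X0_ok j)) h)

theorem T0code_lt : ∀ j : Fin 3, T0code.getD j.val 0 < 16777216 := by decide +kernel

theorem T0code_inj : ∀ i j : Fin 3, T0code.getD i.val 0 = T0code.getD j.val 0 → i = j := by
  decide +kernel

theorem OO_injective : Function.Injective OO := by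
  intro i j h
  exact T0code_inj i j (fset_injOn (T0code_lt i) (T0code_lt j) h)

theorem T0code_oct : ∀ j : Fin 3, isCodeF (T0code.getD j.val 0) = true ∧
    popcF (T0code.getD j.val 0) = 8 := by decide +kernel

theorem OO_mem (j : Fin 3) : OO j ∈ octads :=
  fset_mem_octads (T0code_lt j) (T0code_oct j).1 (T0code_oct j).2

theorem mem_T0_iff (o : Finset GolayPt) : o ∈ T0 ↔ ∃ j : Fin 3, o = OO j := by
  rw [mem_decFF]
  constructor
  · rintro ⟨m, hm, rfl⟩
    obtain ⟨j, hj, rfl⟩ := List.mem_iff_getElem.mp hm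
    refine ⟨⟨j, hj⟩, ?_⟩
    unfold OO
    rw [List.getD_eq_getElem _ _ hj]
  · rintro ⟨j, rfl⟩
    have hj : j.val < T0code.length := j.2
    refine ⟨T0code.getD j.val 0, ?_, rfl⟩
    rw [List.getD_eq_getElem _ _ hj]
    exact List.getElem_mem hj

/-! ### the property of the generators -/

/-- collinearity of labels. -/
def colN (a b c : ℕ) : Bool := (a + 1) ^^^ (b + 1) ^^^ (c + 1) == 0

theorem col_iff : ∀ i j k : Fin 7, ι i + ι j + ι k = 0 ↔ colN i.val j.val k.val = true := by
  decide +kernel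

/-- the elements permuting the seven sextets as a collineation and permuting the three octads. -/
def Q (g : Equiv.Perm GolayPt) : Prop :=
  (∀ i : Fin 7, ∃ i', g • DD i = DD i') ∧ (∀ j : Fin 3, ∃ j', g • OO j = OO j') ∧
  ∀ i j k i' j' k' : Fin 7, g • DD i = DD i' → g • DD j = DD j' → g • DD k = DD k' →
    (ι i + ι j + ι k = 0 ↔ ι i' + ι j' + ι k' = 0)

theorem Q_one : Q 1 := by
  refine ⟨fun i => ⟨i, one_smul _ _⟩, fun j => ⟨j, one_smul _ _⟩, ?_⟩
  intro i j k i' j' k' hi hj hk
  rw [one_smul] at hi hj hk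
  rw [DD_injective hi, DD_injective hj, DD_injective hk]

theorem Q_mul {a b : Equiv.Perm GolayPt} (ha : Q a) (hb : Q b) : Q (a * b) := by
  refine ⟨fun i => ?_, fun j => ?_, ?_⟩
  · obtain ⟨i1, h1⟩ := hb.1 i
    obtain ⟨i2, h2⟩ := ha.1 i1
    exact ⟨i2, by rw [mul_smul, h1, h2]⟩
  · obtain ⟨i1, h1⟩ := hb.2.1 j
    obtain ⟨i2, h2⟩ := ha.2.1 i1
    exact ⟨i2, by rw [mul_smul, h1, h2]⟩
  · intro i j k i' j' k' hi hj hk
    obtain ⟨i1, hi1⟩ := hb.1 i
    obtain ⟨j1, hj1⟩ := hb.1 j
    obtain ⟨k1, hk1⟩ := hb.1 k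
    rw [mul_smul, hi1] at hi
    rw [mul_smul, hj1] at hj
    rw [mul_smul, hk1] at hk
    rw [hb.2.2 i j k i1 j1 k1 hi1 hj1 hk1, ha.2.2 i1 j1 k1 i' j' k' hi hj hk]

theorem Q_surj {a : Equiv.Perm GolayPt} (ha : Q a) (i : Fin 7) : ∃ i', a • DD i' = DD i := by
  classical
  let f : Fin 7 → Fin 7 := fun i => Classical.choose (ha.1 i)
  have hf : ∀ i, a • DD i = DD (f i) := fun i => Classical.choose_spec (ha.1 i)
  have hinj : Function.Injective f := by
    intro x y hxy
    apply DD_injective
    apply smul_left_cancel a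
    rw [hf x, hf y, hxy]
  obtain ⟨i', hi'⟩ := (Finite.injective_iff_surjective.mp hinj) i
  exact ⟨i', by rw [hf i', hi']⟩

theorem Q_surj' {a : Equiv.Perm GolayPt} (ha : Q a) (i : Fin 3) : ∃ i', a • OO i' = OO i := by
  classical
  let f : Fin 3 → Fin 3 := fun i => Classical.choose (ha.2.1 i)
  have hf : ∀ i, a • OO i = OO (f i) := fun i => Classical.choose_spec (ha.2.1 i)
  have hinj : Function.Injective f := by
    intro x y hxy
    apply OO_injective
    apply smul_left_cancel a
    rw [hf x, hf y, hxy]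
  obtain ⟨i', hi'⟩ := (Finite.injective_iff_surjective.mp hinj) i
  exact ⟨i', by rw [hf i', hi']⟩

theorem Q_inv {a : Equiv.Perm GolayPt} (ha : Q a) : Q a⁻¹ := by
  refine ⟨fun i => ?_, fun j => ?_, ?_⟩
  · obtain ⟨i', hi'⟩ := Q_surj ha i
    exact ⟨i', by rw [inv_smul_eq_iff, hi']⟩
  · obtain ⟨i', hi'⟩ := Q_surj' ha j
    exact ⟨i', by rw [inv_smul_eq_iff, hi']⟩
  · intro i j k i' j' k' hi hj hk
    rw [inv_smul_eq_iff] at hi hj hk
    exact (ha.2.2 i' j' k' i j k hi.symm hj.symm hk.symm).symm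

/-- the check for a generator. -/
def genOK (S : ℕ) (sl tl : List ℕ) : Bool :=
  (List.range 7).all (fun i => decide (sl.getD i 0 < 7) &&
    beqL (actL S (trioX0.getD i [])) (trioX0.getD (sl.getD i 0) [])) &&
  (List.range 3).all (fun j => decide (tl.getD j 0 < 3) &&
    (pmask S (T0code.getD j 0) == T0code.getD (tl.getD j 0) 0)) &&
  (List.range 7).all (fun i => (List.range 7).all (fun j => (List.range 7).all (fun k =>
    colN i j k == colN (sl.getD i 0) (sl.getD j 0) (sl.getD k 0))))

/-- the generators of the stabiliser. -/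
abbrev gens : List ℕ := chainGens trioStabLevels

theorem gens_check : (List.range 11).all (fun n =>
    genOK (gens.getD n 0) (trioSig.getD n []) (trioTau.getD n [])) = true ∧ gens.length = 11 := by
  decide +kernel

theorem gens_aut : ∀ S ∈ gens, isAutC S = true := trioStab_gens_aut

theorem Q_of_genOK {S : ℕ} {sl tl : List ℕ} (hS : isAutC S = true) (h : genOK S sl tl = true) :
    Q (permC S) := by
  have hP := isPerm_of_isAutC hS
  simp only [genOK, Bool.and_eq_true, List.all_eq_true, List.mem_range, beq_iff_eq,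
    decide_eq_true_eq] at h
  obtain ⟨⟨h1, h2⟩, h3⟩ := h
  have hlt : ∀ i : Fin 7, sl.getD i.val 0 < 7 := fun i => (h1 i.val i.2).1
  have hlt' : ∀ j : Fin 3, tl.getD j.val 0 < 3 := fun j => (h2 j.val j.2).1
  have hD : ∀ i : Fin 7, permC S • DD i = DD ⟨sl.getD i.val 0, hlt i⟩ := by
    intro i
    have e := beqL_eq _ _ (h1 i.val i.2).2
    show permC S • decFF (trioX0.getD i.val []) = decFF (trioX0.getD (sl.getD i.val 0) [])
    rw [permC_smul_decFF hP (fun m hm => canonL_lt (canonL_of_sextetOK (X0_ok i)) hm), e]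
  have hO : ∀ j : Fin 3, permC S • OO j = OO ⟨tl.getD j.val 0, hlt' j⟩ := by
    intro j
    have e := (h2 j.val j.2).2
    show permC S • fset (T0code.getD j.val 0) = fset (T0code.getD (tl.getD j.val 0) 0)
    rw [permC_smul_fset hP (T0code_lt j), e]
  refine ⟨fun i => ⟨_, hD i⟩, fun j => ⟨_, hO j⟩, ?_⟩
  intro i j k i' j' k' hi hj hk
  rw [hD i] at hi
  rw [hD j] at hj
  rw [hD k] at hk
  rw [← DD_injective hi, ← DD_injective hj, ← DD_injective hk, col_iff, col_iff,
    h3 i.val i.2 j.val j.2 k.val k.2]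

theorem Q_gens : ∀ S ∈ gens, Q (permC S) := by
  intro S hS
  obtain ⟨n, hn, rfl⟩ := List.mem_iff_getElem.mp hS
  have hn' : n < 11 := by rw [← gens_check.2]; exact hn
  have := List.all_eq_true.mp gens_check.1 n (List.mem_range.mpr hn')
  rw [List.getD_eq_getElem _ _ hn] at this
  exact Q_of_genOK (gens_aut _ (List.getElem_mem hn)) this

/-- the stabiliser of the standard trio. -/
abbrev H0 : Subgroup (Equiv.Perm GolayPt) := stabM T0

theorem H0_eq : H0 = genSubgroup gens := stab_T0_facts.1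

theorem card_H0 : Nat.card H0 = 64512 := by
  have h1 := stab_T0_facts.2.1
  have h2 := trioStab_prod
  rw [trioList_length] at h2
  have : chainProd 0 trioStabLevels = 64512 := by omega
  rw [← this]
  exact h1

theorem Q_of_mem {g : Equiv.Perm GolayPt} (hg : g ∈ H0) : Q g := by
  rw [H0_eq] at hg
  unfold genSubgroup at hg
  induction hg using Subgroup.closure_induction with
  | mem x hx =>
    obtain ⟨S, hS, rfl⟩ := hx
    exact Q_gens S hS
  | one => exact Q_one
  | mul x y _ _ hx hy => exact Q_mul hx hy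
  | inv x _ hx => exact Q_inv hx

end Cfsg.Agent.Lib.Helper26.Trio
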