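import Cfsg.Agent.Lib.Helper26.TrioStab

set_option autoImplicit false

namespace Cfsg.Agent.Lib.Helper26.Trio

open Cfsg
open scoped Pointwise
open Cfsg.Agent.Lib.Helper93.Golay
open Cfsg.Agent.Lib.Helper26.Fano

/-! ### the representation of the stabiliser of the standard trio -/

/-- the action on the seven sextets. -/
noncomputable def ρ7 : H0 →* Equiv.Perm (Fin 7) :=
  famHom DD DD_injective H0 (fun _ hg i => (Q_of_mem hg).1 i)

/-- the action on the three octads. -/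
noncomputable def ρ3 : H0 →* Equiv.Perm (Fin 3) :=
  famHom OO OO_injective H0 (fun _ hg j => (Q_of_mem hg).2.1 j)

theorem ρ7_spec (g : H0) (i : Fin 7) : g.1 • DD i = DD (ρ7 g i) := famHom_spec _ _ _ _ g i

theorem ρ3_spec (g : H0) (j : Fin 3) : g.1 • OO j = OO (ρ3 g j) := famHom_spec _ _ _ _ g j

theorem ρ7_col (g : H0) : ρ7 g ∈ colGroup := fun i j k =>
  (Q_of_mem g.2).2.2 i j k _ _ _ (ρ7_spec g i) (ρ7_spec g j) (ρ7_spec g k)

/-- the action on the seven sextets, as collineations. -/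
noncomputable def ρF : H0 →* colGroup := ρ7.codRestrict colGroup ρ7_col

/-- the representation. -/
noncomputable def Φ : H0 →* GL (Fin 3) (ZMod 2) × Equiv.Perm (Fin 3) := (glHom.comp ρF).prod ρ3

/-- membership in the kernel. -/
structure InK (g : Equiv.Perm GolayPt) : Prop where
  hD : ∀ i, g • DD i = DD i
  hO : ∀ j, g • OO j = OO j

theorem mem_ker_Φ (g : H0) : g ∈ Φ.ker ↔ InK g.1 := by
  rw [MonoidHom.mem_ker]
  have h1 : Φ g = 1 ↔ ρ7 g = 1 ∧ ρ3 g = 1 := by
    rw [Φ, MonoidHom.prod_apply, Prod.mk_eq_one]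
    constructor
    · rintro ⟨ha, hb⟩
      refine ⟨?_, hb⟩
      have h2 : ρF g = 1 := glHom_injective (by rw [map_one]; exact ha)
      exact congrArg Subtype.val h2
    · rintro ⟨ha, hb⟩
      refine ⟨?_, hb⟩
      have h2 : ρF g = 1 := Subtype.ext ha
      rw [MonoidHom.comp_apply, h2, map_one]
  rw [h1, ρ7, ρ3, famHom_eq_one_iff DD DD_injective, famHom_eq_one_iff OO OO_injective]
  exact ⟨fun h => ⟨h.1, h.2⟩, fun h => ⟨h.hD, h.hO⟩⟩

/-! ### the planes -/

theorem planes_check : (List.range 3).all (fun j => (List.range 24).all (fun a =>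
    (List.range 24).all (fun b => (List.range 24).all (fun c =>
      !(T0code.getD j 0).testBit a || !(T0code.getD j 0).testBit b || !(T0code.getD j 0).testBit c ||
      a == b || c == a || c == b ||
      trioX0.any (fun S => S.any (fun t => t.testBit a && t.testBit b && !t.testBit c)))))) = true := by
  decide +kernel

theorem ptIdx_injective : Function.Injective ptIdx := by
  intro p q h
  rw [← ptOf_ptIdx p, ← ptOf_ptIdx q, h]

theorem planes (j : Fin 3) (p q r : GolayPt) (hp : p ∈ OO j) (hq : q ∈ OO j) (hr : r ∈ OO j)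
    (hpq : p ≠ q) (hrp : r ≠ p) (hrq : r ≠ q) :
    ∃ i : Fin 7, ∃ t ∈ DD i, p ∈ t ∧ q ∈ t ∧ r ∉ t := by
  have h := planes_check
  simp only [List.all_eq_true, List.mem_range, Bool.or_eq_true, Bool.not_eq_eq_eq_not, Bool.not_true,
    beq_iff_eq, List.any_eq_true, Bool.and_eq_true] at h
  unfold OO at hp hq hr
  rw [mem_fset] at hp hq hr
  have hab : (ptIdx p : ℕ) ≠ ptIdx q := fun e => hpq (ptIdx_injective (Fin.ext e))
  have hca : (ptIdx r : ℕ) ≠ ptIdx p := fun e => hrp (ptIdx_injective (Fin.ext e))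
  have hcb : (ptIdx r : ℕ) ≠ ptIdx q := fun e => hrq (ptIdx_injective (Fin.ext e))
  rcases h j.val j.2 (ptIdx p) (ptIdx p).2 (ptIdx q) (ptIdx q).2 (ptIdx r) (ptIdx r).2 with
    (((((h | h) | h) | h) | h) | h) | h
  · rw [hp] at h; exact absurd h (by decide)
  · rw [hq] at h; exact absurd h (by decide)
  · rw [hr] at h; exact absurd h (by decide)
  · exact absurd h hab
  · exact absurd h hca
  · exact absurd h hcb
  · obtain ⟨S, hS, t, ht, ⟨hta, htb⟩, htc⟩ := h
    obtain ⟨i, hi, rfl⟩ := List.mem_iff_getElem.mp hS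
    refine ⟨⟨i, hi⟩, fset t, ?_, ?_, ?_, ?_⟩
    · unfold DD
      rw [mem_decFF]
      refine ⟨t, ?_, rfl⟩
      rw [List.getD_eq_getElem _ _ hi]
      exact ht
    · rw [mem_fset]; exact hta
    · rw [mem_fset]; exact htb
    · rw [mem_fset, htc]
      decide

theorem cover_check : ∀ a < 24, ∃ j : Fin 3, (T0code.getD j.val 0).testBit a = true := by
  decide +kernel

theorem cover (p : GolayPt) : ∃ j : Fin 3, p ∈ OO j := by
  obtain ⟨j, hj⟩ := cover_check (ptIdx p) (ptIdx p).2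
  exact ⟨j, by unfold OO; rw [mem_fset]; exact hj⟩

theorem InK.apply_mem {g : Equiv.Perm GolayPt} (hg : InK g) {j : Fin 3} {p : GolayPt}
    (hp : p ∈ OO j) : g p ∈ OO j := by
  have := Finset.smul_mem_smul_finset (a := g) hp
  rwa [hg.hO j] at this

theorem InK.tetrad_fixed {g : Equiv.Perm GolayPt} (hg : InK g) {i : Fin 7} {t : Finset GolayPt}
    (ht : t ∈ DD i) {x : GolayPt} (hx : x ∈ t) (hgx : g x ∈ t) : g • t = t := by
  have h1 : g • t ∈ DD i := by
    have := Finset.smul_mem_smul_finset (a := g) ht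
    rwa [hg.hD i] at this
  by_contra hne
  have hdis := tetrads_disjoint (DD_mem i) h1 ht hne
  exact Finset.disjoint_left.mp hdis (Finset.smul_mem_smul_finset (a := g) hx) hgx

theorem InK.sq {g : Equiv.Perm GolayPt} (hg : InK g) (p : GolayPt) : g (g p) = p := by
  obtain ⟨j, hp⟩ := cover p
  have hq := hg.apply_mem hp
  have hr := hg.apply_mem hq
  by_cases hqp : g p = p
  · rw [hqp, hqp]
  by_contra hrp
  have hrq : g (g p) ≠ g p := fun h => hqp (g.injective h)
  obtain ⟨i, t, ht, hpt, hqt, hrt⟩ := planes j p (g p) (g (g p)) hp hq hr (fun h => hqp h.symm) hrp hrq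
  have hfix := hg.tetrad_fixed ht hpt hqt
  apply hrt
  have := Finset.smul_mem_smul_finset (a := g) hqt
  rwa [hfix] at this

theorem InK.fix {g : Equiv.Perm GolayPt} (hg : InK g) {j : Fin 3} {p0 : GolayPt} (hp0 : p0 ∈ OO j)
    (hfix : g p0 = p0) : ∀ q ∈ OO j, g q = q := by
  intro q hq
  by_contra hne
  by_cases hq0 : q = p0
  · rw [hq0] at hne; exact hne hfix
  have hr := hg.apply_mem hq
  have hrp : g q ≠ p0 := by
    intro h
    rw [← hfix] at h
    exact hq0 (g.injective h)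
  obtain ⟨i, t, ht, hpt, hqt, hrt⟩ := planes j p0 q (g q) hp0 hq hr (fun h => hq0 h.symm) hrp hne
  have hfx := hg.tetrad_fixed ht hpt (by rw [hfix]; exact hpt)
  apply hrt
  have := Finset.smul_mem_smul_finset (a := g) hqt
  rwa [hfx] at this

/-! ### the order of the kernel -/

/-- the kernel, as a subgroup of permutations. -/
def K0 : Subgroup (Equiv.Perm GolayPt) where
  carrier := {g | g ∈ M24 ∧ InK g}
  one_mem' := ⟨M24.one_mem, ⟨fun _ => one_smul _ _, fun _ => one_smul _ _⟩⟩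
  mul_mem' := by
    rintro a b ⟨ha, ha'⟩ ⟨hb, hb'⟩
    exact ⟨M24.mul_mem ha hb, ⟨fun i => by rw [mul_smul, hb'.hD, ha'.hD],
      fun j => by rw [mul_smul, hb'.hO, ha'.hO]⟩⟩
  inv_mem' := by
    rintro a ⟨ha, ha'⟩
    exact ⟨M24.inv_mem ha, ⟨fun i => by rw [inv_smul_eq_iff, ha'.hD],
      fun j => by rw [inv_smul_eq_iff, ha'.hO]⟩⟩

theorem p0_mem : P 0 ∈ OO 0 := by
  unfold OO
  rw [mem_fset_P]
  decide

theorem p1_mem : P 6 ∈ OO 1 := by
  unfold OO
  rw [mem_fset_P]
  decide +kernel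

theorem p1_not_mem : P 6 ∉ OO 0 := by
  unfold OO
  rw [mem_fset_P]
  decide +kernel

theorem card_OO (j : Fin 3) : (OO j).card = 8 := (OO_mem j).2

theorem K0_bot : K0 ⊓ MulAction.stabilizer (Equiv.Perm GolayPt) (P 0) ⊓
    MulAction.stabilizer (Equiv.Perm GolayPt) (P 6) = ⊥ := by
  rw [eq_bot_iff]
  intro g hg
  rw [Subgroup.mem_inf, Subgroup.mem_inf] at hg
  obtain ⟨⟨⟨hM, hK⟩, h0⟩, h1⟩ := hg
  rw [Subgroup.mem_bot]
  exact octad_rigid (OO 0) (OO_mem 0) (P 6) p1_not_mem g hM (hK.fix p0_mem h0) h1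

theorem card_K0_le : Nat.card K0 ≤ 64 := by
  have e1 := Cfsg.Agent.Lib.Helper93.card_eq_ncard_mul_card_inf_stabilizer K0 (P 0)
    {s | ∃ k ∈ K0, k • P 0 = s} (fun k hk => ⟨k, hk, rfl⟩) (fun s hs => hs)
  have e2 := Cfsg.Agent.Lib.Helper93.card_eq_ncard_mul_card_inf_stabilizer
    (K0 ⊓ MulAction.stabilizer (Equiv.Perm GolayPt) (P 0)) (P 6)
    {s | ∃ k ∈ K0 ⊓ MulAction.stabilizer (Equiv.Perm GolayPt) (P 0), k • P 6 = s}
    (fun k hk => ⟨k, hk, rfl⟩) (fun s hs => hs)
  rw [K0_bot, Subgroup.card_bot, mul_one] at e2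
  have b1 : {s | ∃ k ∈ K0, k • P 0 = s}.ncard ≤ 8 := by
    rw [← card_OO 0, ← Set.ncard_coe_finset]
    apply Set.ncard_le_ncard _ (Set.toFinite _)
    rintro s ⟨k, hk, rfl⟩
    exact hk.2.apply_mem p0_mem
  have b2 : {s | ∃ k ∈ K0 ⊓ MulAction.stabilizer (Equiv.Perm GolayPt) (P 0), k • P 6 = s}.ncard
      ≤ 8 := by
    rw [← card_OO 1, ← Set.ncard_coe_finset]
    apply Set.ncard_le_ncard _ (Set.toFinite _)
    rintro s ⟨k, hk, rfl⟩
    exact (Subgroup.mem_inf.mp hk).1.2.apply_mem p1_mem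
  rw [e1, e2]
  calc _ ≤ 8 * 8 := Nat.mul_le_mul b1 b2
    _ = 64 := by norm_num

theorem card_ker_le : Nat.card Φ.ker ≤ 64 := by
  refine le_trans ?_ card_K0_le
  apply Nat.card_le_card_of_injective
    (fun x : Φ.ker => (⟨x.1.1, ⟨((mem_stabM _ _).mp x.1.2).1, (mem_ker_Φ x.1).mp x.2⟩⟩ : K0))
  intro x y hxy
  have := congrArg Subtype.val hxy
  exact Subtype.ext (Subtype.ext this)

theorem card_target : Nat.card (GL (Fin 3) (ZMod 2) × Equiv.Perm (Fin 3)) = 1008 := by
  rw [Nat.card_prod, card_GL, Nat.card_perm, Nat.card_eq_fintype_card, Fintype.card_fin]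
  rfl

theorem card_ker_range : Nat.card Φ.ker = 64 ∧ Nat.card Φ.range = 1008 := by
  have h1 := Subgroup.card_mul_index Φ.ker
  rw [Subgroup.index_ker, card_H0] at h1
  have h2 : Nat.card Φ.range ≤ 1008 := by
    rw [← card_target]
    exact Subgroup.card_le_card_group _
  have h3 := card_ker_le
  constructor <;> nlinarith

theorem Φ_surjective : Function.Surjective Φ := by
  rw [← MonoidHom.range_eq_top, ← Subgroup.card_eq_iff_eq_top, card_ker_range.2, card_target]

theorem ker_sq (x : H0) (hx : x ∈ Φ.ker) : x * x = 1 := by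
  apply Subtype.ext
  apply Equiv.ext
  intro p
  exact ((mem_ker_Φ x).mp hx).sq p

/-- every permutation of the three octads is induced. -/
theorem exists_perm (τ : Equiv.Perm (Fin 3)) : ∃ g ∈ H0, ∀ j, g • OO j = OO (τ j) := by
  obtain ⟨g, hg⟩ := Φ_surjective (1, τ)
  refine ⟨g.1, g.2, fun j => ?_⟩
  have : ρ3 g = τ := congrArg Prod.snd hg
  rw [ρ3_spec, this]

end Cfsg.Agent.Lib.Helper26.Trio
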