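import Cfsg.Agent.Lib.Helper26.TrioStab2

set_option autoImplicit false

namespace Cfsg.Agent.Lib.Helper26.Trio

open Cfsg
open scoped Pointwise
open Cfsg.Agent.Lib.Helper93.Golay
open Cfsg.Agent.Lib.Helper26.Fano

/-- conjugation from the stabiliser of the standard trio to the stabiliser of any trio. -/
def conjEquiv (g : Equiv.Perm GolayPt) (hg : g ∈ M24) (T : Finset (Finset GolayPt))
    (hT : g • T0 = T) : H0 ≃* MulAction.stabilizer M24 T where
  toFun h := ⟨⟨g * h.1 * g⁻¹,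
      M24.mul_mem (M24.mul_mem hg ((mem_stabM _ _).1 h.2).1) (M24.inv_mem hg)⟩, by
    rw [MulAction.mem_stabilizer_iff]
    show (g * h.1 * g⁻¹) • T = T
    rw [← hT, mul_smul, mul_smul, inv_smul_smul, ((mem_stabM _ _).1 h.2).2]⟩
  invFun k := ⟨g⁻¹ * k.1.1 * g, (mem_stabM _ _).2
    ⟨M24.mul_mem (M24.mul_mem (M24.inv_mem hg) k.1.2) hg, by
      have hk : k.1.1 • T = T := MulAction.mem_stabilizer_iff.mp k.2
      rw [mul_smul, mul_smul, hT, hk, ← hT, inv_smul_smul]⟩⟩
  left_inv h := by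
    apply Subtype.ext
    simp [mul_assoc]
  right_inv k := by
    apply Subtype.ext
    apply Subtype.ext
    simp [mul_assoc]
  map_mul' a b := by
    apply Subtype.ext
    apply Subtype.ext
    simp [mul_assoc]

theorem conjEquiv_coe (g : Equiv.Perm GolayPt) (hg : g ∈ M24) (T : Finset (Finset GolayPt))
    (hT : g • T0 = T) (h : H0) :
    ((conjEquiv g hg T hT h : ↥M24) : Equiv.Perm GolayPt) = g * h.1 * g⁻¹ := rfl

/-- transport of an extension structure along an isomorphism. -/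
theorem transport_structure {A B X : Type*} [Group A] [Group B] [Group X] (ε : A ≃* B)
    (φ : A →* X) (hφ : Function.Surjective φ) (n : ℕ) (hn : Nat.card φ.ker = n)
    (hsq : ∀ x ∈ φ.ker, x * x = 1) :
    ∃ (N : Subgroup B) (_ : N.Normal), Nat.card N = n ∧ (∀ x ∈ N, x * x = 1) ∧
      Nonempty (B ⧸ N ≃* X) := by
  have hnorm : (φ.ker.map ε.toMonoidHom).Normal :=
    Subgroup.Normal.map (MonoidHom.normal_ker φ) _ ε.surjective
  refine ⟨φ.ker.map ε.toMonoidHom, hnorm, ?_, ?_, ?_⟩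
  · rw [Subgroup.card_map_of_injective ε.injective, hn]
  · rintro x ⟨y, hy, rfl⟩
    show ε y * ε y = 1
    rw [← map_mul, hsq y hy, map_one]
  · exact ⟨(QuotientGroup.congr φ.ker (φ.ker.map ε.toMonoidHom) ε rfl).symm.trans
      (QuotientGroup.quotientKerEquivOfSurjective φ hφ)⟩

/-- the three octads of a trio `g • T0`. -/
theorem mem_smul_T0_iff (g : Equiv.Perm GolayPt) (o : Finset GolayPt) :
    o ∈ g • T0 ↔ ∃ j : Fin 3, o = g • OO j := by
  rw [Finset.mem_smul_finset]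
  constructor
  · rintro ⟨o', ho', rfl⟩
    obtain ⟨j, rfl⟩ := (mem_T0_iff o').mp ho'
    exact ⟨j, rfl⟩
  · rintro ⟨j, rfl⟩
    exact ⟨OO j, (mem_T0_iff _).mpr ⟨j, rfl⟩, rfl⟩

/-- the structure of the stabiliser of any trio. -/
theorem trio_structure (T : Finset (Finset GolayPt)) (hT : T ∈ trios) :
    (∀ e : Equiv.Perm ↥T, ∃ g ∈ MulAction.stabilizer M24 T, ∀ o : ↥T,
      (g : Equiv.Perm GolayPt) • (o : Finset GolayPt) = ((e o : ↥T) : Finset GolayPt)) ∧
    ∃ (N : Subgroup ↥(MulAction.stabilizer M24 T)) (_ : N.Normal), Nat.card N = 64 ∧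
      (∀ x ∈ N, x * x = 1) ∧
      Nonempty (↥(MulAction.stabilizer M24 T) ⧸ N ≃* GL (Fin 3) (ZMod 2) × Equiv.Perm (Fin 3)) := by
  obtain ⟨g, hg, hgT⟩ := exists_smul_T0_eq hT
  refine ⟨fun e => ?_, transport_structure (conjEquiv g hg T hgT) Φ Φ_surjective 64
    card_ker_range.1 ker_sq⟩
  -- labelling of the octads of `T`
  have hmem : ∀ j : Fin 3, g • OO j ∈ T := fun j => by
    rw [← hgT]
    exact (mem_smul_T0_iff g _).mpr ⟨j, rfl⟩
  let f : Fin 3 → ↥T := fun j => ⟨g • OO j, hmem j⟩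
  have hf : Function.Bijective f := by
    constructor
    · intro i j hij
      have : g • OO i = g • OO j := congrArg Subtype.val hij
      exact OO_injective (smul_left_cancel g this)
    · intro o
      have ho : o.1 ∈ g • T0 := by rw [hgT]; exact o.2
      obtain ⟨j, hj⟩ := (mem_smul_T0_iff g _).mp ho
      exact ⟨j, Subtype.ext hj.symm⟩
  let F : Fin 3 ≃ ↥T := Equiv.ofBijective f hf
  let τ : Equiv.Perm (Fin 3) := (F.trans e).trans F.symm
  obtain ⟨h, hh, hτ⟩ := exists_perm τ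
  refine ⟨conjEquiv g hg T hgT ⟨h, hh⟩, (conjEquiv g hg T hgT ⟨h, hh⟩).2, fun o => ?_⟩
  obtain ⟨j, rfl⟩ := F.surjective o
  rw [conjEquiv_coe]
  show (g * h * g⁻¹) • (g • OO j) = ((e (F j) : ↥T) : Finset GolayPt)
  rw [mul_smul, mul_smul, inv_smul_smul, hτ j]
  have : F (τ j) = e (F j) := by
    show F (F.symm (e (F j))) = e (F j)
    rw [Equiv.apply_symm_apply]
  rw [← this]
  rfl

end Cfsg.Agent.Lib.Helper26.Trio
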