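import Cfsg.Agent.Lib.Helper26.U35Mat
import Cfsg.Agent.Lib.Helper5.SUCard

set_option autoImplicit false
set_option linter.unusedSectionVars false

/-!
Transport of the concrete vectors and matrices over the field with 25 elements to an arbitrary
field with 25 elements, and elements of `SU_3(5)` from concrete unitary matrices.
-/

namespace Cfsg.Agent.Lib.Helper26.U35

open Matrix Cfsg.Agent.Lib.Helper5

variable {F : Type*} [Field F] [Fintype F]

/-- the isomorphism from the concrete field -/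
noncomputable def phi (hF : Fintype.card F = 25) : F25c ≃+* F :=
  FiniteField.ringEquivOfCardEq (by rw [hF, F25c.card_eq])

omit [Field F] in
theorem card_sq (hF : Fintype.card F = 25) : Fintype.card F = 5 ^ 2 := by rw [hF]; rfl

/-- a concrete vector as a vector over `F` -/
noncomputable def vecF (hF : Fintype.card F = 25) (x : V3) : Fin 3 → F :=
  ![phi hF x.a, phi hF x.b, phi hF x.c]

/-- a concrete matrix as a matrix over `F` -/
noncomputable def matF (hF : Fintype.card F = 25) (x : M3) : Matrix (Fin 3) (Fin 3) F :=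
  !![phi hF x.r0.a, phi hF x.r0.b, phi hF x.r0.c;
     phi hF x.r1.a, phi hF x.r1.b, phi hF x.r1.c;
     phi hF x.r2.a, phi hF x.r2.b, phi hF x.r2.c]

theorem vecF_smul (hF : Fintype.card F = 25) (k : F25c) (x : V3) :
    vecF hF (V3.smul k x) = phi hF k • vecF hF x := by
  ext i
  fin_cases i <;> simp [vecF, V3.smul]

theorem vecF_zero (hF : Fintype.card F = 25) : vecF hF V3.zero = 0 := by
  ext i
  fin_cases i <;> simp [vecF, V3.zero]

theorem vecF_inj (hF : Fintype.card F = 25) {x y : V3} (h : vecF hF x = vecF hF y) : x = y := by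
  have e := fun i => congrFun h i
  have h0 := e 0
  have h1 := e 1
  have h2 := e 2
  simp [vecF] at h0 h1 h2
  cases x; cases y
  simp_all

theorem vecF_surj (hF : Fintype.card F = 25) (w : Fin 3 → F) : ∃ x : V3, vecF hF x = w := by
  refine ⟨⟨(phi hF).symm (w 0), (phi hF).symm (w 1), (phi hF).symm (w 2)⟩, ?_⟩
  ext i
  fin_cases i <;> simp [vecF]

theorem matF_mulVec (hF : Fintype.card F = 25) (M : M3) (x : V3) :
    matF hF M *ᵥ vecF hF x = vecF hF (M.mv x) := by
  ext i
  fin_cases i <;>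
    simp [matF, vecF, M3.mv, V3.dot, Matrix.mulVec, dotProduct, Fin.sum_univ_three]

theorem matF_mul (hF : Fintype.card F = 25) (x y : M3) :
    matF hF (x.mul y) = matF hF x * matF hF y := by
  ext a b
  fin_cases a <;> fin_cases b <;>
    simp [matF, M3.mul, M3.rowMul, M3.col0, M3.col1, M3.col2, V3.dot, Matrix.mul_apply,
      Fin.sum_univ_three]

theorem matF_one (hF : Fintype.card F = 25) : matF hF M3.one = 1 := by
  ext a b
  fin_cases a <;> fin_cases b <;> simp [matF, M3.one]

theorem matF_tr (hF : Fintype.card F = 25) (x : M3) : matF hF x.tr = (matF hF x)ᵀ := by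
  ext a b
  fin_cases a <;> fin_cases b <;>
    simp [matF, M3.tr, M3.col0, M3.col1, M3.col2]

theorem phi_cj (hF : Fintype.card F = 25) (x : F25c) : phi hF (F25c.cj x) = (phi hF x) ^ 5 := by
  rw [F25c.cj_eq_pow, map_pow]

theorem matF_cj (hF : Fintype.card F = 25) (x : M3) :
    matF hF x.cjm = (matF hF x).map (frobQ (card_sq hF)) := by
  ext a b
  fin_cases a <;> fin_cases b <;>
    simp [matF, M3.cjm, V3.cjv, frobQ_apply, phi_cj]

theorem det_matF (hF : Fintype.card F = 25) (x : M3) : (matF hF x).det = phi hF x.det := by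
  obtain ⟨⟨a, b, c⟩, ⟨d, e, f⟩, ⟨g, h, i⟩⟩ := x
  rw [Matrix.det_fin_three]
  simp [matF, M3.det]

theorem hermForm_eq_dot (hF : Fintype.card F = 25) (u v : Fin 3 → F) :
    Cfsg.hermForm 3 F 5 u v = u ⬝ᵥ (frobQ (card_sq hF) ∘ v) := rfl

theorem hermForm_vecF (hF : Fintype.card F = 25) (x y : V3) :
    Cfsg.hermForm 3 F 5 (vecF hF x) (vecF hF y) = phi hF (V3.herm x y) := by
  unfold Cfsg.hermForm
  simp [Fin.sum_univ_three, vecF, V3.herm, V3.dot, V3.cjv, phi_cj]

theorem isHermIso_of_transpose_mul_map (hF : Fintype.card F = 25) (A : Matrix (Fin 3) (Fin 3) F)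
    (h : Aᵀ * A.map (frobQ (card_sq hF)) = 1) : IsHermIso 3 F 5 A := by
  intro u v
  rw [hermForm_eq_dot hF, hermForm_eq_dot hF]
  have h1 : (frobQ (card_sq hF)) ∘ (A *ᵥ v) =
      A.map (frobQ (card_sq hF)) *ᵥ ((frobQ (card_sq hF)) ∘ v) :=
    funext (RingHom.map_mulVec (frobQ (card_sq hF)) A v)
  rw [h1, Matrix.dotProduct_mulVec, Matrix.vecMul_mulVec, h, Matrix.vecMul_one]

/-- the matrix of an element of `SU_3(5)` -/
def mat (g : Cfsg.SU 3 F 5) : Matrix (Fin 3) (Fin 3) F := g.1.1

theorem mat_mul (g h : Cfsg.SU 3 F 5) : mat (g * h) = mat g * mat h := rfl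

theorem mat_one : mat (1 : Cfsg.SU 3 F 5) = 1 := rfl

theorem mat_inj {g h : Cfsg.SU 3 F 5} (e : mat g = mat h) : g = h :=
  Subtype.ext (Subtype.ext e)

theorem mem_SU_iff (g : SpecialLinearGroup (Fin 3) F) :
    g ∈ Cfsg.SU 3 F 5 ↔ IsHermIso 3 F 5 g.1 := Iff.rfl

theorem isHermIso_mat (g : Cfsg.SU 3 F 5) : IsHermIso 3 F 5 (mat g) := (mem_SU_iff g.1).mp g.2

theorem det_mat (g : Cfsg.SU 3 F 5) : (mat g).det = 1 := g.1.2

/-- the element of `SU_3(5)` with a given concrete matrix -/
noncomputable def mkG (hF : Fintype.card F = 25) (x : M3) (hx : x.Good) : Cfsg.SU 3 F 5 :=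
  ⟨⟨matF hF x, by rw [det_matF, hx.1, map_one]⟩, by
    apply (mem_SU_iff _).mpr
    apply isHermIso_of_transpose_mul_map hF
    rw [← matF_tr, ← matF_cj, ← matF_mul, hx.2, matF_one]⟩

theorem mat_mkG (hF : Fintype.card F = 25) (x : M3) (hx : x.Good) :
    mat (mkG hF x hx) = matF hF x := rfl

end Cfsg.Agent.Lib.Helper26.U35
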