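import Cfsg.Agent.Lib.Helper26.HSRank3
import Cfsg.Agent.Lib.Helper26.U35Data
import Cfsg.Agent.S1640

set_option autoImplicit false

/-!
The Leech lattice side of the identification of the stabiliser `G0` of a vector of the 352-set in
the Higman-Sims group: the 252 vectors `Yv n`, the action of `k1`, `k2`, `kT` on them, and rigidity
(an element of `G0` fixing the 252 vectors is trivial).
-/

namespace Cfsg.Agent.Lib.Helper26.U35

open Cfsg Cfsg.Agent.Lib.Helper93.Leech Cfsg.Agent.Lib.Helper93.Golay
open Cfsg.Agent.Lib.Golay.LeechBasis Cfsg.Agent.Lib.Conway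
open Cfsg.Agent.Lib.Conway.HS (VH WH G2 mem_G2 facts)
open Cfsg.Agent.Lib.Helper26.CoTab
open Cfsg.Agent.Lib.Helper26.HSD (vhL whL VH_coe WH_coe vhL_length whL_length fix_of_applyC)

/-! ### the standard triple -/

theorem x0L_length : x0L.length = 24 := by decide

set_option maxRecDepth 100000 in
theorem x0L_cond : LeechCond (vecOfList x0L) (vecOfList x0L (ptOf 0)) := by decide +kernel

/-- the third vector of the standard triple -/
def X0 : leechLattice := ⟨vecOfList x0L, mem_of_leechCond x0L_cond⟩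

theorem X0_coe : (X0 : Vec) = vecOfList x0L := rfl

/-- the stabiliser of a triple -/
def stab3 (u v x : leechLattice) : Subgroup Co0 :=
  MulAction.stabilizer Co0 u ⊓ MulAction.stabilizer Co0 v ⊓ MulAction.stabilizer Co0 x

theorem mem_stab3 {u v x : leechLattice} {k : Co0} :
    k ∈ stab3 u v x ↔ k • u = u ∧ k • v = v ∧ k • x = x := by
  simp [stab3, Subgroup.mem_inf, MulAction.mem_stabilizer_iff, and_assoc]

/-- the stabiliser of the standard triple -/
def G0 : Subgroup Co0 := stab3 VH WH X0

/-! ### the 252 vectors -/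

theorem OB_length : OB.length = 252 := by decide +kernel

theorem OB_len (l : List ℤ) (hl : l ∈ OB) : l.length = 24 := by
  obtain ⟨c, _, rfl⟩ := List.mem_map.mp hl
  exact decV_length c

set_option maxRecDepth 100000 in
theorem OBc_nodup : OBc.Nodup := by decide +kernel

set_option maxRecDepth 100000 in
theorem OBc_enc : ∀ c ∈ OBc, encV (decV c) = c := by decide +kernel

theorem OB_nodup : OB.Nodup := nodup_map_decV OBc OBc_nodup OBc_enc

set_option maxRecDepth 100000 in
theorem OB_cond : ∀ l ∈ OB, LeechCond (vecOfList l) (vecOfList l (ptOf 0)) := by decide +kernel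

theorem OB_mem (l : List ℤ) (hl : l ∈ OB) : vecOfList l ∈ leechLattice :=
  mem_of_leechCond (OB_cond l hl)

theorem OB_getD_mem (l : ℕ) (hl : l < 252) : OB.getD l [] ∈ OB := by
  rw [List.getD_eq_getElem _ _ (by rw [OB_length]; exact hl)]
  exact List.getElem_mem _

open Classical in
/-- the `l`-th vector -/
noncomputable def Yv (l : ℕ) : leechLattice :=
  if h : vecOfList (OB.getD l []) ∈ leechLattice then ⟨_, h⟩ else 0

theorem Yv_coe (l : ℕ) (hl : l < 252) : (Yv l : Vec) = vecOfList (OB.getD l []) := by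
  unfold Yv
  rw [dif_pos (OB_mem _ (OB_getD_mem l hl))]

theorem Yv_eq (l : ℕ) (hl : l < 252) :
    Yv l = ⟨vecOfList (OB.getD l []), OB_mem _ (OB_getD_mem l hl)⟩ :=
  Subtype.ext (Yv_coe l hl)

theorem Yv_inj {l l' : ℕ} (hl : l < 252) (hl' : l' < 252) (h : Yv l = Yv l') : l = l' := by
  have h1 := congrArg Subtype.val h
  rw [Yv_coe l hl, Yv_coe l' hl'] at h1
  have h2 := vecOfList_injOn (OB_len _ (OB_getD_mem l hl)) (OB_len _ (OB_getD_mem l' hl')) h1
  have hl2 : l < OB.length := by rw [OB_length]; exact hl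
  have hl2' : l' < OB.length := by rw [OB_length]; exact hl'
  rw [List.getD_eq_getElem _ _ hl2, List.getD_eq_getElem _ _ hl2'] at h2
  exact (List.Nodup.getElem_inj_iff OB_nodup).mp h2

/-! ### the three automorphisms -/

set_option maxRecDepth 100000 in
theorem k1_ok : k1.ok := by decide +kernel

set_option maxRecDepth 100000 in
theorem k2_ok : k2.ok := by decide +kernel

set_option maxRecDepth 100000 in
theorem kT_ok : kT.ok := by decide +kernel

set_option maxRecDepth 100000 in
theorem k1_fix : applyC k1.Tt vhL = vhL ∧ applyC k1.Tt whL = whL ∧ applyC k1.Tt x0L = x0L := by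
  decide +kernel

set_option maxRecDepth 100000 in
theorem k2_fix : applyC k2.Tt vhL = vhL ∧ applyC k2.Tt whL = whL ∧ applyC k2.Tt x0L = x0L := by
  decide +kernel

set_option maxRecDepth 100000 in
theorem kT_fix : applyC kT.Tt vhL = vhL ∧ applyC kT.Tt whL = whL ∧ applyC kT.Tt x0L = x0L := by
  decide +kernel

theorem mem_G0_of_fix (d : GenData) (h : d.ok) (hu : applyC d.Tt vhL = vhL)
    (hv : applyC d.Tt whL = whL) (hx : applyC d.Tt x0L = x0L) : d.aut h ∈ G0 :=
  mem_stab3.mpr ⟨fix_of_applyC d h vhL vhL_length VH VH_coe hu,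
    fix_of_applyC d h whL whL_length WH WH_coe hv,
    fix_of_applyC d h x0L x0L_length X0 X0_coe hx⟩

/-- the three automorphisms -/
noncomputable def elt : ℕ → Co0
  | 0 => k1.aut k1_ok
  | 1 => k2.aut k2_ok
  | _ => kT.aut kT_ok

theorem elt_mem (e : ℕ) : elt e ∈ G0 := by
  match e with
  | 0 => exact mem_G0_of_fix k1 k1_ok k1_fix.1 k1_fix.2.1 k1_fix.2.2
  | 1 => exact mem_G0_of_fix k2 k2_ok k2_fix.1 k2_fix.2.1 k2_fix.2.2
  | _ + 2 => exact mem_G0_of_fix kT kT_ok kT_fix.1 kT_fix.2.1 kT_fix.2.2

/-- the transposed table of the automorphism -/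
def eltT : ℕ → List (List ℤ)
  | 0 => k1.Tt
  | 1 => k2.Tt
  | _ => kT.Tt

/-- the tables of the action on the 252 vectors -/
def piE : ℕ → List ℕ
  | 0 => pi1
  | 1 => pi2
  | _ => piT

theorem elt_smul_list (e : ℕ) (x : List ℤ) (hx : x.length = 24) (hm : vecOfList x ∈ leechLattice) :
    ((elt e • (⟨vecOfList x, hm⟩ : leechLattice) : leechLattice) : Vec) =
      vecOfList (applyC (eltT e) x) := by
  match e with
  | 0 => exact GenData.aut_smul_list k1 k1_ok x hx hm
  | 1 => exact GenData.aut_smul_list k2 k2_ok x hx hm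
  | _ + 2 => exact GenData.aut_smul_list kT kT_ok x hx hm

/-- check of a table of the action -/
def actOK (e : ℕ) : Bool :=
  (List.range 252).all (fun l =>
    decide ((piE e).getD l 0 < 252) &&
      (applyC (eltT e) (OB.getD l []) == OB.getD ((piE e).getD l 0) []))

set_option maxRecDepth 100000 in
theorem act_ok0 : actOK 0 = true := by decide +kernel

set_option maxRecDepth 100000 in
theorem act_ok1 : actOK 1 = true := by decide +kernel

set_option maxRecDepth 100000 in
theorem act_ok2 : actOK 2 = true := by decide +kernel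

theorem actOK_of (e : ℕ) : actOK e = true := by
  match e with
  | 0 => exact act_ok0
  | 1 => exact act_ok1
  | _ + 2 => exact act_ok2

theorem elt_Yv (e l : ℕ) (hl : l < 252) :
    (piE e).getD l 0 < 252 ∧ elt e • Yv l = Yv ((piE e).getD l 0) := by
  have h := List.all_eq_true.mp (actOK_of e) l (List.mem_range.mpr hl)
  rw [Bool.and_eq_true, decide_eq_true_iff, beq_iff_eq] at h
  refine ⟨h.1, ?_⟩
  apply Subtype.ext
  rw [Yv_eq l hl, elt_smul_list e _ (OB_len _ (OB_getD_mem l hl)), h.2, Yv_coe _ h.1]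

/-! ### rigidity -/

/-- the 24 vectors `vh`, `wh`, `x0` and 21 of the 252 vectors -/
def FL : List (List ℤ) := [vhL, whL, x0L] ++ FI.map (fun i => OB.getD i [])

/-- the `m`-th of them -/
def fvec (m : Fin 24) : Vec := vecOfList (FL.getD m.val [])

set_option maxRecDepth 100000 in
theorem rigid_data : ∀ (j : Fin 24) (p : GolayPt),
    10 * bvec j p = ∑ m : Fin 24, (RC.getD j.val []).getD m.val 0 * fvec m p := by
  decide +kernel

theorem FL_getD : ∀ m : Fin 24, FL.getD m.val [] =
    if m.val = 0 then vhL else if m.val = 1 then whL else if m.val = 2 then x0L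
    else OB.getD (FI.getD (m.val - 3) 0) [] := by
  decide +kernel

theorem FI_lt : ∀ m : Fin 24, FI.getD (m.val - 3) 0 < 252 := by decide

/-- the corresponding elements of the lattice -/
noncomputable def Fel (m : Fin 24) : leechLattice :=
  if m.val = 0 then VH else if m.val = 1 then WH else if m.val = 2 then X0
  else Yv (FI.getD (m.val - 3) 0)

theorem Fel_coe (m : Fin 24) : (Fel m : Vec) = fvec m := by
  unfold Fel fvec
  rw [FL_getD m]
  split_ifs with h0 h1 h2
  · exact VH_coe
  · exact WH_coe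
  · exact X0_coe
  · exact Yv_coe _ (FI_lt m)

theorem Fel_fix (g : Co0) (hg : g ∈ G0) (hY : ∀ l < 252, g • Yv l = Yv l) (m : Fin 24) :
    g • Fel m = Fel m := by
  obtain ⟨hv, hw, hx⟩ := mem_stab3.mp hg
  unfold Fel
  split_ifs with h0 h1 h2
  · exact hv
  · exact hw
  · exact hx
  · exact hY _ (FI_lt m)

/-- the basis vectors as elements of the lattice -/
def Bel (j : Fin 24) : leechLattice := ⟨bvec j, bvec_mem j⟩

theorem ten_Bel (j : Fin 24) :
    (10 : ℤ) • Bel j = ∑ m : Fin 24, ((RC.getD j.val []).getD m.val 0) • Fel m := by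
  apply Subtype.ext
  funext p
  rw [AddSubgroup.coe_zsmul, AddSubgroup.val_finsetSum]
  simp only [Pi.smul_apply, Finset.sum_apply, AddSubgroup.coe_zsmul, smul_eq_mul, Fel_coe]
  exact rigid_data j p

theorem Bel_fix (g : Co0) (hg : g ∈ G0) (hY : ∀ l < 252, g • Yv l = Yv l) (j : Fin 24) :
    g • Bel j = Bel j := by
  have h3 : (10 : ℤ) • (g • Bel j) = (10 : ℤ) • Bel j := by
    rw [← co0_zsmul, ten_Bel, co0_sum]
    apply Finset.sum_congr rfl
    intro m _
    rw [co0_zsmul, Fel_fix g hg hY m]
  apply Subtype.ext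
  funext p
  have := congrFun (congrArg Subtype.val h3) p
  rw [AddSubgroup.coe_zsmul, AddSubgroup.coe_zsmul] at this
  simp only [Pi.smul_apply, smul_eq_mul] at this
  omega

theorem eq_sum_Bel (v : leechLattice) : v = ∑ j : Fin 24, coef (v : Vec) j • Bel j := by
  apply Subtype.ext
  rw [AddSubgroup.val_finsetSum]
  have := lin_bvec_self v.2
  unfold lin at this
  rw [← this]
  apply Finset.sum_congr rfl
  intro j _
  rw [AddSubgroup.coe_zsmul, this]
  rfl

/-- an element of `G0` fixing the 252 vectors is trivial -/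
theorem rigid (g : Co0) (hg : g ∈ G0) (hY : ∀ l < 252, g • Yv l = Yv l) : g = 1 := by
  apply co0_ext
  intro v
  rw [co0_one_smul]
  conv_lhs => rw [eq_sum_Bel v]
  rw [co0_sum]
  conv_rhs => rw [eq_sum_Bel v]
  apply Finset.sum_congr rfl
  intro j _
  rw [co0_zsmul, Bel_fix g hg hY j]

end Cfsg.Agent.Lib.Helper26.U35
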