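import Cfsg.Agent.Lib.Helper26.U35Unitary
import Cfsg.Agent.Lib.Helper26.U35Leech

set_option autoImplicit false

/-!
The finite verifications on the tables relating the 252 classes of isotropic vectors modulo squares,
the 252 vectors of the lattice and the three pairs (matrix, automorphism).
-/

namespace Cfsg.Agent.Lib.Helper26.U35

open F25c

/-! ### the representatives are pairwise not proportional by squares -/

def nodupB : List V3 → Bool
  | [] => true
  | x :: xs => !(xs.elem x) && nodupB xs

theorem nodup_of_nodupB : ∀ l : List V3, nodupB l = true → l.Nodup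
  | [], _ => List.nodup_nil
  | x :: xs, h => by
    rw [nodupB, Bool.and_eq_true, Bool.not_eq_true'] at h
    refine List.nodup_cons.mpr ⟨?_, nodup_of_nodupB xs h.2⟩
    intro hx
    have := List.elem_eq_true_of_mem hx
    rw [h.1] at this
    exact Bool.false_ne_true this

set_option maxRecDepth 100000 in
theorem PT_nodupB : nodupB PT = true := by decide +kernel

theorem PT_nodup : PT.Nodup := nodup_of_nodupB PT PT_nodupB

/-- test for non-zero squares -/
def isSq (x : F25c) : Bool := allF.any (fun d => decide (d ≠ 0) && decide (d * d = x))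

/-- the multiple with first non-zero coordinate `1` or `e1` -/
def snrm (v : V3) : V3 :=
  V3.smul (if isSq (lead v) = true then (lead v)⁻¹ else e1 * (lead v)⁻¹) v

def ptOK : Bool := PT.all (fun p => decide (snrm p = p) && decide (p ≠ V3.zero))

set_option maxRecDepth 100000 in
theorem pt_ok : ptOK = true := by decide +kernel

theorem lead_smul (c : F25c) (hc : c ≠ 0) (v : V3) : lead (V3.smul c v) = c * lead v := by
  unfold lead V3.smul
  simp only [ne_eq, mul_eq_zero, hc, false_or]
  split_ifs <;> rfl

theorem isSq_chk : chk2 (fun d l => decide (d ≠ 0 → isSq (d * d * l) = isSq l)) = true := by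
  decide +kernel

theorem isSq_mul (d l : F25c) (hd : d ≠ 0) : isSq (d * d * l) = isSq l :=
  of_decide_eq_true (chk2_spec _ isSq_chk d l) hd

theorem snrm_smul (d : F25c) (hd : d ≠ 0) (v : V3) : snrm (V3.smul (d * d) v) = snrm v := by
  have hc : d * d ≠ 0 := mul_ne_zero hd hd
  unfold snrm
  rw [lead_smul (d * d) hc, isSq_mul d (lead v) hd]
  have key : ∀ x : F25c, (d * d * lead v)⁻¹ * (d * d * x) = (lead v)⁻¹ * x := by
    intro x
    rw [mul_inv_rev, mul_assoc, inv_mul_cancel_left₀ hc]
  have key' : ∀ x : F25c, e1 * (d * d * lead v)⁻¹ * (d * d * x) = e1 * (lead v)⁻¹ * x := by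
    intro x
    rw [mul_assoc, key, mul_assoc]
  split_ifs
  · simp only [V3.smul, key]
  · simp only [V3.smul, key']

theorem PT_getD_mem (n : ℕ) (hn : n < 252) : PT.getD n V3.zero ∈ PT := by
  rw [List.getD_eq_getElem _ _ (by rw [PT_length]; exact hn)]
  exact List.getElem_mem _

theorem PT_prop (n : ℕ) (hn : n < 252) (m : ℕ) (hm : m < 252) (d : F25c) (hd : d ≠ 0)
    (h : PT.getD n V3.zero = V3.smul (d * d) (PT.getD m V3.zero)) : n = m := by
  have hn' := List.all_eq_true.mp pt_ok _ (PT_getD_mem n hn)
  have hm' := List.all_eq_true.mp pt_ok _ (PT_getD_mem m hm)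
  rw [Bool.and_eq_true, decide_eq_true_iff, decide_eq_true_iff] at hn' hm'
  have h2 : PT.getD n V3.zero = PT.getD m V3.zero := by
    rw [← hn'.1, h, snrm_smul d hd, hm'.1]
  have hn2 : n < PT.length := by rw [PT_length]; exact hn
  have hm2 : m < PT.length := by rw [PT_length]; exact hm
  rw [List.getD_eq_getElem _ _ hn2, List.getD_eq_getElem _ _ hm2] at h2
  exact (List.Nodup.getElem_inj_iff PT_nodup).mp h2

/-! ### the three pairs -/

/-- the three matrices -/
def ME : ℕ → M3
  | 0 => M1c
  | 1 => M2c
  | _ => tvc P0 e1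

theorem ME_good (e : ℕ) : (ME e).Good := by
  match e with
  | 0 => exact M1c_good
  | 1 => exact M2c_good
  | _ + 2 => exact T1_good

/-- square roots of the scalars -/
def dsE : ℕ → List F25c
  | 0 => ds1
  | 1 => ds2
  | _ => dsT

/-- check of the tables of a pair -/
def relOK (e : ℕ) : Bool :=
  (List.range 252).all (fun n =>
    decide ((piE e).getD n 0 < 252) && decide ((dsE e).getD n 0 ≠ 0) &&
      decide ((ME e).mv (PT.getD n V3.zero) =
        V3.smul ((dsE e).getD n 0 * (dsE e).getD n 0) (PT.getD ((piE e).getD n 0) V3.zero)))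

set_option maxRecDepth 100000 in
theorem rel_ok : relOK 0 = true ∧ relOK 1 = true ∧ relOK 2 = true := by decide +kernel

theorem relOK_of (e : ℕ) : relOK e = true := by
  match e with
  | 0 => exact rel_ok.1
  | 1 => exact rel_ok.2.1
  | _ + 2 => exact rel_ok.2.2

theorem relOK_spec (e n : ℕ) (hn : n < 252) :
    (piE e).getD n 0 < 252 ∧ (dsE e).getD n 0 ≠ 0 ∧
      (ME e).mv (PT.getD n V3.zero) =
        V3.smul ((dsE e).getD n 0 * (dsE e).getD n 0) (PT.getD ((piE e).getD n 0) V3.zero) := by
  have h := List.all_eq_true.mp (relOK_of e) n (List.mem_range.mpr hn)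
  rw [Bool.and_eq_true, Bool.and_eq_true, decide_eq_true_iff, decide_eq_true_iff,
    decide_eq_true_iff] at h
  exact ⟨h.1.1, h.1.2, h.2⟩

end Cfsg.Agent.Lib.Helper26.U35
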