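import Mathlib

set_option autoImplicit false

/-!
A concrete model of the field with 25 elements, `e_{5a+b} = a + b s` with `s^2 = 2`
(generated by scratch/u35/gen_f25.py).
-/

namespace Cfsg.Agent.Lib.Helper26.U35

/-- concrete field with 25 elements -/
inductive F25c : Type
  | e0 | e1 | e2 | e3 | e4 | e5 | e6 | e7 | e8 | e9 | e10 | e11 | e12 | e13 | e14 | e15 | e16 | e17 | e18 | e19 | e20 | e21 | e22 | e23 | e24
  deriving DecidableEq

namespace F25c

instance : Fintype F25c := ⟨{e0, e1, e2, e3, e4, e5, e6, e7, e8, e9, e10, e11, e12, e13, e14, e15, e16, e17, e18, e19, e20, e21, e22, e23, e24}, by intro x; cases x <;> decide⟩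

/-- addition of `e0` -/
def add0 : F25c → F25c
  | e0 => e0
  | e1 => e1
  | e2 => e2
  | e3 => e3
  | e4 => e4
  | e5 => e5
  | e6 => e6
  | e7 => e7
  | e8 => e8
  | e9 => e9
  | e10 => e10
  | e11 => e11
  | e12 => e12
  | e13 => e13
  | e14 => e14
  | e15 => e15
  | e16 => e16
  | e17 => e17
  | e18 => e18
  | e19 => e19
  | e20 => e20
  | e21 => e21
  | e22 => e22
  | e23 => e23
  | e24 => e24

/-- addition of `e1` -/
def add1 : F25c → F25c
  | e0 => e1
  | e1 => e2
  | e2 => e3
  | e3 => e4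
  | e4 => e0
  | e5 => e6
  | e6 => e7
  | e7 => e8
  | e8 => e9
  | e9 => e5
  | e10 => e11
  | e11 => e12
  | e12 => e13
  | e13 => e14
  | e14 => e10
  | e15 => e16
  | e16 => e17
  | e17 => e18
  | e18 => e19
  | e19 => e15
  | e20 => e21
  | e21 => e22
  | e22 => e23
  | e23 => e24
  | e24 => e20

/-- addition of `e2` -/
def add2 : F25c → F25c
  | e0 => e2
  | e1 => e3
  | e2 => e4
  | e3 => e0
  | e4 => e1
  | e5 => e7
  | e6 => e8
  | e7 => e9
  | e8 => e5
  | e9 => e6
  | e10 => e12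
  | e11 => e13
  | e12 => e14
  | e13 => e10
  | e14 => e11
  | e15 => e17
  | e16 => e18
  | e17 => e19
  | e18 => e15
  | e19 => e16
  | e20 => e22
  | e21 => e23
  | e22 => e24
  | e23 => e20
  | e24 => e21

/-- addition of `e3` -/
def add3 : F25c → F25c
  | e0 => e3
  | e1 => e4
  | e2 => e0
  | e3 => e1
  | e4 => e2
  | e5 => e8
  | e6 => e9
  | e7 => e5
  | e8 => e6
  | e9 => e7
  | e10 => e13
  | e11 => e14
  | e12 => e10
  | e13 => e11
  | e14 => e12
  | e15 => e18
  | e16 => e19
  | e17 => e15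
  | e18 => e16
  | e19 => e17
  | e20 => e23
  | e21 => e24
  | e22 => e20
  | e23 => e21
  | e24 => e22

/-- addition of `e4` -/
def add4 : F25c → F25c
  | e0 => e4
  | e1 => e0
  | e2 => e1
  | e3 => e2
  | e4 => e3
  | e5 => e9
  | e6 => e5
  | e7 => e6
  | e8 => e7
  | e9 => e8
  | e10 => e14
  | e11 => e10
  | e12 => e11
  | e13 => e12
  | e14 => e13
  | e15 => e19
  | e16 => e15
  | e17 => e16
  | e18 => e17
  | e19 => e18
  | e20 => e24
  | e21 => e20
  | e22 => e21
  | e23 => e22
  | e24 => e23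

/-- addition of `e5` -/
def add5 : F25c → F25c
  | e0 => e5
  | e1 => e6
  | e2 => e7
  | e3 => e8
  | e4 => e9
  | e5 => e10
  | e6 => e11
  | e7 => e12
  | e8 => e13
  | e9 => e14
  | e10 => e15
  | e11 => e16
  | e12 => e17
  | e13 => e18
  | e14 => e19
  | e15 => e20
  | e16 => e21
  | e17 => e22
  | e18 => e23
  | e19 => e24
  | e20 => e0
  | e21 => e1
  | e22 => e2
  | e23 => e3
  | e24 => e4

/-- addition of `e6` -/
def add6 : F25c → F25c
  | e0 => e6
  | e1 => e7
  | e2 => e8
  | e3 => e9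
  | e4 => e5
  | e5 => e11
  | e6 => e12
  | e7 => e13
  | e8 => e14
  | e9 => e10
  | e10 => e16
  | e11 => e17
  | e12 => e18
  | e13 => e19
  | e14 => e15
  | e15 => e21
  | e16 => e22
  | e17 => e23
  | e18 => e24
  | e19 => e20
  | e20 => e1
  | e21 => e2
  | e22 => e3
  | e23 => e4
  | e24 => e0

/-- addition of `e7` -/
def add7 : F25c → F25c
  | e0 => e7
  | e1 => e8
  | e2 => e9
  | e3 => e5
  | e4 => e6
  | e5 => e12
  | e6 => e13
  | e7 => e14
  | e8 => e10
  | e9 => e11
  | e10 => e17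
  | e11 => e18
  | e12 => e19
  | e13 => e15
  | e14 => e16
  | e15 => e22
  | e16 => e23
  | e17 => e24
  | e18 => e20
  | e19 => e21
  | e20 => e2
  | e21 => e3
  | e22 => e4
  | e23 => e0
  | e24 => e1

/-- addition of `e8` -/
def add8 : F25c → F25c
  | e0 => e8
  | e1 => e9
  | e2 => e5
  | e3 => e6
  | e4 => e7
  | e5 => e13
  | e6 => e14
  | e7 => e10
  | e8 => e11
  | e9 => e12
  | e10 => e18
  | e11 => e19
  | e12 => e15
  | e13 => e16
  | e14 => e17
  | e15 => e23
  | e16 => e24
  | e17 => e20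
  | e18 => e21
  | e19 => e22
  | e20 => e3
  | e21 => e4
  | e22 => e0
  | e23 => e1
  | e24 => e2

/-- addition of `e9` -/
def add9 : F25c → F25c
  | e0 => e9
  | e1 => e5
  | e2 => e6
  | e3 => e7
  | e4 => e8
  | e5 => e14
  | e6 => e10
  | e7 => e11
  | e8 => e12
  | e9 => e13
  | e10 => e19
  | e11 => e15
  | e12 => e16
  | e13 => e17
  | e14 => e18
  | e15 => e24
  | e16 => e20
  | e17 => e21
  | e18 => e22
  | e19 => e23
  | e20 => e4
  | e21 => e0
  | e22 => e1
  | e23 => e2
  | e24 => e3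

/-- addition of `e10` -/
def add10 : F25c → F25c
  | e0 => e10
  | e1 => e11
  | e2 => e12
  | e3 => e13
  | e4 => e14
  | e5 => e15
  | e6 => e16
  | e7 => e17
  | e8 => e18
  | e9 => e19
  | e10 => e20
  | e11 => e21
  | e12 => e22
  | e13 => e23
  | e14 => e24
  | e15 => e0
  | e16 => e1
  | e17 => e2
  | e18 => e3
  | e19 => e4
  | e20 => e5
  | e21 => e6
  | e22 => e7
  | e23 => e8
  | e24 => e9

/-- addition of `e11` -/
def add11 : F25c → F25c
  | e0 => e11
  | e1 => e12
  | e2 => e13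
  | e3 => e14
  | e4 => e10
  | e5 => e16
  | e6 => e17
  | e7 => e18
  | e8 => e19
  | e9 => e15
  | e10 => e21
  | e11 => e22
  | e12 => e23
  | e13 => e24
  | e14 => e20
  | e15 => e1
  | e16 => e2
  | e17 => e3
  | e18 => e4
  | e19 => e0
  | e20 => e6
  | e21 => e7
  | e22 => e8
  | e23 => e9
  | e24 => e5

/-- addition of `e12` -/
def add12 : F25c → F25c
  | e0 => e12
  | e1 => e13
  | e2 => e14
  | e3 => e10
  | e4 => e11
  | e5 => e17
  | e6 => e18
  | e7 => e19
  | e8 => e15
  | e9 => e16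
  | e10 => e22
  | e11 => e23
  | e12 => e24
  | e13 => e20
  | e14 => e21
  | e15 => e2
  | e16 => e3
  | e17 => e4
  | e18 => e0
  | e19 => e1
  | e20 => e7
  | e21 => e8
  | e22 => e9
  | e23 => e5
  | e24 => e6

/-- addition of `e13` -/
def add13 : F25c → F25c
  | e0 => e13
  | e1 => e14
  | e2 => e10
  | e3 => e11
  | e4 => e12
  | e5 => e18
  | e6 => e19
  | e7 => e15
  | e8 => e16
  | e9 => e17
  | e10 => e23
  | e11 => e24
  | e12 => e20
  | e13 => e21
  | e14 => e22
  | e15 => e3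
  | e16 => e4
  | e17 => e0
  | e18 => e1
  | e19 => e2
  | e20 => e8
  | e21 => e9
  | e22 => e5
  | e23 => e6
  | e24 => e7

/-- addition of `e14` -/
def add14 : F25c → F25c
  | e0 => e14
  | e1 => e10
  | e2 => e11
  | e3 => e12
  | e4 => e13
  | e5 => e19
  | e6 => e15
  | e7 => e16
  | e8 => e17
  | e9 => e18
  | e10 => e24
  | e11 => e20
  | e12 => e21
  | e13 => e22
  | e14 => e23
  | e15 => e4
  | e16 => e0
  | e17 => e1
  | e18 => e2
  | e19 => e3
  | e20 => e9
  | e21 => e5
  | e22 => e6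
  | e23 => e7
  | e24 => e8

/-- addition of `e15` -/
def add15 : F25c → F25c
  | e0 => e15
  | e1 => e16
  | e2 => e17
  | e3 => e18
  | e4 => e19
  | e5 => e20
  | e6 => e21
  | e7 => e22
  | e8 => e23
  | e9 => e24
  | e10 => e0
  | e11 => e1
  | e12 => e2
  | e13 => e3
  | e14 => e4
  | e15 => e5
  | e16 => e6
  | e17 => e7
  | e18 => e8
  | e19 => e9
  | e20 => e10
  | e21 => e11
  | e22 => e12
  | e23 => e13
  | e24 => e14

/-- addition of `e16` -/
def add16 : F25c → F25c
  | e0 => e16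
  | e1 => e17
  | e2 => e18
  | e3 => e19
  | e4 => e15
  | e5 => e21
  | e6 => e22
  | e7 => e23
  | e8 => e24
  | e9 => e20
  | e10 => e1
  | e11 => e2
  | e12 => e3
  | e13 => e4
  | e14 => e0
  | e15 => e6
  | e16 => e7
  | e17 => e8
  | e18 => e9
  | e19 => e5
  | e20 => e11
  | e21 => e12
  | e22 => e13
  | e23 => e14
  | e24 => e10

/-- addition of `e17` -/
def add17 : F25c → F25c
  | e0 => e17
  | e1 => e18
  | e2 => e19
  | e3 => e15
  | e4 => e16
  | e5 => e22
  | e6 => e23
  | e7 => e24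
  | e8 => e20
  | e9 => e21
  | e10 => e2
  | e11 => e3
  | e12 => e4
  | e13 => e0
  | e14 => e1
  | e15 => e7
  | e16 => e8
  | e17 => e9
  | e18 => e5
  | e19 => e6
  | e20 => e12
  | e21 => e13
  | e22 => e14
  | e23 => e10
  | e24 => e11

/-- addition of `e18` -/
def add18 : F25c → F25c
  | e0 => e18
  | e1 => e19
  | e2 => e15
  | e3 => e16
  | e4 => e17
  | e5 => e23
  | e6 => e24
  | e7 => e20
  | e8 => e21
  | e9 => e22
  | e10 => e3
  | e11 => e4
  | e12 => e0
  | e13 => e1
  | e14 => e2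
  | e15 => e8
  | e16 => e9
  | e17 => e5
  | e18 => e6
  | e19 => e7
  | e20 => e13
  | e21 => e14
  | e22 => e10
  | e23 => e11
  | e24 => e12

/-- addition of `e19` -/
def add19 : F25c → F25c
  | e0 => e19
  | e1 => e15
  | e2 => e16
  | e3 => e17
  | e4 => e18
  | e5 => e24
  | e6 => e20
  | e7 => e21
  | e8 => e22
  | e9 => e23
  | e10 => e4
  | e11 => e0
  | e12 => e1
  | e13 => e2
  | e14 => e3
  | e15 => e9
  | e16 => e5
  | e17 => e6
  | e18 => e7
  | e19 => e8
  | e20 => e14
  | e21 => e10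
  | e22 => e11
  | e23 => e12
  | e24 => e13

/-- addition of `e20` -/
def add20 : F25c → F25c
  | e0 => e20
  | e1 => e21
  | e2 => e22
  | e3 => e23
  | e4 => e24
  | e5 => e0
  | e6 => e1
  | e7 => e2
  | e8 => e3
  | e9 => e4
  | e10 => e5
  | e11 => e6
  | e12 => e7
  | e13 => e8
  | e14 => e9
  | e15 => e10
  | e16 => e11
  | e17 => e12
  | e18 => e13
  | e19 => e14
  | e20 => e15
  | e21 => e16
  | e22 => e17
  | e23 => e18
  | e24 => e19

/-- addition of `e21` -/
def add21 : F25c → F25c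
  | e0 => e21
  | e1 => e22
  | e2 => e23
  | e3 => e24
  | e4 => e20
  | e5 => e1
  | e6 => e2
  | e7 => e3
  | e8 => e4
  | e9 => e0
  | e10 => e6
  | e11 => e7
  | e12 => e8
  | e13 => e9
  | e14 => e5
  | e15 => e11
  | e16 => e12
  | e17 => e13
  | e18 => e14
  | e19 => e10
  | e20 => e16
  | e21 => e17
  | e22 => e18
  | e23 => e19
  | e24 => e15

/-- addition of `e22` -/
def add22 : F25c → F25c
  | e0 => e22
  | e1 => e23
  | e2 => e24
  | e3 => e20
  | e4 => e21
  | e5 => e2
  | e6 => e3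
  | e7 => e4
  | e8 => e0
  | e9 => e1
  | e10 => e7
  | e11 => e8
  | e12 => e9
  | e13 => e5
  | e14 => e6
  | e15 => e12
  | e16 => e13
  | e17 => e14
  | e18 => e10
  | e19 => e11
  | e20 => e17
  | e21 => e18
  | e22 => e19
  | e23 => e15
  | e24 => e16

/-- addition of `e23` -/
def add23 : F25c → F25c
  | e0 => e23
  | e1 => e24
  | e2 => e20
  | e3 => e21
  | e4 => e22
  | e5 => e3
  | e6 => e4
  | e7 => e0
  | e8 => e1
  | e9 => e2
  | e10 => e8
  | e11 => e9
  | e12 => e5
  | e13 => e6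
  | e14 => e7
  | e15 => e13
  | e16 => e14
  | e17 => e10
  | e18 => e11
  | e19 => e12
  | e20 => e18
  | e21 => e19
  | e22 => e15
  | e23 => e16
  | e24 => e17

/-- addition of `e24` -/
def add24 : F25c → F25c
  | e0 => e24
  | e1 => e20
  | e2 => e21
  | e3 => e22
  | e4 => e23
  | e5 => e4
  | e6 => e0
  | e7 => e1
  | e8 => e2
  | e9 => e3
  | e10 => e9
  | e11 => e5
  | e12 => e6
  | e13 => e7
  | e14 => e8
  | e15 => e14
  | e16 => e10
  | e17 => e11
  | e18 => e12
  | e19 => e13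
  | e20 => e19
  | e21 => e15
  | e22 => e16
  | e23 => e17
  | e24 => e18

/-- addition (curried table) -/
def addT : F25c → F25c → F25c
  | e0 => add0
  | e1 => add1
  | e2 => add2
  | e3 => add3
  | e4 => add4
  | e5 => add5
  | e6 => add6
  | e7 => add7
  | e8 => add8
  | e9 => add9
  | e10 => add10
  | e11 => add11
  | e12 => add12
  | e13 => add13
  | e14 => add14
  | e15 => add15
  | e16 => add16
  | e17 => add17
  | e18 => add18
  | e19 => add19
  | e20 => add20
  | e21 => add21
  | e22 => add22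
  | e23 => add23
  | e24 => add24

/-- addition -/
def add (x y : F25c) : F25c := addT x y

/-- multiplication of `e0` -/
def mul0 : F25c → F25c
  | e0 => e0
  | e1 => e0
  | e2 => e0
  | e3 => e0
  | e4 => e0
  | e5 => e0
  | e6 => e0
  | e7 => e0
  | e8 => e0
  | e9 => e0
  | e10 => e0
  | e11 => e0
  | e12 => e0
  | e13 => e0
  | e14 => e0
  | e15 => e0
  | e16 => e0
  | e17 => e0
  | e18 => e0
  | e19 => e0
  | e20 => e0
  | e21 => e0
  | e22 => e0
  | e23 => e0
  | e24 => e0

/-- multiplication of `e1` -/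
def mul1 : F25c → F25c
  | e0 => e0
  | e1 => e10
  | e2 => e20
  | e3 => e5
  | e4 => e15
  | e5 => e1
  | e6 => e11
  | e7 => e21
  | e8 => e6
  | e9 => e16
  | e10 => e2
  | e11 => e12
  | e12 => e22
  | e13 => e7
  | e14 => e17
  | e15 => e3
  | e16 => e13
  | e17 => e23
  | e18 => e8
  | e19 => e18
  | e20 => e4
  | e21 => e14
  | e22 => e24
  | e23 => e9
  | e24 => e19

/-- multiplication of `e2` -/
def mul2 : F25c → F25c
  | e0 => e0
  | e1 => e20
  | e2 => e15
  | e3 => e10
  | e4 => e5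
  | e5 => e2
  | e6 => e22
  | e7 => e17
  | e8 => e12
  | e9 => e7
  | e10 => e4
  | e11 => e24
  | e12 => e19
  | e13 => e14
  | e14 => e9
  | e15 => e1
  | e16 => e21
  | e17 => e16
  | e18 => e11
  | e19 => e6
  | e20 => e3
  | e21 => e23
  | e22 => e18
  | e23 => e13
  | e24 => e8

/-- multiplication of `e3` -/
def mul3 : F25c → F25c
  | e0 => e0
  | e1 => e5
  | e2 => e10
  | e3 => e15
  | e4 => e20
  | e5 => e3
  | e6 => e8
  | e7 => e13
  | e8 => e18
  | e9 => e23
  | e10 => e1
  | e11 => e6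
  | e12 => e11
  | e13 => e16
  | e14 => e21
  | e15 => e4
  | e16 => e9
  | e17 => e14
  | e18 => e19
  | e19 => e24
  | e20 => e2
  | e21 => e7
  | e22 => e12
  | e23 => e17
  | e24 => e22

/-- multiplication of `e4` -/
def mul4 : F25c → F25c
  | e0 => e0
  | e1 => e15
  | e2 => e5
  | e3 => e20
  | e4 => e10
  | e5 => e4
  | e6 => e19
  | e7 => e9
  | e8 => e24
  | e9 => e14
  | e10 => e3
  | e11 => e18
  | e12 => e8
  | e13 => e23
  | e14 => e13
  | e15 => e2
  | e16 => e17
  | e17 => e7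
  | e18 => e22
  | e19 => e12
  | e20 => e1
  | e21 => e16
  | e22 => e6
  | e23 => e21
  | e24 => e11

/-- multiplication of `e5` -/
def mul5 : F25c → F25c
  | e0 => e0
  | e1 => e1
  | e2 => e2
  | e3 => e3
  | e4 => e4
  | e5 => e5
  | e6 => e6
  | e7 => e7
  | e8 => e8
  | e9 => e9
  | e10 => e10
  | e11 => e11
  | e12 => e12
  | e13 => e13
  | e14 => e14
  | e15 => e15
  | e16 => e16
  | e17 => e17
  | e18 => e18
  | e19 => e19
  | e20 => e20
  | e21 => e21
  | e22 => e22
  | e23 => e23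
  | e24 => e24

/-- multiplication of `e6` -/
def mul6 : F25c → F25c
  | e0 => e0
  | e1 => e11
  | e2 => e22
  | e3 => e8
  | e4 => e19
  | e5 => e6
  | e6 => e17
  | e7 => e3
  | e8 => e14
  | e9 => e20
  | e10 => e12
  | e11 => e23
  | e12 => e9
  | e13 => e15
  | e14 => e1
  | e15 => e18
  | e16 => e4
  | e17 => e10
  | e18 => e21
  | e19 => e7
  | e20 => e24
  | e21 => e5
  | e22 => e16
  | e23 => e2
  | e24 => e13

/-- multiplication of `e7` -/
def mul7 : F25c → F25c
  | e0 => e0
  | e1 => e21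
  | e2 => e17
  | e3 => e13
  | e4 => e9
  | e5 => e7
  | e6 => e3
  | e7 => e24
  | e8 => e15
  | e9 => e11
  | e10 => e14
  | e11 => e5
  | e12 => e1
  | e13 => e22
  | e14 => e18
  | e15 => e16
  | e16 => e12
  | e17 => e8
  | e18 => e4
  | e19 => e20
  | e20 => e23
  | e21 => e19
  | e22 => e10
  | e23 => e6
  | e24 => e2

/-- multiplication of `e8` -/
def mul8 : F25c → F25c
  | e0 => e0
  | e1 => e6
  | e2 => e12
  | e3 => e18
  | e4 => e24
  | e5 => e8
  | e6 => e14
  | e7 => e15
  | e8 => e21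
  | e9 => e2
  | e10 => e11
  | e11 => e17
  | e12 => e23
  | e13 => e4
  | e14 => e5
  | e15 => e19
  | e16 => e20
  | e17 => e1
  | e18 => e7
  | e19 => e13
  | e20 => e22
  | e21 => e3
  | e22 => e9
  | e23 => e10
  | e24 => e16

/-- multiplication of `e9` -/
def mul9 : F25c → F25c
  | e0 => e0
  | e1 => e16
  | e2 => e7
  | e3 => e23
  | e4 => e14
  | e5 => e9
  | e6 => e20
  | e7 => e11
  | e8 => e2
  | e9 => e18
  | e10 => e13
  | e11 => e4
  | e12 => e15
  | e13 => e6
  | e14 => e22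
  | e15 => e17
  | e16 => e8
  | e17 => e24
  | e18 => e10
  | e19 => e1
  | e20 => e21
  | e21 => e12
  | e22 => e3
  | e23 => e19
  | e24 => e5

/-- multiplication of `e10` -/
def mul10 : F25c → F25c
  | e0 => e0
  | e1 => e2
  | e2 => e4
  | e3 => e1
  | e4 => e3
  | e5 => e10
  | e6 => e12
  | e7 => e14
  | e8 => e11
  | e9 => e13
  | e10 => e20
  | e11 => e22
  | e12 => e24
  | e13 => e21
  | e14 => e23
  | e15 => e5
  | e16 => e7
  | e17 => e9
  | e18 => e6
  | e19 => e8
  | e20 => e15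
  | e21 => e17
  | e22 => e19
  | e23 => e16
  | e24 => e18

/-- multiplication of `e11` -/
def mul11 : F25c → F25c
  | e0 => e0
  | e1 => e12
  | e2 => e24
  | e3 => e6
  | e4 => e18
  | e5 => e11
  | e6 => e23
  | e7 => e5
  | e8 => e17
  | e9 => e4
  | e10 => e22
  | e11 => e9
  | e12 => e16
  | e13 => e3
  | e14 => e10
  | e15 => e8
  | e16 => e15
  | e17 => e2
  | e18 => e14
  | e19 => e21
  | e20 => e19
  | e21 => e1
  | e22 => e13
  | e23 => e20
  | e24 => e7

/-- multiplication of `e12` -/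
def mul12 : F25c → F25c
  | e0 => e0
  | e1 => e22
  | e2 => e19
  | e3 => e11
  | e4 => e8
  | e5 => e12
  | e6 => e9
  | e7 => e1
  | e8 => e23
  | e9 => e15
  | e10 => e24
  | e11 => e16
  | e12 => e13
  | e13 => e5
  | e14 => e2
  | e15 => e6
  | e16 => e3
  | e17 => e20
  | e18 => e17
  | e19 => e14
  | e20 => e18
  | e21 => e10
  | e22 => e7
  | e23 => e4
  | e24 => e21

/-- multiplication of `e13` -/
def mul13 : F25c → F25c
  | e0 => e0
  | e1 => e7
  | e2 => e14
  | e3 => e16
  | e4 => e23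
  | e5 => e13
  | e6 => e15
  | e7 => e22
  | e8 => e4
  | e9 => e6
  | e10 => e21
  | e11 => e3
  | e12 => e5
  | e13 => e12
  | e14 => e19
  | e15 => e9
  | e16 => e11
  | e17 => e18
  | e18 => e20
  | e19 => e2
  | e20 => e17
  | e21 => e24
  | e22 => e1
  | e23 => e8
  | e24 => e10

/-- multiplication of `e14` -/
def mul14 : F25c → F25c
  | e0 => e0
  | e1 => e17
  | e2 => e9
  | e3 => e21
  | e4 => e13
  | e5 => e14
  | e6 => e1
  | e7 => e18
  | e8 => e5
  | e9 => e22
  | e10 => e23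
  | e11 => e10
  | e12 => e2
  | e13 => e19
  | e14 => e6
  | e15 => e7
  | e16 => e24
  | e17 => e11
  | e18 => e3
  | e19 => e15
  | e20 => e16
  | e21 => e8
  | e22 => e20
  | e23 => e12
  | e24 => e4

/-- multiplication of `e15` -/
def mul15 : F25c → F25c
  | e0 => e0
  | e1 => e3
  | e2 => e1
  | e3 => e4
  | e4 => e2
  | e5 => e15
  | e6 => e18
  | e7 => e16
  | e8 => e19
  | e9 => e17
  | e10 => e5
  | e11 => e8
  | e12 => e6
  | e13 => e9
  | e14 => e7
  | e15 => e20
  | e16 => e23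
  | e17 => e21
  | e18 => e24
  | e19 => e22
  | e20 => e10
  | e21 => e13
  | e22 => e11
  | e23 => e14
  | e24 => e12

/-- multiplication of `e16` -/
def mul16 : F25c → F25c
  | e0 => e0
  | e1 => e13
  | e2 => e21
  | e3 => e9
  | e4 => e17
  | e5 => e16
  | e6 => e4
  | e7 => e12
  | e8 => e20
  | e9 => e8
  | e10 => e7
  | e11 => e15
  | e12 => e3
  | e13 => e11
  | e14 => e24
  | e15 => e23
  | e16 => e6
  | e17 => e19
  | e18 => e2
  | e19 => e10
  | e20 => e14
  | e21 => e22
  | e22 => e5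
  | e23 => e18
  | e24 => e1

/-- multiplication of `e17` -/
def mul17 : F25c → F25c
  | e0 => e0
  | e1 => e23
  | e2 => e16
  | e3 => e14
  | e4 => e7
  | e5 => e17
  | e6 => e10
  | e7 => e8
  | e8 => e1
  | e9 => e24
  | e10 => e9
  | e11 => e2
  | e12 => e20
  | e13 => e18
  | e14 => e11
  | e15 => e21
  | e16 => e19
  | e17 => e12
  | e18 => e5
  | e19 => e3
  | e20 => e13
  | e21 => e6
  | e22 => e4
  | e23 => e22
  | e24 => e15

/-- multiplication of `e18` -/
def mul18 : F25c → F25c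
  | e0 => e0
  | e1 => e8
  | e2 => e11
  | e3 => e19
  | e4 => e22
  | e5 => e18
  | e6 => e21
  | e7 => e4
  | e8 => e7
  | e9 => e10
  | e10 => e6
  | e11 => e14
  | e12 => e17
  | e13 => e20
  | e14 => e3
  | e15 => e24
  | e16 => e2
  | e17 => e5
  | e18 => e13
  | e19 => e16
  | e20 => e12
  | e21 => e15
  | e22 => e23
  | e23 => e1
  | e24 => e9

/-- multiplication of `e19` -/
def mul19 : F25c → F25c
  | e0 => e0
  | e1 => e18
  | e2 => e6
  | e3 => e24
  | e4 => e12
  | e5 => e19
  | e6 => e7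
  | e7 => e20
  | e8 => e13
  | e9 => e1
  | e10 => e8
  | e11 => e21
  | e12 => e14
  | e13 => e2
  | e14 => e15
  | e15 => e22
  | e16 => e10
  | e17 => e3
  | e18 => e16
  | e19 => e9
  | e20 => e11
  | e21 => e4
  | e22 => e17
  | e23 => e5
  | e24 => e23

/-- multiplication of `e20` -/
def mul20 : F25c → F25c
  | e0 => e0
  | e1 => e4
  | e2 => e3
  | e3 => e2
  | e4 => e1
  | e5 => e20
  | e6 => e24
  | e7 => e23
  | e8 => e22
  | e9 => e21
  | e10 => e15
  | e11 => e19
  | e12 => e18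
  | e13 => e17
  | e14 => e16
  | e15 => e10
  | e16 => e14
  | e17 => e13
  | e18 => e12
  | e19 => e11
  | e20 => e5
  | e21 => e9
  | e22 => e8
  | e23 => e7
  | e24 => e6

/-- multiplication of `e21` -/
def mul21 : F25c → F25c
  | e0 => e0
  | e1 => e14
  | e2 => e23
  | e3 => e7
  | e4 => e16
  | e5 => e21
  | e6 => e5
  | e7 => e19
  | e8 => e3
  | e9 => e12
  | e10 => e17
  | e11 => e1
  | e12 => e10
  | e13 => e24
  | e14 => e8
  | e15 => e13
  | e16 => e22
  | e17 => e6
  | e18 => e15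
  | e19 => e4
  | e20 => e9
  | e21 => e18
  | e22 => e2
  | e23 => e11
  | e24 => e20

/-- multiplication of `e22` -/
def mul22 : F25c → F25c
  | e0 => e0
  | e1 => e24
  | e2 => e18
  | e3 => e12
  | e4 => e6
  | e5 => e22
  | e6 => e16
  | e7 => e10
  | e8 => e9
  | e9 => e3
  | e10 => e19
  | e11 => e13
  | e12 => e7
  | e13 => e1
  | e14 => e20
  | e15 => e11
  | e16 => e5
  | e17 => e4
  | e18 => e23
  | e19 => e17
  | e20 => e8
  | e21 => e2
  | e22 => e21
  | e23 => e15
  | e24 => e14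

/-- multiplication of `e23` -/
def mul23 : F25c → F25c
  | e0 => e0
  | e1 => e9
  | e2 => e13
  | e3 => e17
  | e4 => e21
  | e5 => e23
  | e6 => e2
  | e7 => e6
  | e8 => e10
  | e9 => e19
  | e10 => e16
  | e11 => e20
  | e12 => e4
  | e13 => e8
  | e14 => e12
  | e15 => e14
  | e16 => e18
  | e17 => e22
  | e18 => e1
  | e19 => e5
  | e20 => e7
  | e21 => e11
  | e22 => e15
  | e23 => e24
  | e24 => e3

/-- multiplication of `e24` -/
def mul24 : F25c → F25c
  | e0 => e0
  | e1 => e19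
  | e2 => e8
  | e3 => e22
  | e4 => e11
  | e5 => e24
  | e6 => e13
  | e7 => e2
  | e8 => e16
  | e9 => e5
  | e10 => e18
  | e11 => e7
  | e12 => e21
  | e13 => e10
  | e14 => e4
  | e15 => e12
  | e16 => e1
  | e17 => e15
  | e18 => e9
  | e19 => e23
  | e20 => e6
  | e21 => e20
  | e22 => e14
  | e23 => e3
  | e24 => e17

/-- multiplication (curried table) -/
def mulT : F25c → F25c → F25c
  | e0 => mul0
  | e1 => mul1
  | e2 => mul2
  | e3 => mul3
  | e4 => mul4
  | e5 => mul5
  | e6 => mul6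
  | e7 => mul7
  | e8 => mul8
  | e9 => mul9
  | e10 => mul10
  | e11 => mul11
  | e12 => mul12
  | e13 => mul13
  | e14 => mul14
  | e15 => mul15
  | e16 => mul16
  | e17 => mul17
  | e18 => mul18
  | e19 => mul19
  | e20 => mul20
  | e21 => mul21
  | e22 => mul22
  | e23 => mul23
  | e24 => mul24

/-- multiplication -/
def mul (x y : F25c) : F25c := mulT x y

/-- negation -/
def neg : F25c → F25c
  | e0 => e0
  | e1 => e4
  | e2 => e3
  | e3 => e2
  | e4 => e1
  | e5 => e20
  | e6 => e24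
  | e7 => e23
  | e8 => e22
  | e9 => e21
  | e10 => e15
  | e11 => e19
  | e12 => e18
  | e13 => e17
  | e14 => e16
  | e15 => e10
  | e16 => e14
  | e17 => e13
  | e18 => e12
  | e19 => e11
  | e20 => e5
  | e21 => e9
  | e22 => e8
  | e23 => e7
  | e24 => e6

/-- inverse -/
def inv : F25c → F25c
  | e0 => e0
  | e1 => e3
  | e2 => e4
  | e3 => e1
  | e4 => e2
  | e5 => e5
  | e6 => e21
  | e7 => e11
  | e8 => e14
  | e9 => e24
  | e10 => e15
  | e11 => e7
  | e12 => e13
  | e13 => e12
  | e14 => e8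
  | e15 => e10
  | e16 => e22
  | e17 => e18
  | e18 => e17
  | e19 => e23
  | e20 => e20
  | e21 => e6
  | e22 => e16
  | e23 => e19
  | e24 => e9

/-- the field involution `x ↦ x^5` -/
def cj : F25c → F25c
  | e0 => e0
  | e1 => e4
  | e2 => e3
  | e3 => e2
  | e4 => e1
  | e5 => e5
  | e6 => e9
  | e7 => e8
  | e8 => e7
  | e9 => e6
  | e10 => e10
  | e11 => e14
  | e12 => e13
  | e13 => e12
  | e14 => e11
  | e15 => e15
  | e16 => e19
  | e17 => e18
  | e18 => e17
  | e19 => e16
  | e20 => e20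
  | e21 => e24
  | e22 => e23
  | e23 => e22
  | e24 => e21

instance : Add F25c := ⟨add⟩
instance : Mul F25c := ⟨mul⟩
instance : Zero F25c := ⟨e0⟩
instance : One F25c := ⟨e5⟩
instance : Neg F25c := ⟨neg⟩
instance : Inv F25c := ⟨inv⟩

/-! ### checks over all elements -/

/-- all the elements -/
def allF : List F25c := [e0, e1, e2, e3, e4, e5, e6, e7, e8, e9, e10, e11, e12, e13, e14, e15, e16,
  e17, e18, e19, e20, e21, e22, e23, e24]

theorem mem_allF (x : F25c) : x ∈ allF := by cases x <;> decide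

/-- check of a predicate of three elements -/
def chk3 (f : F25c → F25c → F25c → Bool) : Bool :=
  allF.all fun a => allF.all fun b => allF.all fun c => f a b c

theorem chk3_spec (f : F25c → F25c → F25c → Bool) (h : chk3 f = true) (a b c : F25c) :
    f a b c = true :=
  List.all_eq_true.mp (List.all_eq_true.mp (List.all_eq_true.mp h a (mem_allF a)) b (mem_allF b)) c
    (mem_allF c)

/-- check of a predicate of two elements -/
def chk2 (f : F25c → F25c → Bool) : Bool := allF.all fun a => allF.all fun b => f a b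

theorem chk2_spec (f : F25c → F25c → Bool) (h : chk2 f = true) (a b : F25c) : f a b = true :=
  List.all_eq_true.mp (List.all_eq_true.mp h a (mem_allF a)) b (mem_allF b)

set_option maxRecDepth 100000 in
theorem add_assoc_chk : chk3 (fun a b c => decide (a + b + c = a + (b + c))) = true := by
  decide +kernel

theorem add_assoc' (a b c : F25c) : a + b + c = a + (b + c) :=
  of_decide_eq_true (chk3_spec _ add_assoc_chk a b c)

set_option maxRecDepth 100000 in
theorem mul_assoc_chk : chk3 (fun a b c => decide (a * b * c = a * (b * c))) = true := by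
  decide +kernel

theorem mul_assoc' (a b c : F25c) : a * b * c = a * (b * c) :=
  of_decide_eq_true (chk3_spec _ mul_assoc_chk a b c)

set_option maxRecDepth 100000 in
theorem left_distrib_chk : chk3 (fun a b c => decide (a * (b + c) = a * b + a * c)) = true := by
  decide +kernel

theorem left_distrib' (a b c : F25c) : a * (b + c) = a * b + a * c :=
  of_decide_eq_true (chk3_spec _ left_distrib_chk a b c)

theorem mul_comm' : ∀ a b : F25c, a * b = b * a := by decide +kernel

theorem add_comm' : ∀ a b : F25c, a + b = b + a := by decide +kernel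

instance : Field F25c where
  add_assoc := add_assoc'
  zero_add := by decide +kernel
  add_zero := by decide +kernel
  add_comm := add_comm'
  neg_add_cancel := by decide +kernel
  mul_assoc := mul_assoc'
  one_mul := by decide +kernel
  mul_one := by decide +kernel
  left_distrib := left_distrib'
  right_distrib := by
    intro a b c
    rw [mul_comm' (a + b) c, left_distrib', mul_comm' c a, mul_comm' c b]
  zero_mul := by decide +kernel
  mul_zero := by decide +kernel
  mul_comm := mul_comm'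
  exists_pair_ne := ⟨e0, e5, by decide⟩
  mul_inv_cancel := by decide +kernel
  inv_zero := rfl
  nsmul := nsmulRec
  zsmul := zsmulRec
  nnqsmul := _
  qsmul := _

theorem card_eq : Fintype.card F25c = 25 := rfl

theorem cj_eq_pow : ∀ x : F25c, cj x = x ^ 5 := by decide +kernel

end F25c

end Cfsg.Agent.Lib.Helper26.U35
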