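import Cfsg.Agent.Lib.Helper26.U35Rel
import Cfsg.Agent.Lib.Helper26.HSGen

set_option autoImplicit false

/-!
The 352 minimal vectors attached to an arbitrary Higman-Sims pair: their number, the closure under
`x ↦ -w - x`, transitivity of the stabiliser of the pair, and the stabiliser of one of them.
-/

namespace Cfsg.Agent.Lib.Helper26.U35

open Cfsg Cfsg.Agent.Lib.Helper93.Leech Cfsg.Agent.Lib.Helper93.Golay
open Cfsg.Agent.Lib.Golay.LeechBasis Cfsg.Agent.Lib.Conway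
open Cfsg.Agent.Lib.Conway.HS (VH WH G2 mem_G2 facts)

theorem mem_S3_smul (h : Co0) (v w x : leechLattice) :
    h • x ∈ S3 (h • v) (h • w) ↔ x ∈ S3 v w := by
  show (_ ∧ _ ∧ _) ↔ (_ ∧ _ ∧ _)
  rw [co0_norm, co0_dot, co0_dot]

theorem mem_S3_inv (h : Co0) (x : leechLattice) (hx : x ∈ S3 (h • VH) (h • WH)) :
    h⁻¹ • x ∈ S3 VH WH := by
  rw [← mem_S3_smul h, smul_inv_smul]
  exact hx

theorem trans_S3 : ∀ x ∈ S3 VH WH, ∀ x' ∈ S3 VH WH,
    ∃ g : Co0, g • VH = VH ∧ g • WH = WH ∧ g • x = x' := by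
  intro x hx x' hx'
  obtain ⟨g, hg, hgx⟩ := reach_S3 x hx
  obtain ⟨g', hg', hgx'⟩ := reach_S3 x' hx'
  have h := (G2 VH WH).mul_mem hg' ((G2 VH WH).inv_mem hg)
  refine ⟨g' * g⁻¹, (mem_G2.mp h).1, (mem_G2.mp h).2, ?_⟩
  rw [mul_smul, ← hgx, inv_smul_smul, hgx']

theorem sqNorm_neg_sub (a b : Vec) : sqNorm (-a - b) = sqNorm a + 2 * dotInt a b + sqNorm b := by
  unfold sqNorm dotInt
  rw [Finset.mul_sum, ← Finset.sum_add_distrib, ← Finset.sum_add_distrib]
  apply Finset.sum_congr rfl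
  intro i _
  simp only [Pi.sub_apply, Pi.neg_apply]
  ring

theorem dotInt_neg_sub (c a b : Vec) : dotInt c (-a - b) = -dotInt c a - dotInt c b := by
  unfold dotInt
  rw [← Finset.sum_neg_distrib, ← Finset.sum_sub_distrib]
  apply Finset.sum_congr rfl
  intro i _
  simp only [Pi.sub_apply, Pi.neg_apply]
  ring

theorem dotInt_self (a : Vec) : dotInt a a = sqNorm a := by
  unfold dotInt sqNorm
  exact Finset.sum_congr rfl fun p _ => (sq _).symm

theorem closed_S3 (v w x : leechLattice) (hw : sqNorm (w : Vec) = 48)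
    (hvw : dotInt (v : Vec) (w : Vec) = -32) (hx : x ∈ S3 v w) : -w - x ∈ S3 v w := by
  obtain ⟨h1, h2, h3⟩ := hx
  have e : ((-w - x : leechLattice) : Vec) = -(w : Vec) - (x : Vec) := rfl
  refine ⟨?_, ?_, ?_⟩
  · rw [e, sqNorm_neg_sub, hw, h3, h1]; norm_num
  · rw [e, dotInt_neg_sub, hvw, h2]; norm_num
  · rw [e, dotInt_neg_sub, dotInt_self, hw, h3]; norm_num

theorem conj_mem_iff (g : Co0) {u v x u' v' x' : leechLattice} (hu : g • u = u') (hv : g • v = v')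
    (hx : g • x = x') (k : Co0) : k ∈ stab3 u v x ↔ g * k * g⁻¹ ∈ stab3 u' v' x' := by
  have key : ∀ {y y' : leechLattice}, g • y = y' → ((g * k * g⁻¹) • y' = y' ↔ k • y = y) := by
    intro y y' hy
    rw [mul_smul, mul_smul, ← hy, inv_smul_smul]
    exact ⟨fun h => MulAction.injective g h, fun h => by rw [h]⟩
  rw [mem_stab3, mem_stab3, key hu, key hv, key hx]

/-- conjugate triples have isomorphic stabilisers -/
def stab3Equiv (g : Co0) {u v x u' v' x' : leechLattice} (hu : g • u = u')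
    (hv : g • v = v') (hx : g • x = x') : stab3 u v x ≃* stab3 u' v' x' where
  toFun k := ⟨g * k.1 * g⁻¹, (conj_mem_iff g hu hv hx k.1).mp k.2⟩
  invFun k := ⟨g⁻¹ * k.1 * g, (conj_mem_iff g hu hv hx _).mpr (by
    have : g * (g⁻¹ * k.1 * g) * g⁻¹ = k.1 := by group
    rw [this]; exact k.2)⟩
  left_inv k := Subtype.ext (by simp [mul_assoc])
  right_inv k := Subtype.ext (by simp [mul_assoc])
  map_mul' a b := Subtype.ext (by simp [mul_assoc])

/-- the statement S1633 -/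
theorem main (h40 : HSD.H40) (v w : leechLattice) (hv : sqNorm (v : Vec) = 48)
    (hw : sqNorm (w : Vec) = 48) (hvw : dotInt (v : Vec) (w : Vec) = -32)
    (F : Type) [Field F] [Fintype F] (hF : Fintype.card F = 25) :
    (S3 v w).ncard = 352 ∧ (∀ x ∈ S3 v w, -w - x ∈ S3 v w) ∧
      (∀ x ∈ S3 v w, ∀ x' ∈ S3 v w, ∃ g : Co0, g • v = v ∧ g • w = w ∧ g • x = x') ∧
      ∀ x ∈ S3 v w, Nonempty (stab3 v w x ≃* Cfsg.PSU 3 F 5) := by
  refine ⟨?_, fun x hx => closed_S3 v w x hw hvw hx, ?_, ?_⟩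
  · obtain ⟨h, rfl, rfl⟩ := HSD.exists_std h40 v w hv hw hvw
    rw [HSD.ncard_of_smul h (S3 VH WH) _ (fun y => mem_S3_smul h VH WH y)]
    exact ncard_S3
  · obtain ⟨h, rfl, rfl⟩ := HSD.exists_std h40 v w hv hw hvw
    intro x hx x' hx'
    obtain ⟨g, hgV, hgW, hgx⟩ := trans_S3 _ (mem_S3_inv h x hx) _ (mem_S3_inv h x' hx')
    refine ⟨h * g * h⁻¹, ?_, ?_, ?_⟩
    · rw [mul_smul, mul_smul, inv_smul_smul, hgV]
    · rw [mul_smul, mul_smul, inv_smul_smul, hgW]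
    · rw [mul_smul, mul_smul, hgx, smul_inv_smul]
  · obtain ⟨h, rfl, rfl⟩ := HSD.exists_std h40 v w hv hw hvw
    intro x hx
    obtain ⟨g, hg, hgx⟩ := reach_S3 _ (mem_S3_inv h x hx)
    obtain ⟨e⟩ := iso_G0 (F := F) hF
    have h1 : (h * g) • VH = h • VH := by rw [mul_smul, (mem_G2.mp hg).1]
    have h2 : (h * g) • WH = h • WH := by rw [mul_smul, (mem_G2.mp hg).2]
    have h3 : (h * g) • X0 = x := by rw [mul_smul, hgx, smul_inv_smul]
    exact ⟨(stab3Equiv (h * g) h1 h2 h3).symm.trans e⟩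

end Cfsg.Agent.Lib.Helper26.U35
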