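import Cfsg.Agent.Lib.Helper26.U35F25

set_option autoImplicit false

/-!
Vectors of length 3 and `3 × 3` matrices over the concrete field with 25 elements, as records.
-/

namespace Cfsg.Agent.Lib.Helper26.U35

open F25c

/-- vectors of length 3 -/
structure V3 : Type where
  a : F25c
  b : F25c
  c : F25c
  deriving DecidableEq

/-- `3 × 3` matrices, by rows -/
structure M3 : Type where
  r0 : V3
  r1 : V3
  r2 : V3
  deriving DecidableEq

namespace V3

/-- the bilinear dot product -/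
def dot (x y : V3) : F25c := x.a * y.a + x.b * y.b + x.c * y.c

/-- scalar multiple -/
def smul (k : F25c) (x : V3) : V3 := ⟨k * x.a, k * x.b, k * x.c⟩

/-- entrywise field involution -/
def cjv (x : V3) : V3 := ⟨cj x.a, cj x.b, cj x.c⟩

/-- the hermitian form `Σ x_i y_i^5` -/
def herm (x y : V3) : F25c := dot x (cjv y)

/-- the zero vector -/
def zero : V3 := ⟨0, 0, 0⟩

end V3

namespace M3

/-- matrix times column vector -/
def mv (M : M3) (v : V3) : V3 := ⟨M.r0.dot v, M.r1.dot v, M.r2.dot v⟩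

def col0 (M : M3) : V3 := ⟨M.r0.a, M.r1.a, M.r2.a⟩
def col1 (M : M3) : V3 := ⟨M.r0.b, M.r1.b, M.r2.b⟩
def col2 (M : M3) : V3 := ⟨M.r0.c, M.r1.c, M.r2.c⟩

/-- transpose -/
def tr (M : M3) : M3 := ⟨M.col0, M.col1, M.col2⟩

/-- row of a product -/
def rowMul (r : V3) (B : M3) : V3 := ⟨r.dot B.col0, r.dot B.col1, r.dot B.col2⟩

/-- matrix product -/
def mul (A B : M3) : M3 := ⟨rowMul A.r0 B, rowMul A.r1 B, rowMul A.r2 B⟩

/-- entrywise field involution -/
def cjm (M : M3) : M3 := ⟨M.r0.cjv, M.r1.cjv, M.r2.cjv⟩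

/-- identity -/
def one : M3 := ⟨⟨1, 0, 0⟩, ⟨0, 1, 0⟩, ⟨0, 0, 1⟩⟩

/-- determinant -/
def det (M : M3) : F25c :=
  match M with
  | ⟨⟨a, b, c⟩, ⟨d, e, f⟩, ⟨g, h, i⟩⟩ =>
    a * e * i - a * f * h - b * d * i + b * f * g + c * d * h - c * e * g

/-- determinant one and unitary -/
def Good (M : M3) : Prop := M.det = 1 ∧ M.tr.mul M.cjm = one

instance (M : M3) : Decidable M.Good := by unfold Good; infer_instance

end M3

end Cfsg.Agent.Lib.Helper26.U35
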