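import Cfsg.Agent.Lib.Helper26.U35Leech

set_option autoImplicit false

/-!
The 352 minimal vectors `x` with `vh · x = 16`, `wh · x = -24` attached to the standard pair of the
Higman-Sims group: their number, the transitivity of the stabiliser of the pair on them, and the order
`126000` of the stabiliser `G0` of one of them.
-/

namespace Cfsg.Agent.Lib.Helper26.U35

open Cfsg Cfsg.Agent.Lib.Helper93.Leech Cfsg.Agent.Lib.Helper93.Golay
open Cfsg.Agent.Lib.Golay.LeechBasis Cfsg.Agent.Lib.Conway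
open Cfsg.Agent.Lib.Conway.HS (VH WH G2 mem_G2 facts)
open Cfsg.Agent.Lib.Helper26.CoTab
open Cfsg.Agent.Lib.Helper26.HSD (vhL whL VH_coe WH_coe vhL_length whL_length)

/-- the 352 minimal vectors attached to a pair -/
def S3 (v w : leechLattice) : Set leechLattice :=
  {x : leechLattice | sqNorm (x : Vec) = 32 ∧ dotInt (v : Vec) (x : Vec) = 16 ∧
    dotInt (w : Vec) (x : Vec) = -24}

theorem smul_mem_S3 {v w : leechLattice} {g : Co0} (hg : g ∈ G2 v w) {x : leechLattice}
    (hx : x ∈ S3 v w) : g • x ∈ S3 v w := by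
  obtain ⟨h1, h2⟩ := mem_G2.1 hg
  obtain ⟨hn, hv, hw⟩ := hx
  refine ⟨by rw [co0_norm]; exact hn, ?_, ?_⟩
  · have := co0_dot g v x
    rw [h1] at this
    rw [this]; exact hv
  · have := co0_dot g w x
    rw [h2] at this
    rw [this]; exact hw

/-! ### the 552 minimal vectors having scalar product `-24` with `WH` -/

theorem census_WH :
    {w : Vec | w ∈ leechLattice ∧ sqNorm w = 32 ∧ dotInt (WH : Vec) w = -24}.ncard = 552 := by
  have hneg : ∀ z : Vec, sqNorm (-z) = sqNorm z := fun z => by simp [sqNorm]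
  have e : ((-WH : leechLattice) : Vec) = -(WH : Vec) := rfl
  have hn : sqNorm ((-WH : leechLattice) : Vec) = 48 := by rw [e, hneg]; exact facts.2.1
  obtain ⟨g, hg⟩ := trans6 L5 (-WH) Cfsg.Agent.Lib.Helper26.McL.U0_norm hn
  have h := Cfsg.Agent.S1578.census
  rw [← Cfsg.Agent.Lib.Helper26.LeechDot.ncard_dot_congr g L5 32 24, hg] at h
  rw [← h]
  congr 1
  ext w
  simp only [Set.mem_setOf_eq, e]
  have hd : dotInt (-(WH : Vec)) w = -dotInt (WH : Vec) w := by
    simp [dotInt, Finset.sum_neg_distrib]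
  rw [hd]
  constructor <;> rintro ⟨h1, h2, h3⟩ <;> exact ⟨h1, h2, by omega⟩

set_option maxRecDepth 100000 in
theorem YW_props : ∀ l ∈ YW, l.length = 24 ∧
    LeechCond (vecOfList l) (vecOfList l (ptOf 0)) ∧ dotL l l = 32 ∧ dotL whL l = -24 := by
  decide +kernel

set_option maxRecDepth 100000 in
theorem YWc_chain : YWc.IsChain (· < ·) := by decide +kernel

set_option maxRecDepth 100000 in
theorem YWc_enc : ∀ c ∈ YWc, encV (decV c) = c := by decide +kernel

theorem YW_nodup : YW.Nodup := nodup_map_decV YWc (nodup_of_chain _ YWc_chain) YWc_enc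

theorem YW_length : YW.length = 552 := by decide +kernel

theorem YW_mem (l : List ℤ) (hl : l ∈ YW) : vecOfList l ∈ leechLattice :=
  mem_of_leechCond (YW_props l hl).2.1

theorem YWset_eq : {w : Vec | w ∈ leechLattice ∧ sqNorm w = 32 ∧ dotInt (WH : Vec) w = -24} =
    listSet YW := by
  apply eq_listSet
  · intro l hl
    obtain ⟨h1, h2, h3, h4⟩ := YW_props l hl
    refine ⟨mem_of_leechCond h2, ?_, ?_⟩
    · rw [sqNorm_vecOfList l h1, h3]
    · rw [WH_coe, dotInt_vecOfList _ _ whL_length, h4]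
  · rw [YW_length]; exact census_WH
  · exact fun l hl => (YW_props l hl).1
  · exact YW_nodup
  · rw [YW_length]; norm_num

/-! ### the 352 vectors -/

/-- those having scalar product `16` with `VH` -/
def SF : List (List ℤ) := YW.filter (fun l => dotL vhL l = 16)

set_option maxRecDepth 100000 in
theorem SF_length : SF.length = 352 := by decide +kernel

theorem SF_sub (l : List ℤ) (hl : l ∈ SF) : l ∈ YW ∧ dotL vhL l = 16 := by
  have := List.mem_filter.mp hl
  exact ⟨this.1, by simpa using this.2⟩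

theorem SF_nodup : SF.Nodup := YW_nodup.filter _

theorem SF_len (l : List ℤ) (hl : l ∈ SF) : l.length = 24 := (YW_props l (SF_sub l hl).1).1

theorem SF_mem (l : List ℤ) (hl : l ∈ SF) : vecOfList l ∈ leechLattice :=
  YW_mem l (SF_sub l hl).1

theorem mem_S3_iff (x : leechLattice) : x ∈ S3 VH WH ↔ (x : Vec) ∈ listSet SF := by
  constructor
  · rintro ⟨h1, h2, h3⟩
    have hY : (x : Vec) ∈
        {w : Vec | w ∈ leechLattice ∧ sqNorm w = 32 ∧ dotInt (WH : Vec) w = -24} := ⟨x.2, h1, h3⟩
    rw [YWset_eq] at hY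
    obtain ⟨l, hl, hlx⟩ := hY
    refine ⟨l, List.mem_filter.mpr ⟨hl, ?_⟩, hlx⟩
    rw [decide_eq_true_iff, ← dotInt_vecOfList _ _ vhL_length, ← VH_coe, hlx]
    exact h2
  · rintro ⟨l, hl, hlx⟩
    obtain ⟨hlY, hd⟩ := SF_sub l hl
    obtain ⟨h1, h2, h3, h4⟩ := YW_props l hlY
    refine ⟨?_, ?_, ?_⟩
    · rw [← hlx, sqNorm_vecOfList l h1, h3]
    · rw [← hlx, VH_coe, dotInt_vecOfList _ _ vhL_length, hd]
    · rw [← hlx, WH_coe, dotInt_vecOfList _ _ whL_length, h4]

theorem S3_eq : S3 VH WH = {x : leechLattice | (x : Vec) ∈ listSet SF} := by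
  ext x; exact mem_S3_iff x

theorem ncard_S3 : (S3 VH WH).ncard = 352 := by
  rw [S3_eq, ncard_subtype_listSet SF SF_mem SF_len SF_nodup, SF_length]

/-! ### transitivity -/

set_option maxRecDepth 100000 in
theorem tree352_ok : edgesOK [HSD.h1.Tt, HSD.h2.Tt] SB 1 edges352 = true := by decide +kernel

theorem edges352_length : edges352.length + 1 = SB.length := by decide +kernel

set_option maxRecDepth 100000 in
theorem SBc_nodup : SBc.Nodup := by decide +kernel

set_option maxRecDepth 100000 in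
theorem SBc_enc : ∀ c ∈ SBc, encV (decV c) = c := by decide +kernel

theorem SB_nodup : SB.Nodup := nodup_map_decV SBc SBc_nodup SBc_enc

theorem SB_length : SB.length = 352 := by decide +kernel

theorem SB_len (l : List ℤ) (hl : l ∈ SB) : l.length = 24 := by
  obtain ⟨c, _, rfl⟩ := List.mem_map.mp hl
  exact decV_length c

set_option maxRecDepth 100000 in
theorem SB_root : SB.getD 0 [] = x0L := by decide +kernel

theorem SB_root_mem : vecOfList (SB.getD 0 []) ∈ leechLattice := by
  rw [SB_root]; exact X0.2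

theorem root_eq : (⟨vecOfList (SB.getD 0 []), SB_root_mem⟩ : leechLattice) = X0 := by
  apply Subtype.ext
  show vecOfList (SB.getD 0 []) = _
  rw [SB_root]; rfl

set_option maxRecDepth 100000 in
theorem x0L_mem_SF : x0L ∈ SF := by decide +kernel

theorem X0_mem_S3 : X0 ∈ S3 VH WH := (mem_S3_iff X0).mpr ⟨x0L, x0L_mem_SF, rfl⟩

theorem reach_S3 : ∀ x ∈ S3 VH WH, ∃ g ∈ G2 VH WH, g • X0 = x := by
  have := tree_orbit (G2 VH WH) [HSD.h1.Tt, HSD.h2.Tt] SB edges352 HSD.gens_spec SB_len
    edges352_length SB_root_mem tree352_ok SB_nodup (S3 VH WH)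
    (fun g hg x hx => smul_mem_S3 hg hx) (by rw [root_eq]; exact X0_mem_S3) SF
    (fun x hx => (mem_S3_iff x).mp hx) SF_len SF_nodup (by rw [SF_length, SB_length])
  rw [root_eq] at this
  exact this

/-! ### the order of the stabiliser -/

theorem card_G2 : Nat.card (G2 VH WH) = 44352000 := (HS.isHS_std HSD.h83 HSD.h84).2

theorem card_G0 : Nat.card G0 = 126000 := by
  haveI := HS.finite_Co0
  have horb : MulAction.orbit (G2 VH WH) X0 = S3 VH WH := by
    ext x
    constructor
    · rintro ⟨g, rfl⟩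
      exact smul_mem_S3 g.2 X0_mem_S3
    · intro hx
      obtain ⟨g, hg, rfl⟩ := reach_S3 x hx
      exact ⟨⟨g, hg⟩, rfl⟩
  have hidx : (MulAction.stabilizer (G2 VH WH) X0).index = 352 := by
    rw [MulAction.index_stabilizer, horb, ncard_S3]
  have h3 : Nat.card (MulAction.stabilizer (G2 VH WH) X0) * 352 = 44352000 := by
    rw [← hidx, Subgroup.card_mul_index, card_G2]
  have e : MulAction.stabilizer (G2 VH WH) X0 ≃ G0 :=
    { toFun := fun g => ⟨g.1.1, mem_stab3.mpr
        ⟨(mem_G2.mp g.1.2).1, (mem_G2.mp g.1.2).2, MulAction.mem_stabilizer_iff.mp g.2⟩⟩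
      invFun := fun k => ⟨⟨k.1, mem_G2.mpr ⟨(mem_stab3.mp k.2).1, (mem_stab3.mp k.2).2.1⟩⟩,
        MulAction.mem_stabilizer_iff.mpr (mem_stab3.mp k.2).2.2⟩
      left_inv := fun g => rfl
      right_inv := fun k => rfl }
  rw [← Nat.card_congr e]
  have h4 : (44352000 : ℕ) = 126000 * 352 := by norm_num
  rw [h4] at h3
  exact Nat.eq_of_mul_eq_mul_right (by norm_num) h3

end Cfsg.Agent.Lib.Helper26.U35
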