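import Cfsg.Agent.Lib.Helper26.U35Frame
import Cfsg.Agent.Lib.Helper26.U35Set
import Cfsg.Agent.Lib.Helper26.U35Checks
import Cfsg.Agent.S0279
import Cfsg.Agent.S0280

set_option autoImplicit false
set_option linter.unusedSectionVars false

/-!
The stabiliser `G0` of a vector of the 352-set in the Higman-Sims group is isomorphic to `PSU_3(5)`:
the relation between elements of `SU_3(5)` and of `G0` acting compatibly on the 252 classes of
isotropic vectors modulo squares and on the 252 corresponding vectors of the lattice is the graph of a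
surjective homomorphism `SU_3(5) → G0` whose kernel is the centre.
-/

namespace Cfsg.Agent.Lib.Helper26.U35

open Matrix Cfsg Cfsg.Agent.Lib.Conway Cfsg.Agent.Lib.Helper5 F25c

variable {F : Type*} [Field F] [Fintype F]

/-- compatibility of a matrix and an automorphism -/
def Rel (hF : Fintype.card F = 25) (A : Cfsg.SU 3 F 5) (k : Co0) : Prop :=
  k ∈ G0 ∧ ∀ n < 252, ∃ m < 252, k • Yv n = Yv m ∧
    ∃ d : F, d ≠ 0 ∧ mat A *ᵥ Pv hF n = (d * d) • Pv hF m

theorem Pv_inj (hF : Fintype.card F = 25) {n m : ℕ} (hn : n < 252) (hm : m < 252) {d : F}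
    (hd : d ≠ 0) (h : Pv hF n = (d * d) • Pv hF m) : n = m := by
  obtain ⟨d', rfl⟩ := (phi hF).surjective d
  have hd' : d' ≠ 0 := by
    rintro rfl
    exact hd (map_zero _)
  unfold Pv at h
  rw [← map_mul, ← vecF_smul] at h
  exact PT_prop n hn m hm d' hd' (vecF_inj hF h)

theorem rel_one (hF : Fintype.card F = 25) : Rel hF 1 1 :=
  ⟨G0.one_mem, fun n hn => ⟨n, hn, one_smul _ _, 1, one_ne_zero, by
    rw [mat_one, Matrix.one_mulVec, mul_one, one_smul]⟩⟩

theorem rel_mul (hF : Fintype.card F = 25) {A A' : Cfsg.SU 3 F 5} {k k' : Co0}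
    (h : Rel hF A k) (h' : Rel hF A' k') : Rel hF (A * A') (k * k') := by
  refine ⟨G0.mul_mem h.1 h'.1, fun n hn => ?_⟩
  obtain ⟨m, hm, hk', c, hc, hA'⟩ := h'.2 n hn
  obtain ⟨l, hl, hk, d, hd, hA⟩ := h.2 m hm
  refine ⟨l, hl, by rw [mul_smul, hk', hk], c * d, mul_ne_zero hc hd, ?_⟩
  rw [mat_mul, ← Matrix.mulVec_mulVec, hA', Matrix.mulVec_smul, hA, smul_smul]
  congr 1
  ring

/-- the relation as a submonoid of the product -/
def RelM (hF : Fintype.card F = 25) : Submonoid (Cfsg.SU 3 F 5 × Co0) where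
  carrier := {p | Rel hF p.1 p.2}
  one_mem' := rel_one hF
  mul_mem' := fun h h' => rel_mul hF h h'

theorem inv_mem_of_submonoid {G : Type*} [Group G] [Finite G] (S : Submonoid G) {x : G}
    (hx : x ∈ S) : x⁻¹ ∈ S := by
  have hpos := orderOf_pos x
  have : x⁻¹ = x ^ (orderOf x - 1) := by
    apply inv_eq_of_mul_eq_one_right
    rw [← pow_succ', Nat.sub_add_cancel hpos, pow_orderOf_eq_one]
  rw [this]
  exact S.pow_mem hx _

theorem rel_inv (hF : Fintype.card F = 25) {A : Cfsg.SU 3 F 5} {k : Co0} (h : Rel hF A k) :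
    Rel hF A⁻¹ k⁻¹ := by
  have := HS.finite_Co0
  have : ((A, k) : Cfsg.SU 3 F 5 × Co0)⁻¹ ∈ RelM hF := inv_mem_of_submonoid (RelM hF) h
  exact this

/-- the matrices related to some automorphism -/
def D (hF : Fintype.card F = 25) : Subgroup (Cfsg.SU 3 F 5) where
  carrier := {A | ∃ k, Rel hF A k}
  one_mem' := ⟨1, rel_one hF⟩
  mul_mem' := fun ⟨k, h⟩ ⟨k', h'⟩ => ⟨k * k', rel_mul hF h h'⟩
  inv_mem' := fun ⟨k, h⟩ => ⟨k⁻¹, rel_inv hF h⟩

/-- the three explicit pairs -/
theorem rel_elt (hF : Fintype.card F = 25) (e : ℕ) :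
    Rel hF (mkG hF (ME e) (ME_good e)) (elt e) := by
  refine ⟨elt_mem e, fun n hn => ?_⟩
  obtain ⟨h1, h2, h3⟩ := relOK_spec e n hn
  obtain ⟨_, he⟩ := elt_Yv e n hn
  refine ⟨(piE e).getD n 0, h1, he, phi hF ((dsE e).getD n 0), phi_ne_zero hF h2, ?_⟩
  rw [mat_mkG]
  unfold Pv
  rw [matF_mulVec, h3, vecF_smul, map_mul]

theorem D_top (hF : Fintype.card F = 25) : D hF = ⊤ :=
  gen_top hF (D hF) ⟨elt 0, rel_elt hF 0⟩ ⟨elt 1, rel_elt hF 1⟩ ⟨elt 2, rel_elt hF 2⟩

theorem exists_rel (hF : Fintype.card F = 25) (A : Cfsg.SU 3 F 5) : ∃ k, Rel hF A k := by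
  have : A ∈ D hF := by rw [D_top hF]; trivial
  exact this

/-- an automorphism related to the identity matrix is trivial -/
theorem rel_one_left (hF : Fintype.card F = 25) {k : Co0} (h : Rel hF 1 k) : k = 1 := by
  apply rigid k h.1
  intro l hl
  obtain ⟨m, hm, hk, d, hd, hA⟩ := h.2 l hl
  rw [mat_one, Matrix.one_mulVec] at hA
  have : l = m := Pv_inj hF hl hm hd hA
  subst this
  exact hk

theorem rel_unique (hF : Fintype.card F = 25) {A : Cfsg.SU 3 F 5} {k k' : Co0}
    (h : Rel hF A k) (h' : Rel hF A k') : k = k' := by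
  have := rel_mul hF (rel_inv hF h) h'
  rw [inv_mul_cancel] at this
  have := rel_one_left hF this
  exact inv_mul_eq_one.mp this

/-- a matrix related to the trivial automorphism is central -/
theorem rel_right_one (hF : Fintype.card F = 25) {A : Cfsg.SU 3 F 5} (h : Rel hF A 1) :
    A ∈ Subgroup.center (Cfsg.SU 3 F 5) := by
  apply central_of_fix hF A
  intro n hn
  obtain ⟨m, hm, hk, d, hd, hA⟩ := h.2 n hn
  rw [one_smul] at hk
  have : n = m := Yv_inj hn hm hk
  subst this
  exact ⟨d * d, hA⟩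

/-- the homomorphism -/
noncomputable def theta (hF : Fintype.card F = 25) : Cfsg.SU 3 F 5 →* G0 where
  toFun A := ⟨Classical.choose (exists_rel hF A), (Classical.choose_spec (exists_rel hF A)).1⟩
  map_one' := Subtype.ext (rel_unique hF (Classical.choose_spec (exists_rel hF 1)) (rel_one hF))
  map_mul' A B := Subtype.ext (rel_unique hF (Classical.choose_spec (exists_rel hF (A * B)))
    (rel_mul hF (Classical.choose_spec (exists_rel hF A)) (Classical.choose_spec (exists_rel hF B))))

theorem theta_spec (hF : Fintype.card F = 25) (A : Cfsg.SU 3 F 5) :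
    Rel hF A ((theta hF A : G0) : Co0) :=
  Classical.choose_spec (exists_rel hF A)

theorem ker_le_center (hF : Fintype.card F = 25) :
    (theta hF).ker ≤ Subgroup.center (Cfsg.SU 3 F 5) := by
  intro A hA
  rw [MonoidHom.mem_ker] at hA
  have h := theta_spec hF A
  rw [hA] at h
  exact rel_right_one hF h

/-! ### orders -/

theorem card_center (hF : Fintype.card F = 25) :
    Nat.card (Subgroup.center (Cfsg.SU 3 F 5)) = 3 := by
  have := Cfsg.Agent.S0279.result (card_sq hF) 3 (by norm_num)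
  rw [this]
  rfl

theorem card_PSU (hF : Fintype.card F = 25) : Nat.card (Cfsg.PSU 3 F 5) = 126000 := by
  have h := Cfsg.Agent.S0280.result (card_sq hF) 3 (by norm_num)
  have h2 : (∏ i ∈ Finset.range 3, (if Even i then 5 ^ (i + 1) + 1 else 5 ^ (i + 1) - 1) : ℕ)
      = 18144 := by decide
  rw [h2] at h
  have h3 : Nat.gcd 3 (5 + 1) = 3 := rfl
  rw [h3] at h
  omega

theorem card_SU (hF : Fintype.card F = 25) : Nat.card (Cfsg.SU 3 F 5) = 378000 := by
  rw [Subgroup.card_eq_card_quotient_mul_card_subgroup (Subgroup.center (Cfsg.SU 3 F 5)),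
    card_center hF, card_PSU hF]

/-- the stabiliser of the standard triple is `PSU_3(5)` -/
theorem iso_G0 (hF : Fintype.card F = 25) : Nonempty (G0 ≃* Cfsg.PSU 3 F 5) := by
  have := HS.finite_Co0
  have hker := ker_le_center hF
  have h1 := Subgroup.card_eq_card_quotient_mul_card_subgroup (theta hF).ker
  have h2 : Nat.card (Cfsg.SU 3 F 5 ⧸ (theta hF).ker) = Nat.card (theta hF).range :=
    Nat.card_congr (QuotientGroup.quotientKerEquivRange (theta hF)).toEquiv
  have h3 : Nat.card (theta hF).range ≤ 126000 :=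
    le_trans (Subgroup.card_le_card_group _) (le_of_eq card_G0)
  have h4 : Nat.card (theta hF).ker ≤ 3 :=
    le_trans (Subgroup.card_le_of_le hker) (le_of_eq (card_center hF))
  rw [card_SU hF, h2] at h1
  have h5 : Nat.card (theta hF).ker = 3 ∧ Nat.card (theta hF).range = 126000 := by
    constructor <;> nlinarith
  have hkc : (theta hF).ker = Subgroup.center (Cfsg.SU 3 F 5) :=
    Subgroup.eq_of_le_of_card_ge hker (by rw [card_center hF, h5.1])
  have hsurj : Function.Surjective (theta hF) := by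
    rw [← MonoidHom.range_eq_top]
    exact Subgroup.eq_top_of_card_eq _ (by rw [h5.2, card_G0])
  exact ⟨((QuotientGroup.quotientMulEquivOfEq hkc.symm).trans
    (QuotientGroup.quotientKerEquivOfSurjective (theta hF) hsurj)).symm⟩

end Cfsg.Agent.Lib.Helper26.U35
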