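import Cfsg.Agent.Lib.Helper26.U43Mat
import Cfsg.Agent.Lib.Helper5.SUCard

set_option autoImplicit false
set_option linter.unusedSectionVars false

/-!
Transport of the concrete vectors and matrices over the field with nine elements to an arbitrary
field with nine elements, and elements of `SU_4(3)` from concrete unitary matrices.
-/

namespace Cfsg.Agent.Lib.Helper26.U43

open Matrix Cfsg.Agent.Lib.Helper5

variable {F : Type*} [Field F] [Fintype F]

/-- the isomorphism from the concrete field -/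
noncomputable def phi (hF : Fintype.card F = 9) : F9c ≃+* F :=
  FiniteField.ringEquivOfCardEq (by rw [hF, F9c.card_eq])

omit [Field F] in
theorem card_sq (hF : Fintype.card F = 9) : Fintype.card F = 3 ^ 2 := by rw [hF]; rfl

/-- a concrete vector as a vector over `F` -/
noncomputable def vecF (hF : Fintype.card F = 9) (x : V4) : Fin 4 → F :=
  ![phi hF x.a, phi hF x.b, phi hF x.c, phi hF x.d]

/-- a concrete matrix as a matrix over `F` -/
noncomputable def matF (hF : Fintype.card F = 9) (x : M4) : Matrix (Fin 4) (Fin 4) F :=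
  !![phi hF x.r0.a, phi hF x.r0.b, phi hF x.r0.c, phi hF x.r0.d;
     phi hF x.r1.a, phi hF x.r1.b, phi hF x.r1.c, phi hF x.r1.d;
     phi hF x.r2.a, phi hF x.r2.b, phi hF x.r2.c, phi hF x.r2.d;
     phi hF x.r3.a, phi hF x.r3.b, phi hF x.r3.c, phi hF x.r3.d]

theorem vecF_smul (hF : Fintype.card F = 9) (k : F9c) (x : V4) :
    vecF hF (V4.smul k x) = phi hF k • vecF hF x := by
  ext i
  fin_cases i <;> simp [vecF, V4.smul]

theorem vecF_zero (hF : Fintype.card F = 9) : vecF hF V4.zero = 0 := by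
  ext i
  fin_cases i <;> simp [vecF, V4.zero]

theorem vecF_inj (hF : Fintype.card F = 9) {x y : V4} (h : vecF hF x = vecF hF y) : x = y := by
  have e := fun i => congrFun h i
  have h0 := e 0
  have h1 := e 1
  have h2 := e 2
  have h3 := e 3
  simp [vecF] at h0 h1 h2 h3
  cases x; cases y
  simp_all

theorem vecF_surj (hF : Fintype.card F = 9) (w : Fin 4 → F) : ∃ x : V4, vecF hF x = w := by
  refine ⟨⟨(phi hF).symm (w 0), (phi hF).symm (w 1), (phi hF).symm (w 2), (phi hF).symm (w 3)⟩, ?_⟩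
  ext i
  fin_cases i <;> simp [vecF]

theorem matF_mulVec (hF : Fintype.card F = 9) (M : M4) (x : V4) :
    matF hF M *ᵥ vecF hF x = vecF hF (M.mv x) := by
  ext i
  fin_cases i <;>
    simp [matF, vecF, M4.mv, V4.dot, Matrix.mulVec, dotProduct, Fin.sum_univ_four]

theorem matF_mul (hF : Fintype.card F = 9) (x y : M4) :
    matF hF (x.mul y) = matF hF x * matF hF y := by
  ext a b
  fin_cases a <;> fin_cases b <;>
    simp [matF, M4.mul, M4.rowMul, M4.col0, M4.col1, M4.col2, M4.col3, V4.dot, Matrix.mul_apply,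
      Fin.sum_univ_four]

theorem matF_one (hF : Fintype.card F = 9) : matF hF M4.one = 1 := by
  ext a b
  fin_cases a <;> fin_cases b <;> simp [matF, M4.one]

theorem matF_tr (hF : Fintype.card F = 9) (x : M4) : matF hF x.tr = (matF hF x)ᵀ := by
  ext a b
  fin_cases a <;> fin_cases b <;>
    simp [matF, M4.tr, M4.col0, M4.col1, M4.col2, M4.col3]

theorem phi_cj (hF : Fintype.card F = 9) (x : F9c) : phi hF (F9c.cj x) = (phi hF x) ^ 3 := by
  rw [F9c.cj_eq_pow, map_pow]

theorem matF_cj (hF : Fintype.card F = 9) (x : M4) :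
    matF hF x.cjm = (matF hF x).map (frobQ (card_sq hF)) := by
  ext a b
  fin_cases a <;> fin_cases b <;>
    simp [matF, M4.cjm, V4.cjv, frobQ_apply, phi_cj]

theorem det_fin_four_of {R : Type*} [CommRing R] (a b c d e f g h i j k l m n o p : R) :
    (!![a,b,c,d; e,f,g,h; i,j,k,l; m,n,o,p] : Matrix (Fin 4) (Fin 4) R).det =
      a * (f * (k * p - l * o) - g * (j * p - l * n) + h * (j * o - k * n))
      - b * (e * (k * p - l * o) - g * (i * p - l * m) + h * (i * o - k * m))
      + c * (e * (j * p - l * n) - f * (i * p - l * m) + h * (i * n - j * m))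
      - d * (e * (j * o - k * n) - f * (i * o - k * m) + g * (i * n - j * m)) := by
  rw [Matrix.det_succ_row_zero]
  simp [Fin.sum_univ_succ, Matrix.det_fin_three, Fin.succAbove, Matrix.submatrix, Matrix.of_apply]
  ring

theorem det_matF (hF : Fintype.card F = 9) (x : M4) : (matF hF x).det = phi hF x.det := by
  obtain ⟨⟨a, b, c, d⟩, ⟨e, f, g, h⟩, ⟨i, j, k, l⟩, ⟨m, n, o, p⟩⟩ := x
  rw [matF, det_fin_four_of]
  simp [M4.det]

theorem hermForm_eq_dot (hF : Fintype.card F = 9) (u v : Fin 4 → F) :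
    Cfsg.hermForm 4 F 3 u v = u ⬝ᵥ (frobQ (card_sq hF) ∘ v) := rfl

theorem hermForm_vecF (hF : Fintype.card F = 9) (x y : V4) :
    Cfsg.hermForm 4 F 3 (vecF hF x) (vecF hF y) = phi hF (V4.herm x y) := by
  unfold Cfsg.hermForm
  simp [Fin.sum_univ_four, vecF, V4.herm, V4.dot, V4.cjv, phi_cj]

theorem isHermIso_of_transpose_mul_map (hF : Fintype.card F = 9) (A : Matrix (Fin 4) (Fin 4) F)
    (h : Aᵀ * A.map (frobQ (card_sq hF)) = 1) : IsHermIso 4 F 3 A := by
  intro u v
  rw [hermForm_eq_dot hF, hermForm_eq_dot hF]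
  have h1 : (frobQ (card_sq hF)) ∘ (A *ᵥ v) =
      A.map (frobQ (card_sq hF)) *ᵥ ((frobQ (card_sq hF)) ∘ v) :=
    funext (RingHom.map_mulVec (frobQ (card_sq hF)) A v)
  rw [h1, Matrix.dotProduct_mulVec, Matrix.vecMul_mulVec, h, Matrix.vecMul_one]

/-- the matrix of an element of `SU_4(3)` -/
def mat (g : Cfsg.SU 4 F 3) : Matrix (Fin 4) (Fin 4) F := g.1.1

theorem mat_mul (g h : Cfsg.SU 4 F 3) : mat (g * h) = mat g * mat h := rfl

theorem mat_one : mat (1 : Cfsg.SU 4 F 3) = 1 := rfl

theorem mat_inj {g h : Cfsg.SU 4 F 3} (e : mat g = mat h) : g = h :=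
  Subtype.ext (Subtype.ext e)

theorem mem_SU_iff (g : SpecialLinearGroup (Fin 4) F) :
    g ∈ Cfsg.SU 4 F 3 ↔ IsHermIso 4 F 3 g.1 := Iff.rfl

theorem isHermIso_mat (g : Cfsg.SU 4 F 3) : IsHermIso 4 F 3 (mat g) := (mem_SU_iff g.1).mp g.2

theorem det_mat (g : Cfsg.SU 4 F 3) : (mat g).det = 1 := g.1.2

/-- the element of `SU_4(3)` with a given concrete matrix -/
noncomputable def mkG (hF : Fintype.card F = 9) (x : M4) (hx : x.Good) : Cfsg.SU 4 F 3 :=
  ⟨⟨matF hF x, by rw [det_matF, hx.1, map_one]⟩, by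
    apply (mem_SU_iff _).mpr
    apply isHermIso_of_transpose_mul_map hF
    rw [← matF_tr, ← matF_cj, ← matF_mul, hx.2, matF_one]⟩

theorem mat_mkG (hF : Fintype.card F = 9) (x : M4) (hx : x.Good) :
    mat (mkG hF x hx) = matF hF x := rfl

end Cfsg.Agent.Lib.Helper26.U43
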