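import Cfsg.Agent.Lib.Helper26.U43Leech

set_option autoImplicit false

/-!
The order of the point stabiliser `K0` of the McLaughlin group, and conjugation of stabilisers of
triples.
-/

namespace Cfsg.Agent.Lib.Helper26.U43

open Cfsg Cfsg.Agent.Lib.Helper93.Leech Cfsg.Agent.Lib.Helper93.Golay
open Cfsg.Agent.Lib.Golay.LeechBasis Cfsg.Agent.Lib.Conway
open Cfsg.Agent.Lib.Helper26.CoTab

/-- the stabiliser of a triple -/
def stab3 (u v x : leechLattice) : Subgroup Co0 :=
  MulAction.stabilizer Co0 u ⊓ MulAction.stabilizer Co0 v ⊓ MulAction.stabilizer Co0 x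

theorem mem_stab3 {u v x : leechLattice} {k : Co0} :
    k ∈ stab3 u v x ↔ k • u = u ∧ k • v = v ∧ k • x = x := by
  simp [stab3, Subgroup.mem_inf, MulAction.mem_stabilizer_iff, and_assoc]

theorem conj_mem_iff (g : Co0) {u v x u' v' x' : leechLattice} (hu : g • u = u') (hv : g • v = v')
    (hx : g • x = x') (k : Co0) : k ∈ stab3 u v x ↔ g * k * g⁻¹ ∈ stab3 u' v' x' := by
  have key : ∀ {y y' : leechLattice}, g • y = y' → ((g * k * g⁻¹) • y' = y' ↔ k • y = y) := by
    intro y y' hy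
    rw [mul_smul, mul_smul, ← hy, inv_smul_smul]
    exact ⟨fun h => MulAction.injective g h, fun h => by rw [h]⟩
  rw [mem_stab3, mem_stab3, key hu, key hv, key hx]

/-- conjugate triples have isomorphic stabilisers -/
noncomputable def stab3Equiv (g : Co0) {u v x u' v' x' : leechLattice} (hu : g • u = u')
    (hv : g • v = v') (hx : g • x = x') : stab3 u v x ≃* stab3 u' v' x' :=
  Cfsg.Agent.Lib.Helper27.McLS.conjEquiv g _ _ (conj_mem_iff g hu hv hx)

theorem K0_eq : McL.K0 = stab3 McL.U0 McL.V0 McL.R0 := rfl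

theorem KX_eq : Cfsg.Agent.Lib.Helper27.McL.KX =
    stab3 Cfsg.Agent.Lib.Helper27.McL.U0 Cfsg.Agent.Lib.Helper27.McL.V0
      Cfsg.Agent.Lib.Helper27.McL.X0 := rfl

open Cfsg.Agent.Lib.Helper27.McLS in
theorem card_KX : Nat.card Cfsg.Agent.Lib.Helper27.McL.KX = 3265920 := by
  have h1 := index275
  have h2 := card_K
  have h3 : Nat.card (MulAction.stabilizer Cfsg.Agent.Lib.Helper27.McL.K x0) * 275 = 898128000 := by
    rw [← h1, Subgroup.card_mul_index, h2]
  have e : MulAction.stabilizer Cfsg.Agent.Lib.Helper27.McL.K x0 ≃ Cfsg.Agent.Lib.Helper27.McL.KX :=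
    { toFun := fun g => ⟨g.1.1, (mem_stab_x0 g.1).mp g.2⟩
      invFun := fun k => ⟨⟨k.1, (Subgroup.mem_inf.mp k.2).1⟩, (mem_stab_x0 _).mpr k.2⟩
      left_inv := fun g => rfl
      right_inv := fun k => rfl }
  rw [← Nat.card_congr e]
  have h4 : (898128000 : ℕ) = 3265920 * 275 := by norm_num
  rw [h4] at h3
  exact Nat.eq_of_mul_eq_mul_right (by norm_num) h3

theorem dot_U0_V0 : dotInt (McL.U0 : Vec) (McL.V0 : Vec) = 24 := by
  rw [McL.U0_coe, McL.V0_coe, dotInt_vecOfList _ _ McL.u0L_length]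
  decide +kernel

theorem UV0_norm : sqNorm ((McL.U0 - McL.V0 : leechLattice) : Vec) = 32 := by
  rw [AddSubgroup.coe_sub, McL.sqNorm_sub, McL.U0_norm, McL.V0_norm, dot_U0_V0]
  norm_num

/-- the standard triple of this development is conjugate to the other standard triple -/
theorem exists_to_KX : ∃ g : Co0, g • McL.U0 = Cfsg.Agent.Lib.Helper27.McL.U0 ∧
    g • McL.V0 = Cfsg.Agent.Lib.Helper27.McL.V0 ∧ g • McL.R0 = Cfsg.Agent.Lib.Helper27.McL.X0 :=
  Cfsg.Agent.Lib.Helper27.McL.exists_to_std3 McL.U0 McL.V0 McL.R0 McL.U0_norm McL.V0_norm UV0_norm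
    McL.R0_mem

theorem card_K0 : Nat.card McL.K0 = 3265920 := by
  obtain ⟨g, hu, hv, hx⟩ := exists_to_KX
  rw [K0_eq, Nat.card_congr (stab3Equiv g hu hv hx).toEquiv, ← KX_eq, card_KX]

end Cfsg.Agent.Lib.Helper26.U43
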