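import Cfsg.Agent.Lib.Helper26.U43Mat
import Cfsg.Agent.Lib.Helper26.CoList

/-! Data for the identification of the point stabiliser of the McLaughlin group with `PSU_4(3)`
(generated by scratch/u43/gen_data.py): the 280 isotropic points of the hermitian space in an order
of a spanning tree, the four totally isotropic lines through each of them as indices into the list
`AB` of the 112 vectors, the matrices corresponding to `k1`, `k2` and a further automorphism `kT`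
corresponding to a transvection, and the tables of their actions. -/

set_option autoImplicit false

namespace Cfsg.Agent.Lib.Helper26.U43

open F9c Cfsg.Agent.Lib.Helper26.CoTab

/-- the isotropic points -/
def PT : List V4 :=
  [⟨e0, e0, e3, e4⟩, ⟨e3, e5, e5, e6⟩, ⟨e0, e0, e3, e5⟩, ⟨e3, e6, e0, e2⟩, ⟨e3, e8, e0, e0⟩, ⟨e3, e5, e2, e8⟩,
  ⟨e3, e4, e5, e2⟩, ⟨e3, e3, e3, e0⟩, ⟨e3, e8, e2, e7⟩, ⟨e0, e3, e2, e6⟩, ⟨e3, e4, e0, e0⟩, ⟨e3, e6, e3, e0⟩,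
  ⟨e0, e3, e0, e4⟩, ⟨e3, e5, e8, e6⟩, ⟨e3, e8, e4, e3⟩, ⟨e0, e3, e6, e6⟩, ⟨e3, e6, e4, e7⟩, ⟨e3, e4, e3, e5⟩,
  ⟨e3, e4, e5, e3⟩, ⟨e3, e2, e8, e7⟩, ⟨e3, e8, e8, e1⟩, ⟨e3, e5, e0, e0⟩, ⟨e3, e5, e3, e5⟩, ⟨e3, e3, e0, e2⟩,
  ⟨e3, e7, e4, e3⟩, ⟨e3, e8, e2, e8⟩, ⟨e3, e8, e6, e5⟩, ⟨e3, e2, e7, e8⟩, ⟨e3, e3, e7, e5⟩, ⟨e3, e3, e1, e0⟩,
  ⟨e3, e0, e1, e2⟩, ⟨e0, e3, e0, e5⟩, ⟨e3, e7, e2, e5⟩, ⟨e3, e5, e8, e3⟩, ⟨e3, e0, e1, e6⟩, ⟨e3, e5, e4, e1⟩,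
  ⟨e0, e3, e8, e0⟩, ⟨e0, e3, e6, e1⟩, ⟨e3, e7, e1, e8⟩, ⟨e3, e3, e8, e8⟩, ⟨e3, e1, e7, e4⟩, ⟨e3, e8, e5, e1⟩,
  ⟨e3, e2, e8, e5⟩, ⟨e0, e3, e2, e1⟩, ⟨e3, e5, e6, e8⟩, ⟨e0, e3, e1, e1⟩, ⟨e3, e2, e8, e8⟩, ⟨e3, e8, e1, e5⟩,
  ⟨e3, e4, e4, e3⟩, ⟨e3, e7, e3, e8⟩, ⟨e3, e4, e8, e1⟩, ⟨e3, e4, e2, e5⟩, ⟨e0, e3, e2, e2⟩, ⟨e3, e1, e0, e2⟩,
  ⟨e3, e5, e5, e2⟩, ⟨e3, e7, e2, e7⟩, ⟨e3, e0, e3, e3⟩, ⟨e3, e4, e3, e4⟩, ⟨e0, e3, e2, e3⟩, ⟨e3, e7, e1, e7⟩,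
  ⟨e3, e7, e6, e7⟩, ⟨e3, e8, e5, e2⟩, ⟨e3, e6, e5, e8⟩, ⟨e3, e0, e8, e0⟩, ⟨e3, e7, e3, e4⟩, ⟨e3, e7, e4, e2⟩,
  ⟨e3, e0, e0, e5⟩, ⟨e3, e3, e8, e7⟩, ⟨e3, e4, e1, e4⟩, ⟨e3, e6, e7, e8⟩, ⟨e3, e7, e3, e5⟩, ⟨e3, e8, e6, e8⟩,
  ⟨e3, e0, e6, e1⟩, ⟨e3, e8, e4, e1⟩, ⟨e3, e0, e3, e1⟩, ⟨e0, e0, e3, e7⟩, ⟨e3, e4, e1, e8⟩, ⟨e3, e2, e4, e5⟩,
  ⟨e3, e3, e0, e6⟩, ⟨e3, e3, e2, e0⟩, ⟨e3, e8, e8, e3⟩, ⟨e3, e8, e6, e4⟩, ⟨e3, e5, e4, e2⟩, ⟨e3, e7, e7, e6⟩,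
  ⟨e3, e5, e2, e7⟩, ⟨e3, e3, e0, e3⟩, ⟨e3, e4, e8, e2⟩, ⟨e3, e5, e4, e3⟩, ⟨e3, e2, e5, e4⟩, ⟨e3, e8, e3, e7⟩,
  ⟨e3, e2, e6, e0⟩, ⟨e3, e5, e8, e1⟩, ⟨e3, e5, e3, e4⟩, ⟨e3, e5, e5, e1⟩, ⟨e3, e4, e5, e6⟩, ⟨e3, e1, e4, e5⟩,
  ⟨e3, e8, e2, e4⟩, ⟨e3, e1, e0, e3⟩, ⟨e3, e6, e4, e4⟩, ⟨e3, e1, e1, e0⟩, ⟨e3, e4, e7, e2⟩, ⟨e0, e3, e3, e3⟩,
  ⟨e3, e5, e6, e7⟩, ⟨e3, e7, e6, e4⟩, ⟨e3, e0, e5, e0⟩, ⟨e3, e7, e4, e6⟩, ⟨e0, e3, e7, e0⟩, ⟨e3, e2, e8, e4⟩,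
  ⟨e3, e4, e4, e2⟩, ⟨e0, e3, e3, e2⟩, ⟨e3, e8, e7, e1⟩, ⟨e3, e6, e4, e8⟩, ⟨e3, e7, e5, e3⟩, ⟨e3, e7, e7, e2⟩,
  ⟨e3, e1, e5, e7⟩, ⟨e3, e7, e0, e0⟩, ⟨e3, e4, e6, e5⟩, ⟨e3, e1, e8, e4⟩, ⟨e3, e8, e7, e2⟩, ⟨e3, e5, e3, e8⟩,
  ⟨e3, e1, e8, e8⟩, ⟨e3, e6, e0, e6⟩, ⟨e3, e0, e6, e2⟩, ⟨e3, e2, e7, e4⟩, ⟨e3, e7, e5, e2⟩, ⟨e3, e4, e4, e1⟩,
  ⟨e3, e0, e6, e6⟩, ⟨e3, e6, e8, e8⟩, ⟨e3, e5, e7, e1⟩, ⟨e3, e4, e6, e8⟩, ⟨e3, e5, e6, e5⟩, ⟨e3, e0, e2, e1⟩,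
  ⟨e3, e3, e7, e4⟩, ⟨e3, e6, e0, e3⟩, ⟨e3, e1, e7, e7⟩, ⟨e3, e1, e4, e7⟩, ⟨e3, e1, e6, e0⟩, ⟨e3, e4, e3, e7⟩,
  ⟨e3, e4, e2, e7⟩, ⟨e3, e2, e4, e7⟩, ⟨e3, e8, e1, e4⟩, ⟨e3, e0, e2, e2⟩, ⟨e3, e5, e7, e3⟩, ⟨e3, e7, e8, e6⟩,
  ⟨e3, e4, e7, e6⟩, ⟨e3, e2, e2, e0⟩, ⟨e3, e4, e4, e6⟩, ⟨e3, e0, e2, e3⟩, ⟨e3, e2, e0, e3⟩, ⟨e3, e2, e1, e0⟩,
  ⟨e3, e4, e8, e3⟩, ⟨e3, e8, e6, e7⟩, ⟨e3, e7, e6, e5⟩, ⟨e3, e2, e5, e5⟩, ⟨e3, e1, e5, e5⟩, ⟨e3, e4, e7, e3⟩,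
  ⟨e3, e7, e8, e1⟩, ⟨e3, e4, e1, e5⟩, ⟨e3, e7, e8, e2⟩, ⟨e3, e1, e2, e0⟩, ⟨e0, e3, e3, e1⟩, ⟨e3, e4, e1, e7⟩,
  ⟨e3, e3, e8, e5⟩, ⟨e3, e1, e4, e4⟩, ⟨e3, e4, e3, e8⟩, ⟨e3, e8, e5, e6⟩, ⟨e3, e6, e5, e4⟩, ⟨e3, e5, e1, e7⟩,
  ⟨e3, e5, e7, e2⟩, ⟨e3, e1, e8, e7⟩, ⟨e3, e6, e8, e5⟩, ⟨e3, e8, e8, e6⟩, ⟨e3, e0, e6, e3⟩, ⟨e3, e7, e1, e5⟩,
  ⟨e3, e8, e1, e8⟩, ⟨e3, e7, e2, e8⟩, ⟨e3, e8, e1, e7⟩, ⟨e3, e0, e0, e7⟩, ⟨e3, e7, e7, e3⟩, ⟨e3, e4, e7, e1⟩,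
  ⟨e0, e3, e4, e0⟩, ⟨e3, e4, e6, e7⟩, ⟨e3, e3, e4, e5⟩, ⟨e3, e6, e4, e5⟩, ⟨e3, e8, e8, e2⟩, ⟨e3, e1, e4, e8⟩,
  ⟨e0, e0, e3, e8⟩, ⟨e3, e6, e6, e0⟩, ⟨e3, e7, e7, e1⟩, ⟨e3, e7, e6, e8⟩, ⟨e3, e6, e5, e5⟩, ⟨e3, e6, e7, e7⟩,
  ⟨e3, e1, e0, e6⟩, ⟨e3, e0, e1, e3⟩, ⟨e3, e6, e0, e1⟩, ⟨e3, e3, e4, e7⟩, ⟨e3, e2, e0, e2⟩, ⟨e3, e2, e0, e6⟩,
  ⟨e0, e3, e3, e6⟩, ⟨e3, e5, e7, e6⟩, ⟨e3, e8, e2, e5⟩, ⟨e3, e8, e5, e3⟩, ⟨e0, e3, e1, e2⟩, ⟨e3, e0, e0, e8⟩,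
  ⟨e3, e5, e5, e3⟩, ⟨e3, e7, e8, e3⟩, ⟨e3, e6, e7, e5⟩, ⟨e3, e5, e4, e6⟩, ⟨e3, e3, e5, e7⟩, ⟨e3, e8, e3, e8⟩,
  ⟨e3, e2, e5, e7⟩, ⟨e0, e3, e5, e0⟩, ⟨e3, e5, e1, e4⟩, ⟨e3, e7, e1, e4⟩, ⟨e3, e5, e1, e5⟩, ⟨e3, e2, e0, e1⟩,
  ⟨e3, e6, e5, e7⟩, ⟨e3, e7, e5, e6⟩, ⟨e3, e5, e2, e5⟩, ⟨e3, e3, e5, e5⟩, ⟨e3, e2, e7, e5⟩, ⟨e3, e8, e3, e4⟩,
  ⟨e3, e6, e8, e7⟩, ⟨e3, e8, e4, e6⟩, ⟨e3, e7, e4, e1⟩, ⟨e3, e3, e5, e4⟩, ⟨e3, e1, e5, e8⟩, ⟨e3, e2, e4, e4⟩,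
  ⟨e3, e0, e4, e0⟩, ⟨e0, e3, e6, e3⟩, ⟨e0, e3, e1, e3⟩, ⟨e3, e3, e7, e8⟩, ⟨e3, e1, e0, e1⟩, ⟨e3, e5, e3, e7⟩,
  ⟨e0, e3, e1, e6⟩, ⟨e3, e0, e2, e6⟩, ⟨e0, e3, e0, e8⟩, ⟨e3, e5, e6, e4⟩, ⟨e3, e2, e5, e8⟩, ⟨e3, e3, e8, e4⟩,
  ⟨e3, e2, e3, e0⟩, ⟨e3, e3, e4, e8⟩, ⟨e3, e6, e8, e4⟩, ⟨e3, e1, e7, e8⟩, ⟨e3, e4, e2, e8⟩, ⟨e3, e6, e2, e0⟩,
  ⟨e0, e3, e6, e2⟩, ⟨e3, e8, e7, e6⟩, ⟨e3, e1, e7, e5⟩, ⟨e3, e0, e0, e4⟩, ⟨e3, e1, e8, e5⟩, ⟨e3, e2, e7, e7⟩,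
  ⟨e3, e7, e2, e4⟩, ⟨e3, e1, e3, e0⟩, ⟨e3, e4, e2, e4⟩, ⟨e3, e7, e5, e1⟩, ⟨e3, e0, e1, e1⟩, ⟨e3, e8, e3, e5⟩,
  ⟨e3, e4, e5, e1⟩, ⟨e3, e0, e3, e2⟩, ⟨e3, e3, e7, e7⟩, ⟨e3, e3, e4, e4⟩, ⟨e3, e3, e6, e0⟩, ⟨e3, e1, e5, e4⟩,
  ⟨e3, e8, e4, e2⟩, ⟨e3, e0, e3, e6⟩, ⟨e3, e3, e0, e1⟩, ⟨e3, e0, e7, e0⟩, ⟨e3, e8, e7, e3⟩, ⟨e3, e4, e6, e4⟩,
  ⟨e3, e6, e1, e0⟩, ⟨e3, e2, e4, e8⟩, ⟨e3, e3, e5, e8⟩, ⟨e0, e3, e0, e7⟩, ⟨e3, e5, e1, e8⟩, ⟨e3, e4, e8, e6⟩,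
  ⟨e3, e6, e7, e4⟩, ⟨e3, e5, e8, e2⟩, ⟨e3, e7, e3, e7⟩, ⟨e3, e5, e2, e4⟩]

/-- the lines through the points -/
def QT : List (List ℕ) :=
  [[0, 1, 55, 102], [1, 3, 6, 108], [2, 4, 85, 101], [3, 7, 13, 67], [4, 8, 14, 102], [2, 5, 9, 59], [6, 10, 15, 94], [7, 15, 27, 97],
  [8, 16, 28, 72], [9, 17, 29, 108], [0, 10, 18, 101], [5, 11, 19, 87], [6, 12, 20, 88], [13, 20, 21, 30], [14, 22, 31, 108], [15, 24, 30, 48],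
  [16, 31, 49, 56], [17, 32, 50, 101], [7, 18, 51, 78], [19, 33, 52, 67], [17, 20, 53, 102], [1, 2, 21, 34], [2, 22, 35, 94], [11, 22, 23, 36],
  [12, 24, 37, 87], [4, 13, 25, 38], [14, 26, 32, 80], [27, 38, 39, 54], [28, 32, 39, 40], [26, 29, 41, 67], [30, 44, 54, 78], [31, 39, 45, 79],
  [7, 55, 61, 64], [2, 33, 56, 81], [17, 57, 58, 94], [15, 31, 34, 99], [16, 35, 38, 82], [36, 58, 83, 97], [37, 59, 68, 72], [33, 38, 84, 108],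
  [3, 5, 39, 60], [4, 6, 19, 40], [5, 20, 41, 61], [23, 41, 42, 62], [1, 24, 43, 63], [22, 25, 44, 64], [26, 45, 65, 87], [8, 9, 27, 66],
  [10, 28, 46, 67], [29, 47, 56, 63], [0, 33, 42, 57], [0, 48, 66, 68], [49, 54, 67, 69], [50, 56, 68, 70], [21, 51, 57, 69], [47, 52, 53, 97],
  [42, 53, 71, 72], [0, 54, 73, 99], [26, 43, 68, 74], [55, 69, 75, 81], [16, 44, 85, 95], [5, 14, 58, 105], [6, 59, 64, 77], [20, 33, 45, 86],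
  [26, 30, 55, 60], [19, 31, 55, 83], [32, 35, 61, 66], [16, 24, 62, 86], [64, 82, 87, 101], [62, 65, 78, 88], [58, 66, 67, 85], [59, 67, 102, 106],
  [7, 11, 68, 89], [8, 12, 69, 90], [9, 13, 36, 70], [10, 14, 21, 37], [10, 11, 38, 53], [12, 32, 44, 71], [5, 43, 71, 91], [3, 44, 57, 92],
  [4, 23, 45, 93], [8, 41, 73, 94], [1, 27, 46, 95], [22, 47, 74, 96], [34, 42, 75, 87], [17, 19, 48, 90], [18, 20, 49, 92], [21, 50, 76, 97],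
  [22, 51, 60, 72], [14, 52, 77, 92], [53, 64, 70, 93], [1, 45, 58, 72], [1, 78, 82, 90], [2, 62, 79, 92], [0, 79, 80, 97], [54, 61, 72, 76],
  [14, 81, 82, 98], [58, 62, 64, 99], [9, 40, 76, 82], [24, 77, 83, 84], [72, 84, 88, 101], [5, 50, 78, 100], [2, 54, 83, 103], [47, 57, 82, 104],
  [6, 51, 79, 105], [11, 76, 77, 85], [32, 59, 73, 75], [11, 29, 86, 111], [0, 12, 29, 98], [13, 87, 94, 95], [14, 48, 88, 95], [12, 38, 58, 74],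
  [6, 47, 54, 89], [39, 42, 85, 90], [6, 16, 26, 36], [37, 47, 55, 85], [10, 56, 61, 90], [7, 45, 73, 91], [4, 71, 96, 99], [34, 38, 80, 91],
  [59, 86, 90, 97], [15, 29, 72, 92], [28, 87, 97, 108], [15, 23, 82, 107], [17, 25, 37, 79], [18, 25, 26, 76], [19, 27, 62, 98], [20, 28, 63, 99],
  [21, 29, 39, 64], [0, 22, 40, 65], [21, 23, 66, 84], [22, 24, 50, 67], [25, 56, 73, 88], [26, 27, 57, 100], [11, 57, 88, 103], [12, 23, 52, 100],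
  [9, 42, 49, 74], [10, 43, 75, 104], [18, 71, 103, 108], [3, 48, 75, 76], [4, 49, 60, 97], [41, 77, 104, 109], [1, 41, 70, 96], [33, 36, 37, 78],
  [18, 24, 39, 81], [30, 40, 56, 58], [31, 41, 89, 101], [29, 83, 91, 95], [49, 84, 94, 98], [50, 95, 99, 104], [3, 74, 86, 101], [4, 29, 75, 78],
  [3, 35, 37, 99], [6, 66, 81, 91], [29, 35, 105, 110], [0, 13, 77, 107], [55, 71, 86, 94], [18, 19, 35, 70], [45, 47, 48, 106], [78, 80, 94, 106],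
  [11, 81, 99, 106], [0, 5, 16, 93], [35, 45, 69, 77], [13, 31, 43, 111], [18, 23, 59, 95], [51, 56, 87, 102], [24, 53, 73, 105], [1, 25, 52, 110],
  [2, 26, 53, 107], [20, 22, 27, 75], [25, 66, 86, 104], [14, 54, 70, 86], [5, 15, 25, 69], [13, 32, 47, 62], [7, 14, 42, 63], [15, 65, 70, 85],
  [15, 74, 102, 103], [16, 52, 75, 103], [9, 55, 88, 109], [10, 83, 96, 100], [60, 63, 66, 103], [30, 52, 91, 101], [31, 53, 66, 78], [30, 35, 42, 46],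
  [8, 33, 43, 64], [17, 46, 65, 81], [8, 18, 34, 47], [36, 48, 71, 110], [37, 49, 91, 107], [38, 50, 55, 92], [32, 51, 83, 93], [39, 52, 68, 94],
  [40, 53, 69, 95], [40, 43, 92, 106], [41, 44, 81, 97], [46, 64, 80, 103], [9, 24, 80, 89], [25, 42, 83, 106], [19, 72, 80, 104], [34, 67, 88, 93],
  [35, 89, 100, 102], [8, 11, 30, 79], [3, 53, 98, 109], [38, 59, 63, 65], [34, 44, 68, 105], [20, 80, 85, 110], [61, 106, 107, 108], [2, 7, 12, 104],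
  [9, 51, 52, 99], [3, 8, 65, 83], [13, 90, 103, 105], [52, 61, 65, 111], [2, 28, 48, 111], [73, 85, 100, 108], [34, 36, 61, 98], [28, 74, 77, 78],
  [70, 75, 79, 84], [23, 28, 55, 105], [1, 11, 32, 49], [61, 74, 79, 95], [35, 43, 88, 97], [44, 84, 102, 111], [45, 50, 98, 103], [4, 46, 68, 109],
  [5, 46, 47, 84], [6, 42, 50, 111], [38, 41, 48, 51], [36, 46, 73, 92], [12, 31, 46, 76], [27, 56, 71, 77], [28, 57, 70, 91], [30, 59, 96, 98],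
  [30, 93, 104, 108], [16, 21, 106, 109], [89, 90, 92, 93], [26, 84, 90, 99], [33, 76, 96, 105], [17, 34, 60, 77], [63, 79, 100, 109], [20, 68, 82, 83],
  [62, 68, 69, 108], [63, 76, 93, 94], [33, 60, 89, 95], [19, 44, 63, 107], [36, 63, 69, 101], [17, 23, 43, 54], [7, 40, 84, 110], [8, 50, 107, 110],
  [66, 87, 92, 96], [60, 73, 82, 111], [15, 32, 33, 109], [7, 16, 17, 96], [27, 37, 93, 111], [25, 28, 89, 98], [10, 60, 62, 110], [43, 51, 85, 98],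
  [3, 23, 56, 80], [4, 24, 57, 61], [27, 101, 105, 106], [74, 81, 93, 110], [58, 75, 89, 107], [12, 60, 70, 106], [13, 72, 81, 100], [67, 71, 79, 82],
  [62, 76, 91, 102], [48, 49, 64, 100], [54, 87, 109, 110], [39, 88, 96, 107], [36, 39, 102, 104], [18, 58, 109, 111], [22, 90, 91, 109], [31, 57, 59, 110],
  [49, 65, 104, 105], [46, 51, 86, 107], [21, 65, 71, 89], [9, 10, 44, 45], [69, 80, 96, 111], [34, 40, 86, 100], [37, 40, 41, 103], [19, 21, 73, 74]]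

/-- the spanning tree: parent, generator, scalar -/
def PE : List (ℕ × ℕ × F9c) :=
  [(0, 0, e7), (0, 1, e4), (1, 0, e1), (1, 1, e8), (2, 0, e3), (2, 1, e7), (3, 0, e1), (3, 1, e7),
  (4, 0, e2), (4, 1, e1), (5, 0, e1), (5, 1, e1), (6, 0, e3), (6, 1, e1), (7, 0, e5), (7, 1, e1),
  (8, 0, e3), (8, 1, e7), (9, 0, e8), (9, 1, e4), (10, 0, e5), (10, 1, e4), (11, 0, e1), (11, 1, e3),
  (12, 0, e4), (12, 1, e4), (13, 0, e5), (13, 1, e6), (14, 0, e6), (15, 0, e2), (15, 1, e2), (16, 1, e3),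
  (17, 0, e8), (17, 1, e2), (18, 0, e6), (18, 1, e7), (19, 0, e3), (19, 1, e2), (20, 0, e6), (21, 0, e2),
  (21, 1, e8), (22, 0, e5), (23, 0, e5), (23, 1, e5), (24, 0, e4), (24, 1, e8), (25, 0, e2), (25, 1, e5),
  (26, 0, e7), (26, 1, e6), (27, 0, e1), (27, 1, e2), (28, 0, e1), (28, 1, e5), (29, 0, e3), (29, 1, e6),
  (30, 0, e6), (31, 0, e4), (31, 1, e2), (32, 1, e6), (33, 0, e7), (33, 1, e5), (34, 0, e7), (35, 0, e6),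
  (35, 1, e1), (36, 0, e2), (37, 0, e5), (38, 0, e7), (38, 1, e4), (39, 0, e3), (39, 1, e3), (40, 0, e1),
  (40, 1, e6), (41, 0, e5), (41, 1, e8), (42, 0, e1), (42, 1, e5), (43, 1, e3), (44, 0, e4), (44, 1, e8),
  (45, 0, e4), (45, 1, e6), (46, 0, e8), (46, 1, e6), (47, 0, e6), (47, 1, e4), (48, 0, e2), (48, 1, e3),
  (49, 0, e4), (49, 1, e8), (50, 0, e2), (51, 0, e6), (51, 1, e4), (52, 0, e7), (52, 1, e1), (53, 0, e8),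
  (53, 1, e4), (54, 1, e5), (55, 0, e6), (56, 0, e6), (56, 1, e5), (57, 1, e4), (58, 0, e1), (59, 0, e2),
  (59, 1, e6), (60, 0, e4), (61, 0, e1), (61, 1, e7), (62, 0, e6), (62, 1, e7), (63, 0, e8), (64, 0, e1),
  (64, 1, e6), (65, 0, e6), (65, 1, e6), (66, 0, e6), (67, 1, e8), (69, 0, e6), (69, 1, e2), (70, 0, e6),
  (70, 1, e4), (71, 0, e5), (72, 0, e2), (73, 0, e7), (73, 1, e3), (74, 0, e7), (74, 1, e3), (75, 0, e5),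
  (75, 1, e4), (76, 0, e6), (76, 1, e2), (77, 0, e2), (77, 1, e7), (78, 0, e1), (78, 1, e8), (80, 0, e8),
  (80, 1, e7), (81, 1, e2), (82, 0, e5), (82, 1, e8), (83, 0, e2), (83, 1, e1), (85, 0, e3), (87, 0, e8),
  (87, 1, e7), (88, 0, e1), (89, 0, e5), (90, 0, e6), (90, 1, e5), (91, 0, e8), (91, 1, e8), (92, 0, e6),
  (93, 1, e7), (96, 0, e8), (96, 1, e3), (97, 0, e2), (98, 0, e2), (99, 1, e8), (100, 1, e5), (101, 0, e4),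
  (102, 0, e8), (103, 0, e5), (104, 0, e4), (105, 0, e7), (106, 0, e4), (107, 1, e7), (108, 0, e8), (108, 1, e4),
  (109, 0, e6), (111, 0, e5), (112, 1, e5), (113, 1, e7), (114, 0, e2), (114, 1, e6), (115, 1, e6), (117, 0, e8),
  (117, 1, e3), (118, 0, e7), (118, 1, e2), (119, 0, e7), (121, 0, e2), (121, 1, e1), (123, 0, e7), (124, 0, e4),
  (124, 1, e3), (125, 0, e5), (126, 0, e8), (126, 1, e5), (127, 0, e4), (127, 1, e8), (128, 0, e1), (128, 1, e2),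
  (130, 1, e4), (131, 0, e8), (132, 1, e7), (134, 1, e1), (135, 0, e4), (136, 0, e8), (138, 0, e8), (138, 1, e1),
  (139, 1, e4), (142, 0, e7), (143, 1, e7), (144, 0, e1), (148, 0, e8), (148, 1, e7), (150, 0, e1), (151, 0, e6),
  (152, 1, e5), (153, 0, e6), (154, 0, e8), (155, 1, e4), (156, 1, e6), (157, 0, e2), (158, 0, e8), (158, 1, e4),
  (160, 0, e1), (161, 0, e1), (162, 0, e8), (164, 1, e3), (166, 0, e6), (166, 1, e8), (167, 1, e8), (168, 0, e6),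
  (168, 1, e6), (169, 0, e3), (170, 1, e4), (172, 1, e1), (173, 0, e4), (173, 1, e6), (175, 0, e5), (176, 0, e8),
  (179, 0, e4), (180, 0, e4), (182, 0, e6), (185, 0, e8), (185, 1, e7), (187, 1, e4), (191, 0, e1), (191, 1, e4),
  (195, 0, e8), (195, 1, e1), (196, 0, e5), (198, 0, e7), (201, 0, e4), (202, 0, e4), (202, 1, e4), (203, 0, e4),
  (204, 0, e3), (205, 1, e3), (209, 0, e1), (210, 0, e8), (210, 1, e1), (214, 0, e8), (216, 0, e4), (218, 0, e3),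
  (218, 1, e8), (221, 1, e1), (222, 0, e8), (222, 1, e1), (224, 1, e2), (225, 0, e8), (226, 1, e4), (227, 0, e3),
  (229, 1, e8), (231, 0, e8), (231, 1, e6), (232, 1, e6), (236, 0, e7), (248, 0, e6), (250, 1, e1), (252, 1, e2),
  (253, 1, e8), (254, 0, e1), (257, 0, e3), (267, 1, e3), (269, 0, e4), (270, 0, e4), (275, 0, e8)]

/-- two points on each line -/
def PP : List (ℕ × ℕ) :=
  [(0, 10), (0, 1), (2, 5), (1, 3), (2, 4), (5, 11), (1, 6), (3, 7), (4, 8), (5, 9), (6, 10), (11, 23),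
  (12, 24), (3, 13), (4, 14), (6, 7), (8, 16), (9, 17), (10, 18), (11, 19), (12, 13), (13, 21), (14, 22), (23, 43),
  (15, 24), (25, 45), (26, 29), (7, 27), (8, 28), (9, 29), (13, 15), (14, 16), (17, 26), (19, 33), (21, 35), (22, 36),
  (23, 37), (24, 38), (25, 27), (27, 28), (28, 41), (29, 42), (43, 50), (44, 58), (30, 45), (31, 46), (48, 82), (49, 55),
  (15, 51), (16, 52), (17, 53), (18, 54), (19, 55), (20, 55), (27, 30), (0, 32), (16, 33), (34, 50), (34, 37), (5, 38),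
  (40, 64), (32, 42), (43, 67), (44, 49), (32, 45), (46, 69), (47, 51), (3, 19), (38, 51), (52, 54), (53, 74), (56, 77),
  (8, 38), (57, 81), (58, 83), (59, 84), (87, 95), (62, 89), (18, 30), (31, 93), (26, 94), (33, 59), (36, 68), (37, 65),
  (39, 99), (2, 60), (63, 67), (11, 24), (12, 69), (72, 112), (73, 85), (78, 117), (79, 86), (80, 90), (6, 22), (60, 82),
  (83, 118), (7, 37), (96, 108), (35, 57), (101, 133), (2, 10), (0, 4), (102, 134), (103, 137), (61, 104), (71, 158), (123, 155),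
  (1, 9), (141, 178), (154, 167), (107, 163)]

def M1c : M4 := ⟨⟨e7, e1, e4, e7⟩, ⟨e0, e8, e6, e2⟩, ⟨e3, e5, e2, e0⟩, ⟨e2, e8, e0, e2⟩⟩
def M2c : M4 := ⟨⟨e7, e5, e1, e4⟩, ⟨e8, e8, e7, e2⟩, ⟨e8, e6, e5, e4⟩, ⟨e3, e7, e7, e4⟩⟩

def pi1 : List ℕ :=
  [1, 3, 5, 7, 9, 11, 13, 15, 17, 19, 21, 23, 25, 27, 29, 30, 26, 33, 35, 37,
  39, 40, 42, 43, 45, 47, 49, 51, 53, 55, 57, 58, 6, 61, 63, 64, 66, 67, 68, 70,
  72, 74, 76, 56, 79, 81, 83, 85, 87, 89, 91, 92, 94, 96, 31, 99, 100, 0, 103, 104,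
  106, 107, 109, 111, 112, 114, 116, 77, 22, 118, 120, 122, 123, 124, 126, 128, 130, 132, 134, 117,
  136, 20, 139, 141, 88, 143, 119, 144, 146, 147, 148, 150, 152, 78, 44, 10, 154, 156, 157, 60,
  2, 160, 161, 162, 163, 164, 165, 135, 167, 169, 151, 170, 155, 38, 173, 62, 75, 176, 178, 180,
  24, 181, 131, 183, 184, 186, 187, 189, 191, 142, 113, 194, 4, 158, 80, 197, 198, 54, 199, 18,
  196, 192, 202, 97, 204, 171, 168, 177, 205, 59, 207, 208, 32, 210, 211, 82, 12, 214, 215, 127,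
  217, 218, 219, 133, 84, 14, 221, 209, 224, 226, 73, 108, 201, 229, 121, 231, 232, 190, 41, 233,
  234, 102, 235, 95, 34, 236, 237, 69, 195, 153, 16, 239, 216, 230, 166, 241, 243, 8, 244, 140,
  206, 245, 246, 248, 249, 203, 48, 172, 65, 251, 252, 179, 101, 71, 254, 149, 255, 225, 256, 137,
  257, 213, 259, 98, 105, 262, 182, 264, 125, 110, 222, 266, 52, 28, 188, 115, 269, 242, 193, 36,
  263, 86, 260, 227, 93, 50, 175, 185, 270, 200, 145, 250, 265, 247, 274, 271, 174, 275, 212, 272,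
  273, 253, 258, 220, 138, 159, 129, 223, 240, 277, 278, 46, 276, 228, 267, 279, 238, 261, 90, 268]

def cs1 : List F9c :=
  [e7, e1, e3, e1, e2, e1, e3, e5, e3, e8, e5, e1, e4, e5, e6, e2, e6, e8, e6, e3,
  e6, e2, e5, e5, e4, e2, e7, e1, e1, e3, e6, e4, e7, e7, e7, e6, e2, e5, e7, e3,
  e1, e5, e1, e2, e4, e4, e8, e6, e2, e4, e2, e6, e7, e8, e7, e6, e6, e2, e1, e2,
  e4, e1, e6, e8, e1, e6, e6, e7, e3, e6, e6, e5, e2, e7, e7, e5, e6, e2, e1, e1,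
  e8, e2, e5, e2, e5, e3, e7, e8, e1, e5, e6, e8, e6, e4, e4, e5, e8, e2, e2, e2,
  e4, e4, e8, e5, e4, e7, e4, e5, e8, e6, e2, e5, e7, e1, e2, e3, e1, e8, e7, e7,
  e2, e2, e7, e7, e4, e5, e8, e4, e1, e7, e6, e8, e5, e4, e8, e4, e8, e7, e8, e1,
  e1, e4, e7, e6, e1, e3, e6, e7, e8, e8, e1, e6, e1, e6, e8, e3, e4, e2, e8, e6,
  e1, e1, e8, e6, e3, e2, e6, e7, e6, e3, e6, e3, e1, e4, e4, e5, e8, e8, e4, e4,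
  e4, e2, e6, e7, e5, e8, e1, e5, e5, e8, e5, e1, e6, e1, e5, e8, e5, e3, e7, e7,
  e4, e4, e4, e4, e3, e2, e2, e3, e3, e1, e8, e7, e7, e4, e8, e6, e4, e5, e3, e4,
  e3, e7, e8, e4, e1, e8, e7, e3, e6, e4, e3, e8, e8, e4, e1, e5, e7, e1, e4, e5,
  e5, e4, e1, e4, e4, e2, e1, e8, e6, e1, e4, e5, e2, e8, e1, e8, e1, e3, e7, e3,
  e5, e1, e4, e4, e3, e4, e4, e1, e1, e4, e4, e6, e2, e2, e3, e8, e3, e4, e8, e7]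

def lam1 : List ℕ :=
  [1, 3, 5, 7, 9, 11, 13, 15, 17, 19, 21, 23, 25, 27, 29, 30, 32, 33, 34, 36,
  38, 39, 41, 42, 44, 8, 47, 48, 50, 52, 54, 26, 56, 58, 60, 61, 62, 64, 66, 68,
  70, 53, 72, 57, 73, 74, 76, 77, 78, 80, 81, 31, 83, 84, 0, 6, 14, 45, 86, 87,
  89, 10, 71, 92, 94, 96, 90, 97, 82, 79, 98, 88, 101, 102, 104, 51, 18, 95, 99, 43,
  63, 105, 35, 16, 85, 59, 12, 22, 4, 107, 37, 103, 91, 49, 20, 75, 109, 24, 110, 55,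
  106, 2, 108, 93, 69, 111, 28, 46, 67, 40, 65, 100]

def pi2 : List ℕ :=
  [2, 4, 6, 8, 10, 12, 14, 16, 18, 20, 22, 24, 26, 28, 0, 31, 32, 34, 36, 38,
  17, 41, 1, 44, 46, 48, 50, 52, 54, 56, 27, 59, 60, 62, 9, 65, 3, 49, 69, 71,
  73, 75, 77, 78, 80, 82, 84, 86, 88, 90, 5, 93, 95, 97, 98, 53, 101, 102, 43, 105,
  7, 108, 110, 106, 113, 115, 79, 117, 109, 119, 121, 100, 67, 125, 127, 129, 131, 133, 135, 47,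
  137, 138, 140, 142, 11, 124, 66, 145, 92, 51, 149, 151, 25, 153, 33, 30, 155, 147, 13, 158,
  159, 111, 112, 74, 96, 15, 134, 166, 168, 122, 94, 29, 171, 172, 174, 175, 45, 177, 179, 19,
  132, 182, 165, 163, 185, 183, 188, 190, 192, 21, 193, 91, 195, 136, 196, 58, 42, 23, 200, 201,
  116, 187, 118, 203, 162, 128, 156, 55, 206, 37, 81, 76, 209, 89, 202, 212, 213, 152, 216, 39,
  99, 207, 139, 217, 220, 68, 222, 223, 225, 218, 227, 57, 228, 230, 161, 35, 146, 72, 205, 83,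
  234, 191, 189, 40, 164, 237, 157, 238, 211, 70, 103, 240, 87, 130, 229, 242, 63, 224, 143, 198,
  150, 144, 247, 199, 126, 250, 221, 114, 239, 186, 253, 204, 104, 176, 243, 226, 160, 255, 257, 194,
  256, 258, 260, 254, 261, 61, 263, 180, 64, 265, 208, 267, 268, 246, 170, 197, 231, 85, 259, 173,
  264, 232, 120, 252, 241, 245, 233, 269, 248, 210, 271, 251, 272, 273, 270, 123, 184, 275, 148, 141,
  107, 235, 215, 262, 181, 219, 266, 276, 244, 154, 167, 178, 214, 249, 277, 169, 236, 279, 274, 278]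

def cs2 : List F9c :=
  [e4, e8, e7, e7, e1, e1, e1, e1, e7, e4, e4, e3, e4, e6, e1, e2, e3, e2, e7, e2,
  e1, e8, e3, e5, e8, e5, e6, e2, e5, e6, e6, e2, e6, e5, e5, e1, e7, e2, e4, e3,
  e6, e8, e5, e3, e8, e6, e6, e4, e3, e8, e4, e4, e1, e4, e5, e3, e5, e4, e2, e6,
  e2, e7, e7, e5, e6, e6, e4, e8, e7, e2, e4, e1, e4, e3, e3, e4, e2, e7, e8, e3,
  e7, e2, e8, e1, e5, e4, e2, e7, e6, e5, e5, e8, e8, e7, e4, e3, e3, e3, e2, e8,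
  e5, e7, e1, e7, e2, e6, e1, e7, e4, e8, e4, e1, e5, e7, e6, e6, e7, e3, e2, e7,
  e5, e1, e2, e1, e3, e6, e5, e8, e2, e4, e4, e8, e7, e6, e1, e8, e1, e8, e1, e4,
  e6, e3, e8, e7, e8, e6, e7, e5, e7, e2, e1, e3, e5, e4, e8, e4, e6, e7, e4, e5,
  e1, e4, e2, e8, e3, e1, e8, e8, e6, e7, e4, e2, e1, e6, e8, e1, e1, e1, e6, e7,
  e2, e6, e4, e6, e8, e7, e2, e4, e6, e6, e3, e4, e7, e8, e3, e1, e8, e2, e2, e1,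
  e1, e6, e4, e8, e4, e3, e7, e2, e7, e3, e1, e6, e4, e5, e2, e1, e3, e6, e8, e1,
  e8, e1, e1, e4, e2, e3, e4, e2, e5, e8, e3, e6, e6, e1, e7, e6, e3, e6, e8, e4,
  e4, e8, e6, e8, e8, e8, e6, e5, e4, e6, e1, e5, e2, e8, e6, e8, e2, e8, e3, e1,
  e2, e6, e2, e5, e1, e4, e7, e3, e1, e5, e2, e2, e5, e8, e3, e5, e3, e3, e1, e1]

def lam2 : List ℕ :=
  [2, 4, 6, 8, 10, 12, 14, 16, 18, 20, 22, 24, 26, 28, 0, 31, 7, 17, 35, 37,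
  32, 40, 1, 43, 45, 46, 42, 49, 51, 53, 39, 55, 57, 59, 19, 3, 63, 65, 67, 69,
  21, 71, 5, 23, 27, 75, 60, 70, 79, 61, 58, 82, 68, 50, 54, 85, 64, 9, 29, 88,
  90, 44, 91, 93, 95, 34, 92, 72, 62, 76, 99, 100, 78, 103, 41, 11, 30, 48, 38, 81,
  33, 77, 13, 47, 106, 15, 73, 87, 80, 86, 25, 52, 66, 104, 108, 97, 96, 56, 107, 83,
  74, 94, 101, 89, 36, 98, 84, 111, 102, 110, 109, 105]

def piT : List ℕ :=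
  [0, 1, 75, 62, 4, 233, 138, 195, 80, 202, 10, 16, 9, 237, 209, 180, 190, 76, 68, 271,
  20, 21, 274, 272, 49, 89, 201, 227, 23, 231, 249, 37, 32, 54, 56, 102, 234, 198, 158, 79,
  114, 14, 251, 236, 44, 211, 145, 223, 164, 255, 50, 51, 106, 226, 84, 205, 63, 57, 15, 59,
  252, 8, 206, 34, 64, 65, 72, 241, 116, 98, 38, 71, 265, 151, 141, 186, 86, 107, 67, 225,
  61, 118, 82, 175, 33, 182, 17, 119, 46, 247, 42, 91, 92, 87, 94, 117, 73, 95, 270, 243,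
  275, 36, 279, 113, 122, 188, 160, 148, 108, 229, 47, 121, 213, 143, 232, 115, 18, 97, 171, 93,
  159, 222, 256, 210, 55, 181, 228, 245, 214, 129, 204, 203, 208, 183, 136, 154, 250, 144, 150, 153,
  26, 267, 142, 103, 244, 88, 179, 126, 77, 27, 6, 96, 112, 240, 253, 155, 156, 146, 70, 263,
  52, 161, 260, 99, 258, 165, 127, 167, 13, 185, 191, 81, 177, 105, 184, 278, 176, 259, 178, 157,
  58, 254, 239, 242, 257, 192, 2, 170, 173, 189, 11, 187, 169, 131, 276, 219, 238, 19, 31, 5,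
  200, 140, 12, 193, 212, 124, 3, 128, 266, 41, 215, 246, 130, 152, 207, 123, 194, 217, 218, 7,
  196, 221, 111, 110, 60, 39, 248, 149, 147, 273, 43, 261, 40, 199, 101, 30, 230, 168, 220, 85,
  139, 78, 133, 163, 137, 166, 45, 25, 53, 235, 134, 90, 224, 135, 125, 24, 104, 174, 48, 172,
  262, 29, 162, 120, 264, 66, 132, 74, 268, 100, 69, 197, 28, 109, 277, 269, 216, 22, 83, 35]

def csT : List F9c :=
  [e3, e3, e1, e3, e3, e3, e3, e3, e3, e3, e3, e3, e3, e3, e3, e3, e3, e3, e3, e3,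
  e3, e3, e3, e3, e3, e3, e3, e3, e3, e3, e3, e3, e3, e3, e3, e3, e3, e3, e3, e3,
  e3, e3, e3, e3, e3, e3, e3, e3, e3, e3, e3, e3, e3, e3, e3, e3, e3, e3, e3, e3,
  e3, e3, e3, e3, e3, e3, e3, e3, e3, e3, e3, e3, e3, e3, e3, e7, e3, e3, e3, e3,
  e3, e3, e3, e3, e3, e3, e3, e3, e3, e3, e3, e3, e3, e3, e3, e3, e3, e3, e3, e3,
  e3, e3, e3, e3, e3, e3, e3, e3, e3, e3, e3, e3, e3, e3, e3, e3, e3, e3, e3, e3,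
  e3, e3, e3, e3, e3, e3, e3, e3, e3, e3, e3, e3, e3, e3, e3, e3, e3, e3, e3, e3,
  e3, e3, e3, e3, e3, e3, e3, e3, e3, e3, e3, e3, e3, e3, e3, e3, e3, e3, e3, e3,
  e3, e3, e3, e3, e3, e3, e3, e3, e3, e3, e3, e3, e3, e3, e3, e3, e3, e3, e3, e3,
  e3, e3, e3, e3, e3, e3, e5, e3, e3, e3, e3, e3, e3, e3, e3, e3, e3, e3, e3, e3,
  e3, e3, e3, e3, e3, e3, e3, e3, e3, e3, e3, e3, e3, e3, e3, e3, e3, e3, e3, e3,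
  e3, e3, e3, e3, e3, e3, e3, e3, e3, e3, e3, e3, e3, e3, e3, e3, e3, e3, e3, e3,
  e3, e3, e3, e3, e3, e3, e3, e3, e3, e3, e3, e3, e3, e3, e3, e3, e3, e3, e3, e3,
  e3, e3, e3, e3, e3, e3, e3, e3, e3, e3, e3, e3, e3, e3, e3, e3, e3, e3, e3, e3]

def lamT : List ℕ :=
  [0, 1, 21, 6, 14, 16, 108, 64, 4, 109, 18, 49, 29, 77, 8, 103, 93, 53, 101, 31,
  17, 34, 65, 105, 63, 52, 30, 46, 23, 98, 60, 83, 11, 57, 2, 89, 104, 47, 92, 36,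
  22, 96, 33, 24, 111, 58, 95, 85, 66, 32, 38, 87, 110, 20, 73, 55, 51, 42, 72, 106,
  26, 7, 76, 43, 61, 40, 68, 59, 48, 75, 41, 86, 45, 99, 15, 81, 91, 107, 82, 97,
  79, 69, 90, 19, 44, 37, 94, 56, 9, 100, 78, 62, 50, 5, 71, 27, 70, 80, 12, 54,
  35, 10, 102, 74, 39, 28, 67, 13, 3, 88, 25, 84]

/-- the frame -/
def frameIdx : List ℕ := [105, 178, 270, 261, 172]
def Bc : M4 := ⟨⟨e3, e3, e3, e3⟩, ⟨e7, e7, e6, e3⟩, ⟨e4, e7, e1, e4⟩, ⟨e6, e3, e0, e4⟩⟩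
def Bi : M4 := ⟨⟨e8, e1, e8, e2⟩, ⟨e2, e1, e6, e3⟩, ⟨e3, e1, e3, e3⟩, ⟨e5, e0, e4, e4⟩⟩
def alphaC : V4 := ⟨e2, e8, e3, e5⟩

/-- coefficients of three times the basis vectors -/
def RC : List (List ℤ) :=
  [[-2, 4, -1, -1, -1, -3, -1, 2, 1, 0, -2, 1, -1, 3, 2, -3, -2, 3, 0, 0, 0, 2, 4, -2],
  [-2, 1, 2, -1, -1, -3, -1, 2, 1, 0, -2, 1, -1, 3, 2, -3, -2, 3, 0, 0, 0, 2, 4, -2],
  [-2, 1, 0, -1, -3, -4, -3, 0, 1, 0, 0, 1, -2, 4, 3, -3, -4, 4, 2, 1, 2, 3, 4, -1],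
  [10, 7, -6, -4, -3, -1, -3, 3, -2, -3, -3, 1, 1, 1, 0, -3, -1, 4, -1, -2, -1, 0, 1, -4],
  [-2, 1, 0, 2, 0, -4, -3, 0, 1, 3, -3, -2, -2, 7, 3, -3, -4, 1, 2, 1, -1, 3, 4, -1],
  [-2, 1, 0, -1, 0, -1, 0, 3, 1, -3, 0, 4, 1, 1, 3, -3, -1, 4, -1, 1, -1, 0, 1, -4],
  [-2, 1, 0, 2, 0, -1, 0, 0, 1, 0, 0, 1, -2, 1, 0, 0, -1, 1, -1, 1, -1, 3, 1, -1],
  [10, 7, -6, -1, 0, -4, 0, 0, -2, 0, -3, -2, -2, 1, 0, -3, -1, 1, -1, -2, -1, 0, 1, -1],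
  [4, 4, -3, -1, -3, -4, -3, 0, 1, -3, -3, 1, 1, 7, 3, -6, -4, 4, 2, -2, -1, 3, 4, -4],
  [-8, -2, 3, 2, 0, -4, 0, 0, 1, 3, 0, 1, -2, 4, 3, 0, -1, 1, 2, 1, -1, 3, 4, -1],
  [-14, -5, 6, -1, 0, 2, 3, 3, 4, 0, 3, 4, 1, 1, 3, 0, 2, 4, -1, 1, -1, 0, 1, -1],
  [-8, -2, 3, 2, 0, -1, 0, 0, 1, 0, 0, 1, 1, 1, 0, 0, 2, 1, -1, 1, 2, 3, 1, 2],
  [5, 2, -2, -2, -2, -3, -2, 1, -1, 0, -1, -1, -2, 3, 1, -3, -1, 3, 0, 0, 0, 1, 2, -1],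
  [-4, -4, 3, 1, -3, -2, -3, 0, 2, -3, 0, 2, 2, 5, 3, -3, -2, 5, 1, 2, 1, 3, 2, -2],
  [-1, -1, 1, 1, 1, -3, 1, 1, 2, 0, -1, 2, -2, 3, 4, -3, -1, 3, 0, 0, -3, 1, 2, -4],
  [-4, -4, 3, 1, 0, -2, 0, 0, 2, 0, 0, 2, -1, 5, 3, -3, -2, 5, 1, -1, -2, 3, 2, -2],
  [-7, -4, 4, 1, -2, -3, -2, 1, 2, 0, -1, 2, 1, 6, 4, -3, -1, 3, 0, 0, 0, 4, 5, -1],
  [5, 2, -3, 1, 0, -5, -3, 0, -1, 0, -3, -1, -1, 5, 3, -3, -2, 2, 1, -1, -2, 3, 2, -2],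
  [11, 5, -6, -2, -3, -5, -3, 0, -1, -3, -3, 2, -1, 5, 3, -6, -5, 5, 1, -1, -2, 3, 2, -5],
  [8, 2, -3, 1, -3, -5, -3, 0, -1, 0, -3, -1, -1, 5, 0, -3, -2, 2, 1, -1, -2, 3, 2, -2],
  [-4, -4, 2, 1, -1, -4, -1, -1, 2, 0, 1, 2, 0, 7, 5, -3, -3, 4, 2, 1, -1, 2, 2, -3],
  [-10, -7, 5, 1, -1, 2, 2, 2, 2, -3, 4, 5, 3, 1, 2, 0, 3, 4, -1, 1, -1, 2, -1, -3],
  [-1, -1, 1, 1, -2, -3, -2, 1, -1, 0, -1, 2, -2, 3, 1, 0, -1, 3, 0, 0, 0, 4, 2, -1],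
  [1, 1, -1, -1, -1, -3, -1, 2, 1, 0, -2, 1, -1, 3, 2, -3, -2, 3, 0, 0, 0, 2, 4, -2]]

def kT : GenData := mkGen [769047432332889444134172150580465205, 602894009534761774761375188660993581, 686051891462984954599965200700947951, 769131176503162868245894205343811121, 683458278257549029807603783259602415, 771724789631305381229045161581364785, 686054424290723184127309468211363311, 686051891462909394356159382360178159, 686054426764187774475865412849911279, 686054429240065563414255437953385967, 771727406713844127348412501679752753, 769133793585852801643584286431397425, 686054426841559024697416264855338479, 686135635710553997282681104777100783, 686054426766678820561795934480451055, 771808454648216212748200958352705073, 686051970691147468862123562131537391, 686135556405017869379765740509871599, 771808536274963113227657796186097201,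 688731707307825429172529697986725359, 683455663805555026521364555866062319, 686054426766605623881311455046745583, 686054426766603336485046244195452399, 854885286091311820634080729377621619]
  [769128563249177638602657496201546293, 602975140451049969229860534282074669, 771808535076880988484960151411409457, 686054427964687672531260162364129775, 688729170808540562880536562371183087, 686054425566176559089376531841532399, 683458279612716027093329760003539439, 686135555129640126140458480079192559, 686051890264902829857267558006634991, 683455741758339723687361002252777967, 686051892660991519170914619025310191, 686051810956951211426306776239686127, 769212307419448699223045506136064561, 686054427964687672529008362552541679, 686135636908560561853628392864791023, 686054428042058998843308149932802543, 686138092981676423097312941686899183,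 769131177778618604391202772514030129, 686054425566103290857950773468774895, 771727326210301582448432070326274609, 771808535154252243246137230932623921, 686054507270221513035658518115959279, 771808537550418775585987869496887857, 854804155175023626165595383756540531]

end Cfsg.Agent.Lib.Helper26.U43
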