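import Cfsg.Agent.Lib.Helper26.McLRank3
import Cfsg.Agent.Lib.Helper26.U43Data
import Cfsg.Agent.Lib.Helper27.McLSimple

set_option autoImplicit false

/-!
The Leech lattice side of the identification of the point stabiliser `K0` of the McLaughlin group:
its order, the 112 vectors `Yv l`, the action of `k1`, `k2`, `kT` on them, and rigidity (an element
of `K0` fixing the 112 vectors is trivial).
-/

namespace Cfsg.Agent.Lib.Helper26.U43

open Cfsg Cfsg.Agent.Lib.Helper93.Leech Cfsg.Agent.Lib.Helper93.Golay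
open Cfsg.Agent.Lib.Golay.LeechBasis Cfsg.Agent.Lib.Conway
open Cfsg.Agent.Lib.Helper26.CoTab Cfsg.Agent.Lib.Helper26.McL

/-! ### the 112 vectors -/

set_option maxRecDepth 100000 in
theorem AB_cond : ∀ l ∈ AB, LeechCond (vecOfList l) (vecOfList l (ptOf 0)) := by decide +kernel

theorem AB_mem (l : List ℤ) (hl : l ∈ AB) : vecOfList l ∈ leechLattice :=
  mem_of_leechCond (AB_cond l hl)

theorem AB_getD_mem (l : ℕ) (hl : l < 112) : AB.getD l [] ∈ AB := by
  rw [List.getD_eq_getElem _ _ (by rw [AB_length]; exact hl)]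
  exact List.getElem_mem _

open Classical in
/-- the `l`-th vector -/
noncomputable def Yv (l : ℕ) : leechLattice :=
  if h : vecOfList (AB.getD l []) ∈ leechLattice then ⟨_, h⟩ else 0

theorem Yv_coe (l : ℕ) (hl : l < 112) : (Yv l : Vec) = vecOfList (AB.getD l []) := by
  unfold Yv
  rw [dif_pos (AB_mem _ (AB_getD_mem l hl))]

theorem Yv_eq (l : ℕ) (hl : l < 112) :
    Yv l = ⟨vecOfList (AB.getD l []), AB_mem _ (AB_getD_mem l hl)⟩ :=
  Subtype.ext (Yv_coe l hl)

theorem Yv_inj {l l' : ℕ} (hl : l < 112) (hl' : l' < 112) (h : Yv l = Yv l') : l = l' := by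
  have h1 := congrArg Subtype.val h
  rw [Yv_coe l hl, Yv_coe l' hl'] at h1
  have h2 := vecOfList_injOn (AB_len _ (AB_getD_mem l hl)) (AB_len _ (AB_getD_mem l' hl')) h1
  have hl2 : l < AB.length := by rw [AB_length]; exact hl
  have hl2' : l' < AB.length := by rw [AB_length]; exact hl'
  rw [List.getD_eq_getElem _ _ hl2, List.getD_eq_getElem _ _ hl2'] at h2
  exact (List.Nodup.getElem_inj_iff AB_nodup).mp h2

/-! ### the three automorphisms -/

set_option maxRecDepth 100000 in
theorem kT_ok : kT.ok := by decide +kernel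

set_option maxRecDepth 100000 in
theorem kT_fix : applyC kT.Tt u0L = u0L ∧ applyC kT.Tt v0L = v0L ∧ applyC kT.Tt x0L = x0L := by
  decide +kernel

/-- the three automorphisms -/
noncomputable def elt : ℕ → Co0
  | 0 => k1.aut k1_ok
  | 1 => k2.aut k2_ok
  | _ => kT.aut kT_ok

theorem elt_mem (e : ℕ) : elt e ∈ K0 := by
  match e with
  | 0 => exact mem_K0_of_fix k1 k1_ok kgens_fix.1.1 kgens_fix.1.2.1 kgens_fix.1.2.2
  | 1 => exact mem_K0_of_fix k2 k2_ok kgens_fix.2.1 kgens_fix.2.2.1 kgens_fix.2.2.2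
  | _ + 2 => exact mem_K0_of_fix kT kT_ok kT_fix.1 kT_fix.2.1 kT_fix.2.2

/-- the transposed table of the automorphism -/
def eltT : ℕ → List (List ℤ)
  | 0 => k1.Tt
  | 1 => k2.Tt
  | _ => kT.Tt

/-- the table of the action on the 112 vectors -/
def lamE : ℕ → List ℕ
  | 0 => lam1
  | 1 => lam2
  | _ => lamT

theorem elt_smul_list (e : ℕ) (x : List ℤ) (hx : x.length = 24) (hm : vecOfList x ∈ leechLattice) :
    ((elt e • (⟨vecOfList x, hm⟩ : leechLattice) : leechLattice) : Vec) =
      vecOfList (applyC (eltT e) x) := by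
  match e with
  | 0 => exact GenData.aut_smul_list k1 k1_ok x hx hm
  | 1 => exact GenData.aut_smul_list k2 k2_ok x hx hm
  | _ + 2 => exact GenData.aut_smul_list kT kT_ok x hx hm

/-- check of a table of the action -/
def lamOK (e : ℕ) : Bool :=
  (List.range 112).all (fun l =>
    decide ((lamE e).getD l 0 < 112) &&
      (applyC (eltT e) (AB.getD l []) == AB.getD ((lamE e).getD l 0) []))

set_option maxRecDepth 100000 in
theorem lam_ok : lamOK 0 = true ∧ lamOK 1 = true ∧ lamOK 2 = true := by decide +kernel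

theorem lamOK_of (e : ℕ) : lamOK e = true := by
  match e with
  | 0 => exact lam_ok.1
  | 1 => exact lam_ok.2.1
  | _ + 2 => exact lam_ok.2.2

theorem elt_Yv (e l : ℕ) (hl : l < 112) :
    (lamE e).getD l 0 < 112 ∧ elt e • Yv l = Yv ((lamE e).getD l 0) := by
  have h := List.all_eq_true.mp (lamOK_of e) l (List.mem_range.mpr hl)
  rw [Bool.and_eq_true, decide_eq_true_iff, beq_iff_eq] at h
  refine ⟨h.1, ?_⟩
  apply Subtype.ext
  rw [Yv_eq l hl, elt_smul_list e _ (AB_len _ (AB_getD_mem l hl)), h.2, Yv_coe _ h.1]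

/-! ### rigidity -/

/-- the 24 vectors `u0`, `v0`, `x0` and the first 21 of the 112 vectors -/
def FL : List (List ℤ) := [u0L, v0L, x0L] ++ AB.take 21

/-- the `m`-th of them -/
def fvec (m : Fin 24) : Vec := vecOfList (FL.getD m.val [])

set_option maxRecDepth 100000 in
theorem rigid_data : ∀ (j : Fin 24) (p : GolayPt),
    3 * bvec j p = ∑ m : Fin 24, (RC.getD j.val []).getD m.val 0 * fvec m p := by
  decide +kernel

theorem FL_getD : ∀ m : Fin 24, FL.getD m.val [] =
    if m.val = 0 then u0L else if m.val = 1 then v0L else if m.val = 2 then x0L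
    else AB.getD (m.val - 3) [] := by
  decide +kernel

/-- the corresponding elements of the lattice -/
noncomputable def Fel (m : Fin 24) : leechLattice :=
  if m.val = 0 then McL.U0 else if m.val = 1 then McL.V0 else if m.val = 2 then McL.R0 else Yv (m.val - 3)

theorem Fel_coe (m : Fin 24) : (Fel m : Vec) = fvec m := by
  unfold Fel fvec
  rw [FL_getD m]
  split_ifs with h0 h1 h2
  · exact U0_coe
  · exact V0_coe
  · exact R0_coe
  · exact Yv_coe _ (by omega)

theorem Fel_fix (g : Co0) (hg : g ∈ K0) (hY : ∀ l < 112, g • Yv l = Yv l) (m : Fin 24) :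
    g • Fel m = Fel m := by
  unfold Fel
  split_ifs with h0 h1 h2
  · exact MulAction.mem_stabilizer_iff.mp hg.1.1
  · exact MulAction.mem_stabilizer_iff.mp hg.1.2
  · exact MulAction.mem_stabilizer_iff.mp hg.2
  · exact hY _ (by omega)

/-- the basis vectors as elements of the lattice -/
def Bel (j : Fin 24) : leechLattice := ⟨bvec j, bvec_mem j⟩

theorem three_Bel (j : Fin 24) :
    (3 : ℤ) • Bel j = ∑ m : Fin 24, ((RC.getD j.val []).getD m.val 0) • Fel m := by
  apply Subtype.ext
  funext p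
  rw [AddSubgroup.coe_zsmul, AddSubgroup.val_finsetSum]
  simp only [Pi.smul_apply, Finset.sum_apply, AddSubgroup.coe_zsmul, smul_eq_mul, Fel_coe]
  exact rigid_data j p

theorem Bel_fix (g : Co0) (hg : g ∈ K0) (hY : ∀ l < 112, g • Yv l = Yv l) (j : Fin 24) :
    g • Bel j = Bel j := by
  have h3 : (3 : ℤ) • (g • Bel j) = (3 : ℤ) • Bel j := by
    rw [← co0_zsmul, three_Bel, co0_sum]
    apply Finset.sum_congr rfl
    intro m _
    rw [co0_zsmul, Fel_fix g hg hY m]
  apply Subtype.ext
  funext p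
  have := congrFun (congrArg Subtype.val h3) p
  rw [AddSubgroup.coe_zsmul, AddSubgroup.coe_zsmul] at this
  simp only [Pi.smul_apply, smul_eq_mul] at this
  omega

theorem eq_sum_Bel (v : leechLattice) : v = ∑ j : Fin 24, coef (v : Vec) j • Bel j := by
  apply Subtype.ext
  rw [AddSubgroup.val_finsetSum]
  have := lin_bvec_self v.2
  unfold lin at this
  rw [← this]
  apply Finset.sum_congr rfl
  intro j _
  rw [AddSubgroup.coe_zsmul, this]
  rfl

/-- an element of `K0` fixing the 112 vectors is trivial -/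
theorem rigid (g : Co0) (hg : g ∈ K0) (hY : ∀ l < 112, g • Yv l = Yv l) : g = 1 := by
  apply co0_ext
  intro v
  rw [co0_one_smul]
  conv_lhs => rw [eq_sum_Bel v]
  rw [co0_sum]
  conv_rhs => rw [eq_sum_Bel v]
  apply Finset.sum_congr rfl
  intro j _
  rw [co0_zsmul, Bel_fix g hg hY j]

end Cfsg.Agent.Lib.Helper26.U43
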