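import Cfsg.Agent.Lib.Helper26.U43Unitary
import Cfsg.Agent.Lib.Helper26.U43Leech

set_option autoImplicit false

/-!
The finite verifications on the tables relating the 280 isotropic points, the 112 vectors and the
three pairs (matrix, automorphism).
-/

namespace Cfsg.Agent.Lib.Helper26.U43

open F9c

/-- the `i`-th line through the `n`-th point -/
def Qi (n i : ℕ) : ℕ := (QT.getD n []).getD i 0

theorem QT_length : QT.length = 280 := by decide +kernel

/-! ### the lines through the points -/

def qtOK : Bool := QT.all (fun q => q.length == 4 && q.all (fun x => decide (x < 112)))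

set_option maxRecDepth 100000 in
theorem qt_ok : qtOK = true := by decide +kernel

theorem QT_getD_mem (n : ℕ) (hn : n < 280) : QT.getD n [] ∈ QT := by
  rw [List.getD_eq_getElem _ _ (by rw [QT_length]; exact hn)]
  exact List.getElem_mem _

theorem QT_len4 (n : ℕ) (hn : n < 280) : (QT.getD n []).length = 4 := by
  have h := List.all_eq_true.mp qt_ok _ (QT_getD_mem n hn)
  rw [Bool.and_eq_true, beq_iff_eq] at h
  exact h.1

theorem Qi_mem (n : ℕ) (hn : n < 280) (i : ℕ) (hi : i < 4) : Qi n i ∈ QT.getD n [] := by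
  unfold Qi
  have hi' : i < (QT.getD n []).length := by rw [QT_len4 n hn]; exact hi
  rw [List.getD_eq_getElem (QT.getD n []) 0 hi']
  exact List.getElem_mem _

theorem Qi_lt (n : ℕ) (hn : n < 280) (i : ℕ) (hi : i < 4) : Qi n i < 112 := by
  have h := List.all_eq_true.mp qt_ok _ (QT_getD_mem n hn)
  rw [Bool.and_eq_true] at h
  have := List.all_eq_true.mp h.2 _ (Qi_mem n hn i hi)
  exact of_decide_eq_true this

theorem exists_Qi_of_mem (n : ℕ) (hn : n < 280) (x : ℕ) (hx : x ∈ QT.getD n []) :
    ∃ i < 4, Qi n i = x := by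
  obtain ⟨i, hi, hix⟩ := List.mem_iff_getElem.mp hx
  refine ⟨i, by rw [← QT_len4 n hn]; exact hi, ?_⟩
  unfold Qi
  rw [List.getD_eq_getElem _ _ hi, hix]

/-! ### the points are pairwise not proportional -/

def nodupB : List V4 → Bool
  | [] => true
  | x :: xs => !(xs.elem x) && nodupB xs

theorem nodup_of_nodupB : ∀ l : List V4, nodupB l = true → l.Nodup
  | [], _ => List.nodup_nil
  | x :: xs, h => by
    rw [nodupB, Bool.and_eq_true, Bool.not_eq_true'] at h
    refine List.nodup_cons.mpr ⟨?_, nodup_of_nodupB xs h.2⟩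
    intro hx
    have := List.elem_eq_true_of_mem hx
    rw [h.1] at this
    exact Bool.false_ne_true this

set_option maxRecDepth 100000 in
theorem PT_nodupB : nodupB PT = true := by decide +kernel

theorem PT_nodup : PT.Nodup := nodup_of_nodupB PT PT_nodupB

def ptOK : Bool := PT.all (fun p => decide (nrm p = p) && decide (p ≠ V4.zero))

set_option maxRecDepth 100000 in
theorem pt_ok : ptOK = true := by decide +kernel

theorem smul_zero_left (v : V4) : V4.smul 0 v = V4.zero := by
  simp [V4.smul, V4.zero]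

theorem lead_smul (c : F9c) (hc : c ≠ 0) (v : V4) : lead (V4.smul c v) = c * lead v := by
  unfold lead V4.smul
  simp only [ne_eq, mul_eq_zero, hc, false_or]
  split_ifs <;> rfl

theorem nrm_smul (c : F9c) (hc : c ≠ 0) (v : V4) : nrm (V4.smul c v) = nrm v := by
  unfold nrm
  rw [lead_smul c hc]
  have key : ∀ x : F9c, (c * lead v)⁻¹ * (c * x) = (lead v)⁻¹ * x := by
    intro x
    rw [mul_inv_rev, mul_assoc, inv_mul_cancel_left₀ hc]
  simp only [V4.smul, key]

theorem PT_getD_mem (n : ℕ) (hn : n < 280) : PT.getD n V4.zero ∈ PT := by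
  rw [List.getD_eq_getElem _ _ (by rw [PT_length]; exact hn)]
  exact List.getElem_mem _

theorem PT_prop (n : ℕ) (hn : n < 280) (m : ℕ) (hm : m < 280) (c : F9c)
    (h : PT.getD n V4.zero = V4.smul c (PT.getD m V4.zero)) : n = m := by
  have hn' := List.all_eq_true.mp pt_ok _ (PT_getD_mem n hn)
  have hm' := List.all_eq_true.mp pt_ok _ (PT_getD_mem m hm)
  rw [Bool.and_eq_true, decide_eq_true_iff, decide_eq_true_iff] at hn' hm'
  have hc : c ≠ 0 := by
    rintro rfl
    rw [smul_zero_left] at h
    exact hn'.2 h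
  have h2 : PT.getD n V4.zero = PT.getD m V4.zero := by
    rw [← hn'.1, h, nrm_smul c hc, hm'.1]
  have hn2 : n < PT.length := by rw [PT_length]; exact hn
  have hm2 : m < PT.length := by rw [PT_length]; exact hm
  rw [List.getD_eq_getElem _ _ hn2, List.getD_eq_getElem _ _ hm2] at h2
  exact (List.Nodup.getElem_inj_iff PT_nodup).mp h2

/-! ### two points on each line, and two lines through each point -/

def ppOK : Bool :=
  (List.range 112).all (fun l =>
    decide ((PP.getD l (0, 0)).1 < 280) && decide ((PP.getD l (0, 0)).2 < 280) &&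
      (QT.getD (PP.getD l (0, 0)).1 []).elem l && (QT.getD (PP.getD l (0, 0)).2 []).elem l &&
      (QT.getD (PP.getD l (0, 0)).1 []).all (fun x =>
        !((QT.getD (PP.getD l (0, 0)).2 []).elem x) || x == l))

set_option maxRecDepth 100000 in
theorem pp_ok : ppOK = true := by decide +kernel

theorem PP_ok (l : ℕ) (hl : l < 112) : (PP.getD l (0, 0)).1 < 280 ∧ (PP.getD l (0, 0)).2 < 280 ∧
    l ∈ QT.getD (PP.getD l (0, 0)).1 [] ∧ l ∈ QT.getD (PP.getD l (0, 0)).2 [] ∧
    ∀ x ∈ QT.getD (PP.getD l (0, 0)).1 [], x ∈ QT.getD (PP.getD l (0, 0)).2 [] → x = l := by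
  have h := List.all_eq_true.mp pp_ok l (List.mem_range.mpr hl)
  simp only [Bool.and_eq_true, decide_eq_true_iff, List.elem_iff] at h
  refine ⟨h.1.1.1.1, h.1.1.1.2, h.1.1.2, h.1.2, fun x hx hx' => ?_⟩
  have := List.all_eq_true.mp h.2 x hx
  rw [Bool.or_eq_true, Bool.not_eq_true', beq_iff_eq] at this
  rcases this with h1 | h1
  · have := List.elem_eq_true_of_mem hx'
    rw [h1] at this
    exact absurd this Bool.false_ne_true
  · exact h1

def qinjOK : Bool :=
  (List.range 280).all (fun n => (List.range 280).all (fun m =>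
    !((QT.getD m []).elem (Qi n 0) && (QT.getD m []).elem (Qi n 1)) || n == m))

set_option maxRecDepth 100000 in
theorem qinj_ok : qinjOK = true := by decide +kernel

theorem Q_inj (n : ℕ) (hn : n < 280) (m : ℕ) (hm : m < 280) (h0 : Qi n 0 ∈ QT.getD m [])
    (h1 : Qi n 1 ∈ QT.getD m []) : n = m := by
  have h := List.all_eq_true.mp (List.all_eq_true.mp qinj_ok n (List.mem_range.mpr hn)) m
    (List.mem_range.mpr hm)
  rw [Bool.or_eq_true, Bool.not_eq_true', beq_iff_eq] at h
  rcases h with h | h
  · rw [List.elem_eq_true_of_mem h0, List.elem_eq_true_of_mem h1] at h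
    exact absurd h (by decide)
  · exact h

/-! ### the three pairs -/

/-- the three matrices -/
def ME : ℕ → M4
  | 0 => M1c
  | 1 => M2c
  | _ => tvc P0 e1

theorem ME_good (e : ℕ) : (ME e).Good := by
  match e with
  | 0 => exact M1c_good
  | 1 => exact M2c_good
  | _ + 2 => exact Tp_good

/-- the tables of the action on the points -/
def piE : ℕ → List ℕ
  | 0 => pi1
  | 1 => pi2
  | _ => piT

/-- the scalars -/
def csE : ℕ → List F9c
  | 0 => cs1
  | 1 => cs2
  | _ => csT

/-- check of the tables of a pair -/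
def relOK (e : ℕ) : Bool :=
  (List.range 280).all (fun n =>
    decide ((piE e).getD n 0 < 280) && decide ((csE e).getD n 0 ≠ 0) &&
      decide ((ME e).mv (PT.getD n V4.zero) =
        V4.smul ((csE e).getD n 0) (PT.getD ((piE e).getD n 0) V4.zero)) &&
      (List.range 4).all (fun i =>
        (QT.getD ((piE e).getD n 0) []).elem ((lamE e).getD (Qi n i) 0)))

set_option maxRecDepth 100000 in
theorem rel_ok : relOK 0 = true ∧ relOK 1 = true ∧ relOK 2 = true := by decide +kernel

theorem relOK_of (e : ℕ) : relOK e = true := by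
  match e with
  | 0 => exact rel_ok.1
  | 1 => exact rel_ok.2.1
  | _ + 2 => exact rel_ok.2.2

theorem relOK_spec (e n : ℕ) (hn : n < 280) :
    (piE e).getD n 0 < 280 ∧ (csE e).getD n 0 ≠ 0 ∧
      (ME e).mv (PT.getD n V4.zero) =
        V4.smul ((csE e).getD n 0) (PT.getD ((piE e).getD n 0) V4.zero) ∧
      ∀ i < 4, (lamE e).getD (Qi n i) 0 ∈ QT.getD ((piE e).getD n 0) [] := by
  have h := List.all_eq_true.mp (relOK_of e) n (List.mem_range.mpr hn)
  rw [Bool.and_eq_true, Bool.and_eq_true, Bool.and_eq_true, decide_eq_true_iff,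
    decide_eq_true_iff, decide_eq_true_iff] at h
  refine ⟨h.1.1.1, h.1.1.2, h.1.2, fun i hi => ?_⟩
  have := List.all_eq_true.mp h.2 i (List.mem_range.mpr hi)
  exact List.elem_iff.mp this

end Cfsg.Agent.Lib.Helper26.U43
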