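import Mathlib

set_option autoImplicit false

/-!
A concrete model of the field with nine elements, `e_{3a+b} = a + b i` with `i^2 = -1`, and `4 × 4`
matrices and vectors of length 4 over it as records (generated by scratch/u43/gen_f9.py).
-/

namespace Cfsg.Agent.Lib.Helper26.U43

/-- concrete field with nine elements -/
inductive F9c : Type
  | e0 | e1 | e2 | e3 | e4 | e5 | e6 | e7 | e8
  deriving DecidableEq

namespace F9c

instance : Fintype F9c := ⟨{e0, e1, e2, e3, e4, e5, e6, e7, e8}, by intro x; cases x <;> decide⟩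

/-- addition -/
def add : F9c → F9c → F9c
  | e0, e0 => e0
  | e0, e1 => e1
  | e0, e2 => e2
  | e0, e3 => e3
  | e0, e4 => e4
  | e0, e5 => e5
  | e0, e6 => e6
  | e0, e7 => e7
  | e0, e8 => e8
  | e1, e0 => e1
  | e1, e1 => e2
  | e1, e2 => e0
  | e1, e3 => e4
  | e1, e4 => e5
  | e1, e5 => e3
  | e1, e6 => e7
  | e1, e7 => e8
  | e1, e8 => e6
  | e2, e0 => e2
  | e2, e1 => e0
  | e2, e2 => e1
  | e2, e3 => e5
  | e2, e4 => e3
  | e2, e5 => e4
  | e2, e6 => e8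
  | e2, e7 => e6
  | e2, e8 => e7
  | e3, e0 => e3
  | e3, e1 => e4
  | e3, e2 => e5
  | e3, e3 => e6
  | e3, e4 => e7
  | e3, e5 => e8
  | e3, e6 => e0
  | e3, e7 => e1
  | e3, e8 => e2
  | e4, e0 => e4
  | e4, e1 => e5
  | e4, e2 => e3
  | e4, e3 => e7
  | e4, e4 => e8
  | e4, e5 => e6
  | e4, e6 => e1
  | e4, e7 => e2
  | e4, e8 => e0
  | e5, e0 => e5
  | e5, e1 => e3
  | e5, e2 => e4
  | e5, e3 => e8
  | e5, e4 => e6
  | e5, e5 => e7
  | e5, e6 => e2
  | e5, e7 => e0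
  | e5, e8 => e1
  | e6, e0 => e6
  | e6, e1 => e7
  | e6, e2 => e8
  | e6, e3 => e0
  | e6, e4 => e1
  | e6, e5 => e2
  | e6, e6 => e3
  | e6, e7 => e4
  | e6, e8 => e5
  | e7, e0 => e7
  | e7, e1 => e8
  | e7, e2 => e6
  | e7, e3 => e1
  | e7, e4 => e2
  | e7, e5 => e0
  | e7, e6 => e4
  | e7, e7 => e5
  | e7, e8 => e3
  | e8, e0 => e8
  | e8, e1 => e6
  | e8, e2 => e7
  | e8, e3 => e2
  | e8, e4 => e0
  | e8, e5 => e1
  | e8, e6 => e5
  | e8, e7 => e3
  | e8, e8 => e4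

/-- multiplication -/
def mul : F9c → F9c → F9c
  | e0, e0 => e0
  | e0, e1 => e0
  | e0, e2 => e0
  | e0, e3 => e0
  | e0, e4 => e0
  | e0, e5 => e0
  | e0, e6 => e0
  | e0, e7 => e0
  | e0, e8 => e0
  | e1, e0 => e0
  | e1, e1 => e6
  | e1, e2 => e3
  | e1, e3 => e1
  | e1, e4 => e7
  | e1, e5 => e4
  | e1, e6 => e2
  | e1, e7 => e8
  | e1, e8 => e5
  | e2, e0 => e0
  | e2, e1 => e3
  | e2, e2 => e6
  | e2, e3 => e2
  | e2, e4 => e5
  | e2, e5 => e8
  | e2, e6 => e1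
  | e2, e7 => e4
  | e2, e8 => e7
  | e3, e0 => e0
  | e3, e1 => e1
  | e3, e2 => e2
  | e3, e3 => e3
  | e3, e4 => e4
  | e3, e5 => e5
  | e3, e6 => e6
  | e3, e7 => e7
  | e3, e8 => e8
  | e4, e0 => e0
  | e4, e1 => e7
  | e4, e2 => e5
  | e4, e3 => e4
  | e4, e4 => e2
  | e4, e5 => e6
  | e4, e6 => e8
  | e4, e7 => e3
  | e4, e8 => e1
  | e5, e0 => e0
  | e5, e1 => e4
  | e5, e2 => e8
  | e5, e3 => e5
  | e5, e4 => e6
  | e5, e5 => e1
  | e5, e6 => e7
  | e5, e7 => e2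
  | e5, e8 => e3
  | e6, e0 => e0
  | e6, e1 => e2
  | e6, e2 => e1
  | e6, e3 => e6
  | e6, e4 => e8
  | e6, e5 => e7
  | e6, e6 => e3
  | e6, e7 => e5
  | e6, e8 => e4
  | e7, e0 => e0
  | e7, e1 => e8
  | e7, e2 => e4
  | e7, e3 => e7
  | e7, e4 => e3
  | e7, e5 => e2
  | e7, e6 => e5
  | e7, e7 => e1
  | e7, e8 => e6
  | e8, e0 => e0
  | e8, e1 => e5
  | e8, e2 => e7
  | e8, e3 => e8
  | e8, e4 => e1
  | e8, e5 => e3
  | e8, e6 => e4
  | e8, e7 => e6
  | e8, e8 => e2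

/-- negation -/
def neg : F9c → F9c
  | e0 => e0
  | e1 => e2
  | e2 => e1
  | e3 => e6
  | e4 => e8
  | e5 => e7
  | e6 => e3
  | e7 => e5
  | e8 => e4

/-- inverse -/
def inv : F9c → F9c
  | e0 => e0
  | e1 => e2
  | e2 => e1
  | e3 => e3
  | e4 => e7
  | e5 => e8
  | e6 => e6
  | e7 => e4
  | e8 => e5

/-- the field involution `x ↦ x^3` -/
def cj : F9c → F9c
  | e0 => e0
  | e1 => e2
  | e2 => e1
  | e3 => e3
  | e4 => e5
  | e5 => e4
  | e6 => e6
  | e7 => e8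
  | e8 => e7

instance : Add F9c := ⟨add⟩
instance : Mul F9c := ⟨mul⟩
instance : Zero F9c := ⟨e0⟩
instance : One F9c := ⟨e3⟩
instance : Neg F9c := ⟨neg⟩
instance : Inv F9c := ⟨inv⟩

set_option maxRecDepth 100000 in
instance : Field F9c where
  add_assoc := by decide
  zero_add := by decide
  add_zero := by decide
  add_comm := by decide
  neg_add_cancel := by decide
  mul_assoc := by decide
  one_mul := by decide
  mul_one := by decide
  left_distrib := by decide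
  right_distrib := by decide
  zero_mul := by decide
  mul_zero := by decide
  mul_comm := by decide
  exists_pair_ne := ⟨e0, e3, by decide⟩
  mul_inv_cancel := by decide
  inv_zero := rfl
  nsmul := nsmulRec
  zsmul := zsmulRec
  nnqsmul := _
  qsmul := _

theorem card_eq : Fintype.card F9c = 9 := rfl

theorem cj_eq_pow : ∀ x : F9c, cj x = x ^ 3 := by decide

end F9c

end Cfsg.Agent.Lib.Helper26.U43
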