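import Cfsg.Agent.Lib.Helper26.U43Unitary

set_option autoImplicit false
set_option linter.unusedSectionVars false

/-!
An element of `SU_4(3)` fixing all isotropic points is a scalar matrix, hence central.
-/

namespace Cfsg.Agent.Lib.Helper26.U43

open Matrix Cfsg.Agent.Lib.Helper5 F9c

variable {F : Type*} [Field F] [Fintype F]

/-- the concrete standard basis vectors -/
def unitV : ℕ → V4
  | 0 => ⟨1, 0, 0, 0⟩
  | 1 => ⟨0, 1, 0, 0⟩
  | 2 => ⟨0, 0, 1, 0⟩
  | _ => ⟨0, 0, 0, 1⟩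

theorem vecF_unitV (hF : Fintype.card F = 9) (j : Fin 4) :
    vecF hF (unitV j.val) = Pi.single j 1 := by
  ext i
  fin_cases j <;> fin_cases i <;> simp [vecF, unitV]

theorem Bc_mul_Bi : Bc.mul Bi = M4.one := by decide
theorem Bi_mul_Bc : Bi.mul Bc = M4.one := by decide

theorem Bc_unit : ∀ j : Fin 4, Bc.mv (unitV j.val) = PT.getD (frameIdx.getD j.val 0) V4.zero := by
  decide +kernel

theorem Bc_alpha : Bc.mv alphaC = PT.getD (frameIdx.getD 4 0) V4.zero := by decide +kernel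

theorem alpha_ne : alphaC.a ≠ 0 ∧ alphaC.b ≠ 0 ∧ alphaC.c ≠ 0 ∧ alphaC.d ≠ 0 := by decide

theorem frame_lt : ∀ j : Fin 5, frameIdx.getD j.val 0 < 280 := by decide

theorem alpha_apply (hF : Fintype.card F = 9) (i : Fin 4) : vecF hF alphaC i ≠ 0 := by
  obtain ⟨h0, h1, h2, h3⟩ := alpha_ne
  fin_cases i
  · exact phi_ne_zero hF h0
  · exact phi_ne_zero hF h1
  · exact phi_ne_zero hF h2
  · exact phi_ne_zero hF h3

/-- a matrix having all the isotropic points as eigenvectors is scalar -/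
theorem scalar_of_fix (hF : Fintype.card F = 9) (Am : Matrix (Fin 4) (Fin 4) F)
    (h : ∀ n < 280, ∃ c : F, Am *ᵥ Pv hF n = c • Pv hF n) :
    ∃ μ : F, ∀ w : Fin 4 → F, Am *ᵥ w = μ • w := by
  set B := matF hF Bc with hB
  set B' := matF hF Bi with hB'
  have hBB' : B * B' = 1 := by rw [hB, hB', ← matF_mul, Bc_mul_Bi, matF_one]
  have hB'B : B' * B = 1 := by rw [hB, hB', ← matF_mul, Bi_mul_Bc, matF_one]
  -- the eigenvalues on the frame
  have hcol : ∀ j : Fin 4, ∃ c : F, Am *ᵥ (B *ᵥ Pi.single j 1) = c • (B *ᵥ Pi.single j 1) := by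
    intro j
    obtain ⟨c, hc⟩ := h (frameIdx.getD j.val 0) (frame_lt ⟨j.val, by omega⟩)
    refine ⟨c, ?_⟩
    have e : B *ᵥ Pi.single j 1 = Pv hF (frameIdx.getD j.val 0) := by
      rw [← vecF_unitV hF j, hB, matF_mulVec, Bc_unit j]; rfl
    rw [e]; exact hc
  choose lam hlam using hcol
  obtain ⟨μ, hμ⟩ := h (frameIdx.getD 4 0) (frame_lt ⟨4, by omega⟩)
  have e4 : B *ᵥ vecF hF alphaC = Pv hF (frameIdx.getD 4 0) := by
    rw [hB, matF_mulVec, Bc_alpha]; rfl
  rw [← e4] at hμ
  set C := B' * Am * B with hC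
  have hCj : ∀ j : Fin 4, C *ᵥ Pi.single j 1 = lam j • Pi.single j 1 := by
    intro j
    rw [hC, ← Matrix.mulVec_mulVec, ← Matrix.mulVec_mulVec, hlam j, Matrix.mulVec_smul,
      Matrix.mulVec_mulVec, hB'B, Matrix.one_mulVec]
  have hCd : C = Matrix.diagonal lam := by
    ext i j
    have := congrFun (hCj j) i
    rw [Matrix.mulVec_single_one] at this
    rw [Matrix.diagonal_apply]
    simp only [Matrix.col_apply, Pi.smul_apply, Pi.single_apply, smul_eq_mul] at this
    rw [this]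
    by_cases hij : i = j
    · simp [hij]
    · simp [hij]
  have hCa : C *ᵥ vecF hF alphaC = μ • vecF hF alphaC := by
    rw [hC, ← Matrix.mulVec_mulVec, ← Matrix.mulVec_mulVec, hμ, Matrix.mulVec_smul,
      Matrix.mulVec_mulVec, hB'B, Matrix.one_mulVec]
  have hlamμ : ∀ i : Fin 4, lam i = μ := by
    intro i
    have := congrFun hCa i
    rw [hCd, Matrix.mulVec_diagonal] at this
    simp only [Pi.smul_apply, smul_eq_mul] at this
    exact mul_right_cancel₀ (alpha_apply hF i) this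
  have hCμ : C = μ • (1 : Matrix (Fin 4) (Fin 4) F) := by
    rw [hCd]
    have : lam = fun _ => μ := funext hlamμ
    rw [this]
    ext i j
    by_cases hij : i = j
    · simp [hij]
    · simp [hij]
  have hAm : Am = μ • (1 : Matrix (Fin 4) (Fin 4) F) := by
    have : Am = B * C * B' := by
      rw [hC]
      calc Am = (B * B') * Am * (B * B') := by rw [hBB', Matrix.one_mul, Matrix.mul_one]
        _ = B * (B' * Am * B) * B' := by simp only [Matrix.mul_assoc]
    rw [this, hCμ, Matrix.mul_smul, Matrix.mul_one, Matrix.smul_mul, hBB']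
  refine ⟨μ, fun w => ?_⟩
  rw [hAm, Matrix.smul_mulVec, Matrix.one_mulVec]

/-- an element of `SU_4(3)` fixing all the isotropic points is central -/
theorem central_of_fix (hF : Fintype.card F = 9) (A : Cfsg.SU 4 F 3)
    (h : ∀ n < 280, ∃ c : F, mat A *ᵥ Pv hF n = c • Pv hF n) :
    A ∈ Subgroup.center (Cfsg.SU 4 F 3) := by
  obtain ⟨μ, hμ⟩ := scalar_of_fix hF (mat A) h
  rw [Subgroup.mem_center_iff]
  intro g
  apply mat_inj
  rw [mat_mul, mat_mul, Matrix.ext_iff_mulVec]
  intro w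
  rw [← Matrix.mulVec_mulVec, ← Matrix.mulVec_mulVec, hμ, hμ, Matrix.mulVec_smul]

end Cfsg.Agent.Lib.Helper26.U43
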