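import Cfsg.Agent.Lib.Helper26.U43F9

set_option autoImplicit false

/-!
Vectors of length 4 and `4 × 4` matrices over the concrete field with nine elements, as records.
-/

namespace Cfsg.Agent.Lib.Helper26.U43

open F9c

/-- vectors of length 4 -/
structure V4 : Type where
  a : F9c
  b : F9c
  c : F9c
  d : F9c
  deriving DecidableEq

/-- `4 × 4` matrices, by rows -/
structure M4 : Type where
  r0 : V4
  r1 : V4
  r2 : V4
  r3 : V4
  deriving DecidableEq

namespace V4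

/-- the bilinear dot product -/
def dot (x y : V4) : F9c := x.a * y.a + x.b * y.b + x.c * y.c + x.d * y.d

/-- scalar multiple -/
def smul (k : F9c) (x : V4) : V4 := ⟨k * x.a, k * x.b, k * x.c, k * x.d⟩

/-- entrywise field involution -/
def cjv (x : V4) : V4 := ⟨cj x.a, cj x.b, cj x.c, cj x.d⟩

/-- the hermitian form `Σ x_i y_i^3` -/
def herm (x y : V4) : F9c := dot x (cjv y)

/-- the zero vector -/
def zero : V4 := ⟨0, 0, 0, 0⟩

end V4

namespace M4

/-- matrix times column vector -/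
def mv (M : M4) (v : V4) : V4 := ⟨M.r0.dot v, M.r1.dot v, M.r2.dot v, M.r3.dot v⟩

def col0 (M : M4) : V4 := ⟨M.r0.a, M.r1.a, M.r2.a, M.r3.a⟩
def col1 (M : M4) : V4 := ⟨M.r0.b, M.r1.b, M.r2.b, M.r3.b⟩
def col2 (M : M4) : V4 := ⟨M.r0.c, M.r1.c, M.r2.c, M.r3.c⟩
def col3 (M : M4) : V4 := ⟨M.r0.d, M.r1.d, M.r2.d, M.r3.d⟩

/-- transpose -/
def tr (M : M4) : M4 := ⟨M.col0, M.col1, M.col2, M.col3⟩

/-- row of a product -/
def rowMul (r : V4) (B : M4) : V4 := ⟨r.dot B.col0, r.dot B.col1, r.dot B.col2, r.dot B.col3⟩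

/-- matrix product -/
def mul (A B : M4) : M4 := ⟨rowMul A.r0 B, rowMul A.r1 B, rowMul A.r2 B, rowMul A.r3 B⟩

/-- entrywise field involution -/
def cjm (M : M4) : M4 := ⟨M.r0.cjv, M.r1.cjv, M.r2.cjv, M.r3.cjv⟩

/-- identity -/
def one : M4 := ⟨⟨1, 0, 0, 0⟩, ⟨0, 1, 0, 0⟩, ⟨0, 0, 1, 0⟩, ⟨0, 0, 0, 1⟩⟩

/-- determinant, by expansion along the first row -/
def det (M : M4) : F9c :=
  match M with
  | ⟨⟨a, b, c, d⟩, ⟨e, f, g, h⟩, ⟨i, j, k, l⟩, ⟨m, n, o, p⟩⟩ =>
    a * (f * (k * p - l * o) - g * (j * p - l * n) + h * (j * o - k * n))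
      - b * (e * (k * p - l * o) - g * (i * p - l * m) + h * (i * o - k * m))
      + c * (e * (j * p - l * n) - f * (i * p - l * m) + h * (i * n - j * m))
      - d * (e * (j * o - k * n) - f * (i * o - k * m) + g * (i * n - j * m))

/-- determinant one and unitary -/
def Good (M : M4) : Prop := M.det = 1 ∧ M.tr.mul M.cjm = one

instance (M : M4) : Decidable M.Good := by unfold Good; infer_instance

end M4

end Cfsg.Agent.Lib.Helper26.U43
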