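import Cfsg.Agent.Lib.Helper26.U43Frame
import Cfsg.Agent.Lib.Helper26.U43Card
import Cfsg.Agent.Lib.Helper26.U43Checks
import Cfsg.Agent.S0279
import Cfsg.Agent.S0280

set_option autoImplicit false
set_option linter.unusedSectionVars false

/-!
The point stabiliser `K0` of the McLaughlin group is isomorphic to `PSU_4(3)`: the relation between
elements of `SU_4(3)` and of `K0` acting compatibly on the 280 isotropic points (each with its four
lines, which correspond to the 112 vectors) is the graph of a surjective homomorphism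
`SU_4(3) → K0` whose kernel is the centre.
-/

namespace Cfsg.Agent.Lib.Helper26.U43

open Matrix Cfsg Cfsg.Agent.Lib.Conway Cfsg.Agent.Lib.Helper5 F9c

variable {F : Type*} [Field F] [Fintype F]

/-- compatibility of a matrix and an automorphism -/
def Rel (hF : Fintype.card F = 9) (A : Cfsg.SU 4 F 3) (k : Co0) : Prop :=
  k ∈ McL.K0 ∧ ∀ n < 280, ∃ m < 280, (∃ c : F, c ≠ 0 ∧ mat A *ᵥ Pv hF n = c • Pv hF m) ∧
    ∀ i < 4, ∃ i' < 4, k • Yv (Qi n i) = Yv (Qi m i')

theorem Pv_inj (hF : Fintype.card F = 9) {n m : ℕ} (hn : n < 280) (hm : m < 280) {c : F}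
    (h : Pv hF n = c • Pv hF m) : n = m := by
  obtain ⟨c', rfl⟩ := (phi hF).surjective c
  unfold Pv at h
  rw [← vecF_smul] at h
  exact PT_prop n hn m hm c' (vecF_inj hF h)

theorem rel_one (hF : Fintype.card F = 9) : Rel hF 1 1 :=
  ⟨McL.K0.one_mem, fun n hn => ⟨n, hn, ⟨1, one_ne_zero, by rw [mat_one, Matrix.one_mulVec, one_smul]⟩,
    fun i hi => ⟨i, hi, one_smul _ _⟩⟩⟩

theorem rel_mul (hF : Fintype.card F = 9) {A A' : Cfsg.SU 4 F 3} {k k' : Co0}
    (h : Rel hF A k) (h' : Rel hF A' k') : Rel hF (A * A') (k * k') := by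
  refine ⟨McL.K0.mul_mem h.1 h'.1, fun n hn => ?_⟩
  obtain ⟨m, hm, ⟨c, hc, hA'⟩, hk'⟩ := h'.2 n hn
  obtain ⟨l, hl, ⟨d, hd, hA⟩, hk⟩ := h.2 m hm
  refine ⟨l, hl, ⟨c * d, mul_ne_zero hc hd, ?_⟩, fun i hi => ?_⟩
  · rw [mat_mul, ← Matrix.mulVec_mulVec, hA', Matrix.mulVec_smul, hA, smul_smul]
  · obtain ⟨i', hi', e'⟩ := hk' i hi
    obtain ⟨i'', hi'', e''⟩ := hk i' hi'
    exact ⟨i'', hi'', by rw [mul_smul, e', e'']⟩

/-- the relation as a submonoid of the product -/
def RelM (hF : Fintype.card F = 9) : Submonoid (Cfsg.SU 4 F 3 × Co0) where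
  carrier := {p | Rel hF p.1 p.2}
  one_mem' := rel_one hF
  mul_mem' := fun h h' => rel_mul hF h h'

theorem inv_mem_of_submonoid {G : Type*} [Group G] [Finite G] (S : Submonoid G) {x : G}
    (hx : x ∈ S) : x⁻¹ ∈ S := by
  have hpos := orderOf_pos x
  have : x⁻¹ = x ^ (orderOf x - 1) := by
    apply inv_eq_of_mul_eq_one_right
    rw [← pow_succ', Nat.sub_add_cancel hpos, pow_orderOf_eq_one]
  rw [this]
  exact S.pow_mem hx _

theorem rel_inv (hF : Fintype.card F = 9) {A : Cfsg.SU 4 F 3} {k : Co0} (h : Rel hF A k) :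
    Rel hF A⁻¹ k⁻¹ := by
  have := Cfsg.Agent.Lib.Helper27.McLS.finite_Co0
  have : ((A, k) : Cfsg.SU 4 F 3 × Co0)⁻¹ ∈ RelM hF := inv_mem_of_submonoid (RelM hF) h
  exact this

/-- the matrices related to some automorphism -/
def D (hF : Fintype.card F = 9) : Subgroup (Cfsg.SU 4 F 3) where
  carrier := {A | ∃ k, Rel hF A k}
  one_mem' := ⟨1, rel_one hF⟩
  mul_mem' := fun ⟨k, h⟩ ⟨k', h'⟩ => ⟨k * k', rel_mul hF h h'⟩
  inv_mem' := fun ⟨k, h⟩ => ⟨k⁻¹, rel_inv hF h⟩

/-- the three explicit pairs -/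
theorem rel_elt (hF : Fintype.card F = 9) (e : ℕ) : Rel hF (mkG hF (ME e) (ME_good e)) (elt e) := by
  refine ⟨elt_mem e, fun n hn => ?_⟩
  obtain ⟨h1, h2, h3, h4⟩ := relOK_spec e n hn
  refine ⟨(piE e).getD n 0, h1, ⟨phi hF ((csE e).getD n 0), phi_ne_zero hF h2, ?_⟩, fun i hi => ?_⟩
  · rw [mat_mkG]
    unfold Pv
    rw [matF_mulVec, h3, vecF_smul]
  · obtain ⟨hlt, he⟩ := elt_Yv e (Qi n i) (Qi_lt n hn i hi)
    obtain ⟨i', hi', e'⟩ := exists_Qi_of_mem _ h1 _ (h4 i hi)
    exact ⟨i', hi', by rw [he, e']⟩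

theorem D_top (hF : Fintype.card F = 9) : D hF = ⊤ :=
  gen_top hF (D hF) ⟨elt 0, rel_elt hF 0⟩ ⟨elt 1, rel_elt hF 1⟩ ⟨elt 2, rel_elt hF 2⟩

theorem exists_rel (hF : Fintype.card F = 9) (A : Cfsg.SU 4 F 3) : ∃ k, Rel hF A k := by
  have : A ∈ D hF := by rw [D_top hF]; trivial
  exact this

/-- an automorphism related to the identity matrix is trivial -/
theorem rel_one_left (hF : Fintype.card F = 9) {k : Co0} (h : Rel hF 1 k) : k = 1 := by
  have key : ∀ n < 280, ∀ i < 4, ∃ i' < 4, k • Yv (Qi n i) = Yv (Qi n i') := by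
    intro n hn i hi
    obtain ⟨m, hm, ⟨c, hc, hA⟩, hk⟩ := h.2 n hn
    rw [mat_one, Matrix.one_mulVec] at hA
    have : n = m := Pv_inj hF hn hm hA
    subst this
    exact hk i hi
  apply rigid k h.1
  intro l hl
  obtain ⟨ha, hb, hla, hlb, huniq⟩ := PP_ok l hl
  obtain ⟨ia, hia, eia⟩ := exists_Qi_of_mem _ ha l hla
  obtain ⟨ib, hib, eib⟩ := exists_Qi_of_mem _ hb l hlb
  obtain ⟨ia', hia', ea⟩ := key _ ha ia hia
  obtain ⟨ib', hib', eb⟩ := key _ hb ib hib
  rw [eia] at ea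
  rw [eib] at eb
  have h1 : Qi (PP.getD l (0, 0)).1 ia' = Qi (PP.getD l (0, 0)).2 ib' :=
    Yv_inj (Qi_lt _ ha ia' hia') (Qi_lt _ hb ib' hib') (ea.symm.trans eb)
  have h2 : Qi (PP.getD l (0, 0)).1 ia' = l :=
    huniq _ (Qi_mem _ ha ia' hia') (by rw [h1]; exact Qi_mem _ hb ib' hib')
  rw [ea, h2]

theorem rel_unique (hF : Fintype.card F = 9) {A : Cfsg.SU 4 F 3} {k k' : Co0}
    (h : Rel hF A k) (h' : Rel hF A k') : k = k' := by
  have := rel_mul hF (rel_inv hF h) h'
  rw [inv_mul_cancel] at this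
  have := rel_one_left hF this
  exact inv_mul_eq_one.mp this

/-- a matrix related to the trivial automorphism is central -/
theorem rel_right_one (hF : Fintype.card F = 9) {A : Cfsg.SU 4 F 3} (h : Rel hF A 1) :
    A ∈ Subgroup.center (Cfsg.SU 4 F 3) := by
  apply central_of_fix hF A
  intro n hn
  obtain ⟨m, hm, ⟨c, hc, hA⟩, hk⟩ := h.2 n hn
  have hmem : ∀ i < 4, Qi n i ∈ QT.getD m [] := by
    intro i hi
    obtain ⟨i', hi', e⟩ := hk i hi
    rw [one_smul] at e
    rw [Yv_inj (Qi_lt n hn i hi) (Qi_lt m hm i' hi') e]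
    exact Qi_mem m hm i' hi'
  have : n = m := Q_inj n hn m hm (hmem 0 (by norm_num)) (hmem 1 (by norm_num))
  subst this
  exact ⟨c, hA⟩

/-- the homomorphism -/
noncomputable def theta (hF : Fintype.card F = 9) : Cfsg.SU 4 F 3 →* McL.K0 where
  toFun A := ⟨Classical.choose (exists_rel hF A), (Classical.choose_spec (exists_rel hF A)).1⟩
  map_one' := Subtype.ext (rel_unique hF (Classical.choose_spec (exists_rel hF 1)) (rel_one hF))
  map_mul' A B := Subtype.ext (rel_unique hF (Classical.choose_spec (exists_rel hF (A * B)))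
    (rel_mul hF (Classical.choose_spec (exists_rel hF A)) (Classical.choose_spec (exists_rel hF B))))

theorem theta_spec (hF : Fintype.card F = 9) (A : Cfsg.SU 4 F 3) :
    Rel hF A ((theta hF A : McL.K0) : Co0) :=
  Classical.choose_spec (exists_rel hF A)

theorem ker_le_center (hF : Fintype.card F = 9) :
    (theta hF).ker ≤ Subgroup.center (Cfsg.SU 4 F 3) := by
  intro A hA
  rw [MonoidHom.mem_ker] at hA
  have h := theta_spec hF A
  rw [hA] at h
  exact rel_right_one hF h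

/-! ### orders -/

theorem card_center (hF : Fintype.card F = 9) :
    Nat.card (Subgroup.center (Cfsg.SU 4 F 3)) = 4 := by
  have := Cfsg.Agent.S0279.result (card_sq hF) 4 (by norm_num)
  rw [this]
  rfl

theorem card_PSU (hF : Fintype.card F = 9) : Nat.card (Cfsg.PSU 4 F 3) = 3265920 := by
  have h := Cfsg.Agent.S0280.result (card_sq hF) 4 (by norm_num)
  have h2 : (∏ i ∈ Finset.range 4, (if Even i then 3 ^ (i + 1) + 1 else 3 ^ (i + 1) - 1) : ℕ)
      = 71680 := by decide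
  rw [h2] at h
  have h3 : Nat.gcd 4 (3 + 1) = 4 := rfl
  rw [h3] at h
  omega

theorem card_SU (hF : Fintype.card F = 9) : Nat.card (Cfsg.SU 4 F 3) = 13063680 := by
  rw [Subgroup.card_eq_card_quotient_mul_card_subgroup (Subgroup.center (Cfsg.SU 4 F 3)),
    card_center hF, card_PSU hF]

/-- the point stabiliser of the McLaughlin group is `PSU_4(3)` -/
theorem iso_K0 (hF : Fintype.card F = 9) : Nonempty (McL.K0 ≃* Cfsg.PSU 4 F 3) := by
  have := Cfsg.Agent.Lib.Helper27.McLS.finite_Co0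
  have hker := ker_le_center hF
  have h1 := Subgroup.card_eq_card_quotient_mul_card_subgroup (theta hF).ker
  have h2 : Nat.card (Cfsg.SU 4 F 3 ⧸ (theta hF).ker) = Nat.card (theta hF).range :=
    Nat.card_congr (QuotientGroup.quotientKerEquivRange (theta hF)).toEquiv
  have h3 : Nat.card (theta hF).range ≤ 3265920 :=
    le_trans (Subgroup.card_le_card_group _) (le_of_eq card_K0)
  have h4 : Nat.card (theta hF).ker ≤ 4 :=
    le_trans (Subgroup.card_le_of_le hker) (le_of_eq (card_center hF))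
  rw [card_SU hF, h2] at h1
  have h5 : Nat.card (theta hF).ker = 4 ∧ Nat.card (theta hF).range = 3265920 := by
    constructor <;> nlinarith
  have hkc : (theta hF).ker = Subgroup.center (Cfsg.SU 4 F 3) :=
    Subgroup.eq_of_le_of_card_ge hker (by rw [card_center hF, h5.1])
  have hsurj : Function.Surjective (theta hF) := by
    rw [← MonoidHom.range_eq_top]
    exact Subgroup.eq_top_of_card_eq _ (by rw [h5.2, card_K0])
  exact ⟨((QuotientGroup.quotientMulEquivOfEq hkc.symm).trans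
    (QuotientGroup.quotientKerEquivOfSurjective (theta hF) hsurj)).symm⟩

end Cfsg.Agent.Lib.Helper26.U43
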