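import Cfsg.Agent.Lib.Helper26.U43Bridge
import Cfsg.Agent.Lib.Helper26.U43Data
import Cfsg.Agent.S0779
import Cfsg.Agent.S0780

set_option autoImplicit false
set_option linter.unusedSectionVars false

/-!
`SU_4(3)` is generated by the two matrices `M1c`, `M2c` and one transvection: a subgroup containing
them contains all unitary transvections (the two matrices generate a group transitive on the
isotropic points), hence is everything by the generation theorem.
-/

namespace Cfsg.Agent.Lib.Helper26.U43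

open Matrix Cfsg.Agent.Lib.Helper5 F9c

variable {F : Type*} [Field F] [Fintype F]

/-! ### transvections -/

/-- concrete transvection matrix `1 + c v v^*` -/
def tvc (v : V4) (c : F9c) : M4 :=
  ⟨⟨1 + c * (v.a * cj v.a), c * (v.a * cj v.b), c * (v.a * cj v.c), c * (v.a * cj v.d)⟩,
   ⟨c * (v.b * cj v.a), 1 + c * (v.b * cj v.b), c * (v.b * cj v.c), c * (v.b * cj v.d)⟩,
   ⟨c * (v.c * cj v.a), c * (v.c * cj v.b), 1 + c * (v.c * cj v.c), c * (v.c * cj v.d)⟩,
   ⟨c * (v.d * cj v.a), c * (v.d * cj v.b), c * (v.d * cj v.c), 1 + c * (v.d * cj v.d)⟩⟩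

theorem ut_apply (w : Fin 4 → F) (c : F) (a b : Fin 4) :
    Cfsg.unitaryTransvection 4 3 w c a b = (if a = b then 1 else 0) + c * (w a * w b ^ 3) := by
  simp [Cfsg.unitaryTransvection, Matrix.one_apply, Matrix.vecMulVec_apply]

theorem matF_tvc (hF : Fintype.card F = 9) (v : V4) (c : F9c) :
    matF hF (tvc v c) = Cfsg.unitaryTransvection 4 3 (vecF hF v) (phi hF c) := by
  ext a b
  rw [ut_apply]
  fin_cases a <;> fin_cases b <;> simp [matF, tvc, vecF, phi_cj]

theorem ut_eq (hF : Fintype.card F = 9) (w : Fin 4 → F) (c : F) :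
    Cfsg.unitaryTransvection 4 3 w c = 1 + c • Matrix.vecMulVec w (frobQ (card_sq hF) ∘ w) := rfl

theorem frob_mulVec (hF : Fintype.card F = 9) (G : Matrix (Fin 4) (Fin 4) F) (w : Fin 4 → F) :
    frobQ (card_sq hF) ∘ (G *ᵥ w) = G.map (frobQ (card_sq hF)) *ᵥ (frobQ (card_sq hF) ∘ w) :=
  funext (RingHom.map_mulVec (frobQ (card_sq hF)) G w)

/-- conjugating a transvection by an isometry -/
theorem tv_conj (hF : Fintype.card F = 9) (g t t' : Cfsg.SU 4 F 3) (w : Fin 4 → F) (c : F)
    (ht : mat t = Cfsg.unitaryTransvection 4 3 w c)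
    (ht' : mat t' = Cfsg.unitaryTransvection 4 3 (mat g *ᵥ w) c) : t' = g * t * g⁻¹ := by
  rw [eq_mul_inv_iff_mul_eq]
  apply mat_inj
  rw [mat_mul, mat_mul, ht, ht', ut_eq hF, ut_eq hF]
  have hG := (isHermIso_mat g).transpose_mul_map (card_sq hF)
  have hG' : ((mat g).map (frobQ (card_sq hF)))ᵀ * mat g = 1 := by
    have := congrArg Matrix.transpose hG
    rwa [Matrix.transpose_mul, Matrix.transpose_one] at this
  have key : (frobQ (card_sq hF) ∘ (mat g *ᵥ w)) ᵥ* mat g = frobQ (card_sq hF) ∘ w := by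
    rw [frob_mulVec hF, ← Matrix.vecMul_transpose, Matrix.vecMul_vecMul, hG', Matrix.vecMul_one]
  rw [add_mul, one_mul, Matrix.smul_mul, Matrix.vecMulVec_mul, key, mul_add, mul_one,
    Matrix.mul_smul, Matrix.mul_vecMulVec]

/-- rescaling the vector of a transvection -/
theorem tv_scale (w : Fin 4 → F) (c ν : F) :
    Cfsg.unitaryTransvection 4 3 (ν • w) c = Cfsg.unitaryTransvection 4 3 w (c * ν ^ 4) := by
  ext a b
  simp only [Cfsg.unitaryTransvection, Matrix.add_apply, Matrix.smul_apply, Matrix.vecMulVec_apply,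
    Pi.smul_apply, smul_eq_mul]
  ring

theorem tv_zero_vec (c : F) : Cfsg.unitaryTransvection 4 3 (0 : Fin 4 → F) c = 1 := by
  ext a b
  simp [Cfsg.unitaryTransvection]

theorem tv_zero_coef (w : Fin 4 → F) : Cfsg.unitaryTransvection 4 3 w (0 : F) = 1 := by
  simp [Cfsg.unitaryTransvection]

/-! ### the isotropic points -/

/-- the first non-zero coordinate -/
def lead (v : V4) : F9c :=
  if v.a ≠ 0 then v.a else if v.b ≠ 0 then v.b else if v.c ≠ 0 then v.c else v.d

/-- the multiple with first non-zero coordinate 1 -/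
def nrm (v : V4) : V4 := V4.smul (lead v)⁻¹ v

set_option maxRecDepth 100000 in
theorem complete_c : ∀ a b c d : F9c, V4.herm ⟨a, b, c, d⟩ ⟨a, b, c, d⟩ = 0 →
    (⟨a, b, c, d⟩ : V4) = V4.zero ∨ (lead ⟨a, b, c, d⟩ ≠ 0 ∧ nrm ⟨a, b, c, d⟩ ∈ PT ∧
      (⟨a, b, c, d⟩ : V4) = V4.smul (lead ⟨a, b, c, d⟩) (nrm ⟨a, b, c, d⟩)) := by
  decide +kernel

theorem PT_length : PT.length = 280 := by decide +kernel

/-- the points over `F` -/
noncomputable def Pv (hF : Fintype.card F = 9) (n : ℕ) : Fin 4 → F := vecF hF (PT.getD n V4.zero)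

theorem phi_ne_zero (hF : Fintype.card F = 9) {x : F9c} (hx : x ≠ 0) : phi hF x ≠ 0 := by
  intro h
  apply hx
  have := (phi hF).injective (h.trans (map_zero (phi hF)).symm)
  exact this

/-- every isotropic vector is a multiple of a point of the list -/
theorem complete (hF : Fintype.card F = 9) (w : Fin 4 → F) (hw : w ≠ 0)
    (hw0 : Cfsg.hermForm 4 F 3 w w = 0) : ∃ n < 280, ∃ l : F, l ≠ 0 ∧ w = l • Pv hF n := by
  obtain ⟨x, rfl⟩ := vecF_surj hF w
  rw [hermForm_vecF] at hw0
  have hx0 : V4.herm x x = 0 := (phi hF).injective (hw0.trans (map_zero (phi hF)).symm)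
  obtain ⟨a, b, c, d⟩ := x
  rcases complete_c a b c d hx0 with h | ⟨h1, h2, h3⟩
  · exfalso
    apply hw
    rw [h, vecF_zero]
  · obtain ⟨n, hn, hnx⟩ := List.mem_iff_getElem.mp h2
    refine ⟨n, by rw [← PT_length]; exact hn, phi hF (lead ⟨a, b, c, d⟩), phi_ne_zero hF h1, ?_⟩
    unfold Pv
    rw [List.getD_eq_getElem _ _ hn, hnx, ← vecF_smul, ← h3]

/-! ### the spanning tree -/

theorem M1c_good : M1c.Good := by decide
theorem M2c_good : M2c.Good := by decide

/-- the base point -/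
def P0 : V4 := PT.getD 0 V4.zero

theorem Tp_good : (tvc P0 e1).Good := by decide
theorem Tm_good : (tvc P0 e2).Good := by decide
theorem Tm_mul_Tp : (tvc P0 e2).mul (tvc P0 e1) = M4.one := by decide

/-- the generator with index `k` -/
def genC (k : ℕ) : M4 := if k = 0 then M1c else M2c

theorem genC_good (k : ℕ) : (genC k).Good := by
  unfold genC
  split
  · exact M1c_good
  · exact M2c_good

/-- check of the tree -/
def treeOK : ℕ → List (ℕ × ℕ × F9c) → Bool
  | _, [] => true
  | i, (par, k, c) :: es =>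
    decide (par < i) && decide (c ≠ 0) &&
      decide ((genC k).mv (PT.getD par V4.zero) = V4.smul c (PT.getD i V4.zero)) &&
      treeOK (i + 1) es

theorem treeOK_spec (s : ℕ) (es : List (ℕ × ℕ × F9c)) (h : treeOK s es = true) (n : ℕ)
    (hn : n < es.length) :
    (es.getD n (0, 0, 0)).1 < s + n ∧ (es.getD n (0, 0, 0)).2.2 ≠ 0 ∧
      (genC (es.getD n (0, 0, 0)).2.1).mv (PT.getD (es.getD n (0, 0, 0)).1 V4.zero) =
        V4.smul (es.getD n (0, 0, 0)).2.2 (PT.getD (s + n) V4.zero) := by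
  induction es generalizing s n with
  | nil => simp at hn
  | cons e es ih =>
    obtain ⟨par, k, c⟩ := e
    rw [treeOK, Bool.and_eq_true, Bool.and_eq_true, Bool.and_eq_true, decide_eq_true_iff,
      decide_eq_true_iff, decide_eq_true_iff] at h
    cases n with
    | zero => exact ⟨h.1.1.1, h.1.1.2, h.1.2⟩
    | succ n =>
      have := ih (s + 1) h.2 n (by simpa using hn)
      rw [List.getD_cons_succ]
      have e : s + (n + 1) = s + 1 + n := by omega
      rw [e]
      exact this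

set_option maxRecDepth 100000 in
theorem tree_ok : treeOK 1 PE = true := by decide +kernel

theorem PE_length : PE.length = 279 := by decide +kernel

/-- a subgroup containing the two generators is transitive on the points -/
theorem tree_reach_pts (hF : Fintype.card F = 9) (D : Subgroup (Cfsg.SU 4 F 3))
    (hD : ∀ k, mkG hF (genC k) (genC_good k) ∈ D) (n : ℕ) (hn : n < 280) :
    ∃ g ∈ D, ∃ c : F, c ≠ 0 ∧ mat g *ᵥ Pv hF 0 = c • Pv hF n := by
  induction n using Nat.strong_induction_on with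
  | _ n ih =>
    rcases Nat.eq_zero_or_pos n with rfl | hpos
    · exact ⟨1, D.one_mem, 1, one_ne_zero, by rw [mat_one, Matrix.one_mulVec, one_smul]⟩
    · obtain ⟨m, rfl⟩ : ∃ m, n = 1 + m := ⟨n - 1, by omega⟩
      have hm : m < PE.length := by rw [PE_length]; omega
      obtain ⟨h1, h2, h3⟩ := treeOK_spec 1 PE tree_ok m hm
      set e := PE.getD m (0, 0, 0) with he
      obtain ⟨g, hg, c, hc, hgc⟩ := ih e.1 h1 (by omega)
      refine ⟨mkG hF (genC e.2.1) (genC_good _) * g, D.mul_mem (hD _) hg, phi hF e.2.2 * c,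
        mul_ne_zero (phi_ne_zero hF h2) hc, ?_⟩
      rw [mat_mul, ← Matrix.mulVec_mulVec, hgc, Matrix.mulVec_smul, mat_mkG]
      unfold Pv
      rw [matF_mulVec, h3, vecF_smul, smul_smul, mul_comm]

/-! ### generation -/

theorem pow_eight (hF : Fintype.card F = 9) {x : F} (hx : x ≠ 0) : x ^ 8 = 1 := by
  have := FiniteField.pow_card_sub_one_eq_one x hx
  rwa [hF] at this

theorem Pv_zero (hF : Fintype.card F = 9) : Pv hF 0 = vecF hF P0 := rfl

/-- a subgroup of `SU_4(3)` containing the two generators and the transvection is everything -/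
theorem gen_top (hF : Fintype.card F = 9) (D : Subgroup (Cfsg.SU 4 F 3))
    (h1 : mkG hF M1c M1c_good ∈ D) (h2 : mkG hF M2c M2c_good ∈ D)
    (ht : mkG hF (tvc P0 e1) Tp_good ∈ D) : D = ⊤ := by
  have hD : ∀ k, mkG hF (genC k) (genC_good k) ∈ D := by
    intro k
    by_cases hk : k = 0
    · have : mkG hF (genC k) (genC_good k) = mkG hF M1c M1c_good := by
        apply mat_inj; rw [mat_mkG, mat_mkG]; simp [genC, hk]
      rw [this]; exact h1
    · have : mkG hF (genC k) (genC_good k) = mkG hF M2c M2c_good := by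
        apply mat_inj; rw [mat_mkG, mat_mkG]; simp [genC, hk]
      rw [this]; exact h2
  have htm : mkG hF (tvc P0 e2) Tm_good ∈ D := by
    have : mkG hF (tvc P0 e2) Tm_good = (mkG hF (tvc P0 e1) Tp_good)⁻¹ := by
      apply eq_inv_of_mul_eq_one_left
      apply mat_inj
      rw [mat_mul, mat_mkG, mat_mkG, ← matF_mul, Tm_mul_Tp, matF_one, mat_one]
    rw [this]; exact D.inv_mem ht
  rw [eq_top_iff, ← Cfsg.Agent.S0780.result (card_sq hF) 4 (by norm_num) (by norm_num),
    Subgroup.closure_le]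
  rintro t ⟨v, c, hv, hmat⟩
  have hmat' : mat t = Cfsg.unitaryTransvection 4 3 v c := hmat
  by_cases hv0 : v = 0
  · have : t = 1 := by
      apply mat_inj
      rw [hmat', hv0, tv_zero_vec, mat_one]
    rw [this]; exact D.one_mem
  by_cases hc0 : c = 0
  · have : t = 1 := by
      apply mat_inj
      rw [hmat', hc0, tv_zero_coef, mat_one]
    rw [this]; exact D.one_mem
  have hiso : ∀ x y : Fin 4 → F, Cfsg.hermForm 4 F 3 ((Cfsg.unitaryTransvection 4 3 v c).mulVec x)
      ((Cfsg.unitaryTransvection 4 3 v c).mulVec y) = Cfsg.hermForm 4 F 3 x y := by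
    rw [← hmat']
    exact isHermIso_mat t
  have hc2 : c ^ 2 = -1 :=
    ((Cfsg.Agent.S0779.result (card_sq hF) 4 v hv0 hv c).mp hiso).resolve_left hc0
  obtain ⟨n, hn, l, hl, hvn⟩ := complete hF v hv0 hv
  obtain ⟨g, hgD, μ, hμ, hgn⟩ := tree_reach_pts hF D hD n hn
  set ν := l * μ⁻¹ with hν
  have hν0 : ν ≠ 0 := mul_ne_zero hl (inv_ne_zero hμ)
  have hv' : v = mat g *ᵥ (ν • Pv hF 0) := by
    rw [Matrix.mulVec_smul, hgn, smul_smul, hν, mul_assoc, inv_mul_cancel₀ hμ, mul_one, hvn]
  set c' := c * ν ^ 4 with hc'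
  have hc'2 : c' ^ 2 = (phi hF e1) ^ 2 := by
    have h8 : ν ^ 8 = 1 := pow_eight hF hν0
    have : (phi hF e1) ^ 2 = -1 := by
      rw [← map_pow]
      have : (e1 : F9c) ^ 2 = -1 := by decide
      rw [this, map_neg, map_one]
    rw [this, hc', mul_pow, hc2, ← pow_mul, h8, mul_one]
  have key : ∀ t0 : Cfsg.SU 4 F 3, t0 ∈ D → mat t0 = Cfsg.unitaryTransvection 4 3 (Pv hF 0) c' →
      t ∈ D := by
    intro t0 ht0 hmat0
    have h1 : mat t0 = Cfsg.unitaryTransvection 4 3 (ν • Pv hF 0) c := by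
      rw [tv_scale, hmat0]
    have h2 : mat t = Cfsg.unitaryTransvection 4 3 (mat g *ᵥ (ν • Pv hF 0)) c := by
      rw [← hv']; exact hmat'
    rw [tv_conj hF g t0 t _ c h1 h2]
    exact D.mul_mem (D.mul_mem hgD ht0) (D.inv_mem hgD)
  rcases sq_eq_sq_iff_eq_or_eq_neg.mp hc'2 with h | h
  · apply key _ ht
    rw [mat_mkG, matF_tvc, h, Pv_zero]
  · apply key _ htm
    have : -(phi hF e1) = phi hF e2 := by
      rw [← map_neg]
      congr 1
    rw [mat_mkG, matF_tvc, h, this, Pv_zero]

end Cfsg.Agent.Lib.Helper26.U43
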